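import Cfsg.Agent.OddHalf.NI.Mult
import Cfsg.Agent.S0262
import Cfsg.Agent.S0242
import Cfsg.Agent.LieClassical.SLGen
import Cfsg.Agent.H928.Ore.Frame
import Cfsg.Agent.H146.OreOdd
import Cfsg.Agent.TitsThree.KSideO
import Cfsg.Agent.H235.Ore.McL
import Cfsg.Agent.KFacts.Co1.InCo1
import Cfsg.Agent.StdG24.P957Of_m3
import Cfsg.Agent.StandardComponent.FiRedVec_mg_m3
import Cfsg.Agent.StdO8.Gen_m3
import Cfsg.Agent.KFacts.Co1.YBig
import Cfsg.Agent.H840.Width
import Cfsg.Agent.H841.Phi_m3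
import Mathlib
import Cfsg.Agent.Lib.PermNetFast
import Cfsg.Agent.H6.QO.Frame
import Cfsg.Agent.H643.QO.Cov_m3
import Cfsg.Agent.H113.QS.DatZ
import Cfsg.Agent.H604.Cop.Conway
import Cfsg.Agent.H134.Sq.Base_m3
import Cfsg.Agent.SigZeroCo2.Lin
import Cfsg.Agent.H841.TwG_m3
import Cfsg.Agent.H63.Asm
import Cfsg.Agent.S2094
import Cfsg.Agent.S2096
import Cfsg.Agent.S2097
import Cfsg.Agent.S2099
import Cfsg.Agent.H347.HX.G23.Main
import Cfsg.Agent.S2101
import Cfsg.Agent.H64.G23Upper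
import Cfsg.Agent.H64.CrossChev
import Cfsg.Agent.H928.Ore.TwFin
import Cfsg.Agent.S0248
import Cfsg.Agent.H928.Ore.TwAll_m3
import Cfsg.Agent.S2108
import Cfsg.Agent.FastGrp
import Cfsg.Agent.Prune
set_option linter.all false

section
prune_inst 0x7fb0adf929a8a9dfdfff7e3fae91ddfc31800fffa6dff94b3fe021af2bdf23000dc5638589e010fe0e42c21410a87803b97eeeffe06bdc7ffffd5fb41ffbee0fe5f63508519488340eac0ff603f0770e6f3ffeff7fffffffffffffffffffffaeffbfefffffff

-- part: H231/QS/Lift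
section
prune_inst 0x100800000000000000000000010000010000000
set_option linter.all false
open scoped Cfsg.Agent.FastGrp

/-!
Central extensions by `r`-groups, `r ≠ p` (S2491, S2492, piece C4).

* `hom_eq` : homomorphisms from a perfect group which agree modulo a central kernel are equal;
* `exists_lift` : a homomorphism from a group which is generated by elements of order `p` and has cyclic Sylow
  `r`-subgroups lifts through a central extension by an `r`-group, `r ≠ p`;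
* `cyc_two`, `cyc_three` : the Sylow 3-subgroups of `SL₂(F)`, and of `SL₃(F)`, `|F| ≡ 2 mod 3`;
* `eq_of_pow`, `nf_lift`, `isPGroup_UN` : lifted root group data.
-/

set_option autoImplicit false
set_option linter.unusedSectionVars false

namespace Cfsg.Agent.H231.QS.Lift

open Cfsg.Agent.Nodes.RGDLift
open scoped commutatorElement

/-- homomorphisms from a perfect group which agree modulo a central kernel are equal -/
theorem hom_eq {S E Y : Type*} [Group S] [Group E] [Group Y] (hS : commutator S = ⊤) {f : E →* Y}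
    (hc : f.ker ≤ Subgroup.center E) {a b : S →* E} (h : ∀ g, f (a g) = f (b g)) : a = b := by
  have hz : ∀ g, ∃ z ∈ Subgroup.center E, b g = a g * z := fun g =>
    ⟨(a g)⁻¹ * b g, hc (by rw [MonoidHom.mem_ker, map_mul, map_inv, h g, inv_mul_cancel]), by group⟩
  have h1 : commutator S ≤ MonoidHom.eqLocus a b := by
    rw [commutator_def, Subgroup.commutator_le]
    intro g _ k _
    obtain ⟨z, hz1, hz2⟩ := hz g
    obtain ⟨w, hw1, hw2⟩ := hz k
    have hz' : ∀ x, z * x = x * z := fun x => (Subgroup.mem_center_iff.1 hz1 x).symm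
    have hw' : ∀ x, w * x = x * w := fun x => (Subgroup.mem_center_iff.1 hw1 x).symm
    change a ⁅g, k⁆ = b ⁅g, k⁆
    rw [map_commutatorElement, map_commutatorElement, hz2, hw2]
    simp only [commutatorElement_def, mul_inv_rev]
    symm
    calc a g * z * (a k * w) * (z⁻¹ * (a g)⁻¹) * (w⁻¹ * (a k)⁻¹)
        = a g * (z * (a k * w)) * z⁻¹ * (a g)⁻¹ * w⁻¹ * (a k)⁻¹ := by group
      _ = a g * a k * (w * (a g)⁻¹) * w⁻¹ * (a k)⁻¹ := by rw [hz']; group
      _ = a g * a k * (a g)⁻¹ * (a k)⁻¹ := by rw [hw']; group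
  rw [hS] at h1
  exact MonoidHom.ext fun g => h1 (Subgroup.mem_top g)

/-- central `r`-elements of the commutator subgroup are trivial if the Sylow `r`-subgroups are abelian -/
theorem eq_one_of_transfer {D : Type*} [Group D] [Finite D] {r : ℕ} [Fact r.Prime] (Q : Sylow r D)
    (hQ : ∀ a ∈ (Q : Subgroup D), ∀ b ∈ (Q : Subgroup D), a * b = b * a) {x : D} (hx : x ∈ Subgroup.center D)
    (hx' : x ∈ commutator D) {k : ℕ} (hk : x ^ r ^ k = 1) : x = 1 := by
  let _ : CommGroup ↥(Q : Subgroup D) :=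
    { (inferInstance : Group ↥(Q : Subgroup D)) with mul_comm := fun a b => Subtype.ext (hQ _ a.2 _ b.2) }
  have h1 := MonoidHom.transfer_eq_pow (MonoidHom.id ↥(Q : Subgroup D)) x (fun k g₀ _ => by
    have h2 : ∀ k, g₀⁻¹ * x ^ k * g₀ = x ^ k := fun k => by
      have h3 := Subgroup.mem_center_iff.1 (Subgroup.pow_mem _ hx k) g₀⁻¹
      rw [h3]; group
    exact h2 k)
  have h2 : (MonoidHom.transfer (MonoidHom.id ↥(Q : Subgroup D))) x = 1 :=
    Abelianization.commutator_subset_ker _ hx'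
  rw [h2] at h1
  have h3 : x ^ (Q : Subgroup D).index = 1 := (congrArg Subtype.val h1).symm
  have hc : ((Q : Subgroup D).index).Coprime (r ^ k) := by
    refine Nat.Coprime.pow_right k ?_
    rw [Nat.coprime_comm, Nat.Prime.coprime_iff_not_dvd Fact.out]
    exact Q.not_dvd_index
  have h4 : orderOf x ∣ 1 := by
    rw [← hc]
    exact Nat.dvd_gcd (orderOf_dvd_of_pow_eq_one h3) (orderOf_dvd_of_pow_eq_one hk)
  exact orderOf_eq_one_iff.1 (Nat.dvd_one.1 h4)

/-- **Lifting.** -/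
theorem exists_lift {S E Y : Type*} [Group S] [Finite S] [Group E] [Finite E] [Group Y] {p r : ℕ} [Fact p.Prime]
    [Fact r.Prime] (hpr : p ≠ r) {f : E →* Y} (hs : Function.Surjective f) (hc : f.ker ≤ Subgroup.center E)
    (hr : IsPGroup r f.ker) (s : S →* Y) (hgen : Subgroup.closure {g : S | g ^ p = 1} = ⊤)
    (hcyc : ∀ P : Sylow r S, IsCyclic (P : Subgroup S)) : ∃ s' : S →* E, f.comp s' = s := by
  classical
  have hker : (Nat.card f.ker).Coprime p := by
    obtain ⟨k, hk⟩ := IsPGroup.iff_card.1 hr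
    rw [hk]
    exact Nat.Coprime.pow_left k ((Nat.coprime_primes Fact.out Fact.out).2 (Ne.symm hpr))
  let D : Subgroup (S × E) := Subgroup.closure {y | s y.1 = f y.2 ∧ y ^ p = 1}
  have hD : ∀ y ∈ D, s y.1 = f y.2 := by
    intro y hy
    have h1 : D ≤ MonoidHom.eqLocus (s.comp (MonoidHom.fst S E)) (f.comp (MonoidHom.snd S E)) := by
      rw [Subgroup.closure_le]
      exact fun y hy => hy.1
    exact h1 hy
  let π : D →* S := (MonoidHom.fst S E).comp D.subtype
  have hkerπ : ∀ x : D, π x = 1 → f x.1.2 = 1 := by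
    intro x hx
    have h1 := hD _ x.2
    have h3 : x.1.1 = 1 := hx
    rw [h3, map_one] at h1
    exact h1.symm
  have hcen : π.ker ≤ Subgroup.center D := by
    intro x hx
    rw [Subgroup.mem_center_iff]
    intro y
    have h1 : x.1.1 = 1 := hx
    have h3 := Subgroup.mem_center_iff.1 (hc (hkerπ x hx)) y.1.2
    apply Subtype.ext
    apply Prod.ext
    · show y.1.1 * x.1.1 = x.1.1 * y.1.1
      rw [h1, one_mul, mul_one]
    · exact h3
  have hpow : ∀ x : D, π x = 1 → ∃ k : ℕ, x ^ r ^ k = 1 := by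
    intro x hx
    obtain ⟨k, hk⟩ := hr ⟨x.1.2, hkerπ x hx⟩
    have hk' : x.1.2 ^ r ^ k = 1 := by simpa using congrArg Subtype.val hk
    refine ⟨k, Subtype.ext ?_⟩
    have h1 : x.1.1 = 1 := hx
    apply Prod.ext
    · show x.1.1 ^ r ^ k = 1
      rw [h1, one_pow]
    · exact hk'
  -- the abelianization of `D` has exponent dividing `p`
  have hab : ∀ y : D, y ^ p ∈ commutator D := by
    have h1 : (⊤ : Subgroup D) ≤ ((powMonoidHom p : Abelianization D →* Abelianization D).comp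
        Abelianization.of).ker := by
      have h2 : Subgroup.closure {y : D | s y.1.1 = f y.1.2 ∧ y ^ p = 1} = ⊤ := by
        apply Subgroup.map_injective D.subtype_injective
        rw [MonoidHom.map_closure, ← MonoidHom.range_eq_map, Subgroup.range_subtype]
        change _ = Subgroup.closure _
        congr 1
        ext y
        constructor
        · rintro ⟨k, ⟨h3, h4⟩, rfl⟩
          exact ⟨h3, by rw [← map_pow, h4, map_one]⟩
        · intro hy
          exact ⟨⟨y, Subgroup.subset_closure hy⟩, ⟨hy.1, Subtype.ext hy.2⟩, rfl⟩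
      rw [← h2, Subgroup.closure_le]
      intro y hy
      change (Abelianization.of y) ^ p = 1
      rw [← map_pow, hy.2, map_one]
    intro y
    have h2 := h1 (Subgroup.mem_top y)
    have h3 : Abelianization.of (y ^ p) = 1 := by
      rw [map_pow]
      exact h2
    rwa [← MonoidHom.mem_ker, Abelianization.ker_of] at h3
  have hinj : Function.Injective π := by
    rw [injective_iff_map_eq_one]
    intro x hx
    obtain ⟨k, hk⟩ := hpow x hx
    obtain ⟨Q⟩ : Nonempty (Sylow r D) := inferInstance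
    have hQ : ∀ a ∈ (Q : Subgroup D), ∀ b ∈ (Q : Subgroup D), a * b = b * a := by
      have h1 : IsPGroup r ((Q : Subgroup D).map π) := Q.isPGroup'.map π
      obtain ⟨P, hP⟩ := h1.exists_le_sylow
      have h2 := hcyc P
      have h3 : ∀ y : ↥(Q : Subgroup D), (π.comp (Q : Subgroup D).subtype) y ∈ (P : Subgroup S) := fun y =>
        hP ⟨y, y.2, rfl⟩
      let g : ↥(Q : Subgroup D) →* ↥(P : Subgroup S) := (π.comp (Q : Subgroup D).subtype).codRestrict _ h3
      have hg : g.ker ≤ Subgroup.center ↥(Q : Subgroup D) := by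
        intro y hy
        have h4 : π (y : D) = 1 := congrArg Subtype.val hy
        rw [Subgroup.mem_center_iff]
        intro z
        exact Subtype.ext (Subgroup.mem_center_iff.1 (hcen h4) z)
      intro a ha b hb
      have h5 := (MonoidHom.isMulCommutative_of_isCyclic_of_ker_le_center g hg).is_comm.comm ⟨a, ha⟩ ⟨b, hb⟩
      exact congrArg Subtype.val h5
    have h1 : x ^ p = 1 := by
      refine eq_one_of_transfer Q hQ (Subgroup.pow_mem _ (hcen hx) p) (hab x) (k := k) ?_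
      rw [← pow_mul, mul_comm, pow_mul, hk, one_pow]
    have hc' : (p).Coprime (r ^ k) := Nat.Coprime.pow_right k ((Nat.coprime_primes Fact.out Fact.out).2 hpr)
    have h4 : orderOf x ∣ 1 := by
      rw [← hc']
      exact Nat.dvd_gcd (orderOf_dvd_of_pow_eq_one h1) (orderOf_dvd_of_pow_eq_one hk)
    exact orderOf_eq_one_iff.1 (Nat.dvd_one.1 h4)
  have hsurj : Function.Surjective π := by
    rw [← MonoidHom.range_eq_top, eq_top_iff, ← hgen, Subgroup.closure_le]
    intro g hg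
    have hg' : g ^ p = 1 := hg
    obtain ⟨y, hy⟩ := hs (s g)
    obtain ⟨x, hx, hxk⟩ := Cfsg.Agent.Nodes.RGDLift.exists_lift (f := f) hker (y := y) (k := 1) (by
      rw [pow_one, hy, ← map_pow, hg', map_one])
    rw [pow_one] at hxk
    have h3 : ((g, x) : S × E) ∈ D := Subgroup.subset_closure ⟨by
      show s g = f x
      rw [hx, hy], Prod.ext hg' hxk⟩
    exact ⟨⟨_, h3⟩, rfl⟩
  let e : D ≃* S := MulEquiv.ofBijective π ⟨hinj, hsurj⟩
  refine ⟨((MonoidHom.snd _ _).comp D.subtype).comp e.symm.toMonoidHom, ?_⟩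
  ext g
  show f (e.symm g).1.2 = s g
  rw [← hD _ (e.symm g).2]
  have h1 : π (e.symm g) = g := e.apply_symm_apply g
  exact congrArg s h1

/-! ### `SL₂` and `SL₃` -/

section SL

variable {F : Type*} [Field F] [Finite F] {p : ℕ} [Fact p.Prime]

theorem charP_of (h0 : (p : F) = 0) : CharP F p := by
  obtain ⟨r, hr⟩ := CharP.exists F
  have hrp : r.Prime := (CharP.char_is_prime_or_zero F r).resolve_right (CharP.char_ne_zero_of_finite F r)
  have h1 : r ∣ p := (CharP.cast_eq_zero_iff F r p).1 h0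
  rw [← (Nat.prime_dvd_prime_iff_eq hrp Fact.out).1 h1]
  exact hr

theorem tv_pow (h0 : (p : F) = 0) {n : ℕ} {a b : Fin n} (hab : a ≠ b) (c : F) :
    (Matrix.SpecialLinearGroup.transvection hab c) ^ p = 1 := by
  have h1 : ∀ k : ℕ, (Matrix.SpecialLinearGroup.transvection hab c) ^ k =
      Matrix.SpecialLinearGroup.transvection hab ((k : F) * c) := by
    intro k
    induction k with
    | zero =>
      apply Subtype.ext
      rw [pow_zero, Nat.cast_zero, zero_mul]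
      exact (Matrix.transvection_zero a b).symm
    | succ k ih =>
      rw [pow_succ, ih]
      apply Subtype.ext
      change Matrix.transvection a b ((k : F) * c) * Matrix.transvection a b c = Matrix.transvection a b _
      rw [Matrix.transvection_mul_transvection_same a b hab]
      congr 1
      push_cast
      ring
  rw [h1, h0, zero_mul]
  exact Subtype.ext (Matrix.transvection_zero a b)

/-- `SL_n(F)` is generated by elements of order `p` -/
theorem closure_pow (h0 : (p : F) = 0) {n : ℕ} :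
    Subgroup.closure {g : Matrix.SpecialLinearGroup (Fin n) F | g ^ p = 1} = ⊤ := by
  rw [eq_top_iff, ← Cfsg.Agent.LieClassical.SLGen.closure_transvections, Subgroup.closure_le]
  rintro _ ⟨a, b, hab, c, rfl⟩
  exact Subgroup.subset_closure (tv_pow h0 hab c)

/-- the embedding of `SL₂` in `SL₃` -/
def emb : Matrix.SpecialLinearGroup (Fin 2) F →* Matrix.SpecialLinearGroup (Fin 3) F where
  toFun B := ⟨!![B.1 0 0, B.1 0 1, 0; B.1 1 0, B.1 1 1, 0; 0, 0, 1], by
    have h := B.2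
    rw [Matrix.det_fin_two] at h
    rw [Matrix.det_fin_three]
    simp only [Matrix.of_apply, Matrix.cons_val', Matrix.cons_val_zero, Matrix.cons_val_one, Matrix.cons_val]
    linear_combination h⟩
  map_one' := by
    apply Subtype.ext
    change !![(1 : Matrix (Fin 2) (Fin 2) F) 0 0, (1 : Matrix (Fin 2) (Fin 2) F) 0 1, 0;
      (1 : Matrix (Fin 2) (Fin 2) F) 1 0, (1 : Matrix (Fin 2) (Fin 2) F) 1 1, 0; 0, 0, 1] = (1 : Matrix (Fin 3) (Fin 3) F)
    rw [Matrix.one_fin_three]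
    simp
  map_mul' A B := by
    apply Subtype.ext
    change !![(A.1 * B.1) 0 0, (A.1 * B.1) 0 1, 0; (A.1 * B.1) 1 0, (A.1 * B.1) 1 1, 0; 0, 0, 1] =
      !![A.1 0 0, A.1 0 1, 0; A.1 1 0, A.1 1 1, 0; 0, 0, 1] * !![B.1 0 0, B.1 0 1, 0; B.1 1 0, B.1 1 1, 0; 0, 0, 1]
    rw [Matrix.mul_fin_three]
    simp [Matrix.mul_apply, Fin.sum_univ_two]

omit [Finite F] in
theorem emb_injective : Function.Injective (emb (F := F)) := by
  intro A B h
  have h1 : !![A.1 0 0, A.1 0 1, 0; A.1 1 0, A.1 1 1, 0; 0, 0, 1] =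
    !![B.1 0 0, B.1 0 1, 0; B.1 1 0, B.1 1 1, 0; 0, 0, (1 : F)] := congrArg Subtype.val h
  apply Subtype.ext
  ext i j
  fin_cases i <;> fin_cases j
  · exact congrFun (congrFun h1 0) 0
  · exact congrFun (congrFun h1 0) 1
  · exact congrFun (congrFun h1 1) 0
  · exact congrFun (congrFun h1 1) 1

theorem cyc_two (h0 : (p : F) = 0) (h3 : p ≠ 3) (P : Sylow 3 (Matrix.SpecialLinearGroup (Fin 2) F)) :
    IsCyclic (P : Subgroup (Matrix.SpecialLinearGroup (Fin 2) F)) := by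
  have := Fintype.ofFinite F
  have := charP_of h0
  have : Fact (Nat.Prime 3) := ⟨Nat.prime_three⟩
  exact Cfsg.Agent.S0262.result p 3 (by norm_num) (Ne.symm h3) P

theorem card_three : Nat.card (Matrix.SpecialLinearGroup (Fin 3) F) =
    (Nat.card F ^ 3 - 1) * Nat.card F ^ 2 * Nat.card (Matrix.SpecialLinearGroup (Fin 2) F) := by
  have := Fintype.ofFinite F
  have h2 := Cfsg.Agent.S0242.result (F := F) rfl 2 (by norm_num)
  have h3 := Cfsg.Agent.S0242.result (F := F) rfl 3 (by norm_num)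
  rw [← Nat.card_eq_fintype_card] at h2 h3
  have h1 : 1 < Nat.card F := Finite.one_lt_card
  obtain ⟨m, hm⟩ : ∃ m, Nat.card F = m + 2 := ⟨Nat.card F - 2, by omega⟩
  rw [hm] at h2 h3 ⊢
  rw [Fin.prod_univ_two] at h2
  rw [Fin.prod_univ_three] at h3
  have e0 : (m + 2) ^ 3 - (m + 2) ^ ((0 : Fin 3) : ℕ) = (m + 2) ^ 3 - 1 := by norm_num
  have e1 : (m + 2) ^ 3 - (m + 2) ^ ((1 : Fin 3) : ℕ) = (m + 1) * ((m + 2) * (m + 3)) := by
    rw [Nat.sub_eq_iff_eq_add]
    · change _ = _ + (m + 2) ^ 1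
      ring
    · exact Nat.pow_le_pow_right (by omega) (by decide)
  have e2 : (m + 2) ^ 3 - (m + 2) ^ ((2 : Fin 3) : ℕ) = (m + 1) * (m + 2) ^ 2 := by
    rw [Nat.sub_eq_iff_eq_add]
    · change _ = _ + (m + 2) ^ 2
      ring
    · exact Nat.pow_le_pow_right (by omega) (by decide)
  have f0 : (m + 2) ^ 2 - (m + 2) ^ ((0 : Fin 2) : ℕ) = (m + 1) * (m + 3) := by
    rw [Nat.sub_eq_iff_eq_add]
    · change _ = _ + (m + 2) ^ 0
      ring
    · exact Nat.pow_le_pow_right (by omega) (by decide)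
  have f1 : (m + 2) ^ 2 - (m + 2) ^ ((1 : Fin 2) : ℕ) = (m + 1) * (m + 2) := by
    rw [Nat.sub_eq_iff_eq_add]
    · change _ = _ + (m + 2) ^ 1
      ring
    · exact Nat.pow_le_pow_right (by omega) (by decide)
  rw [e0, e1, e2] at h3
  rw [f0, f1] at h2
  have e3 : m + 2 - 1 = m + 1 := by omega
  rw [e3] at h2 h3
  have h4 : Nat.card (Matrix.SpecialLinearGroup (Fin 2) F) = (m + 3) * ((m + 1) * (m + 2)) := by
    apply Nat.eq_of_mul_eq_mul_left (show 0 < m + 1 by omega)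
    rw [h2]; ring
  apply Nat.eq_of_mul_eq_mul_left (show 0 < m + 1 by omega)
  rw [h3, h4]
  ring

theorem cyc_three (h0 : (p : F) = 0) (h3 : p ≠ 3) (hF : Nat.card F % 3 = 2)
    (P : Sylow 3 (Matrix.SpecialLinearGroup (Fin 3) F)) :
    IsCyclic (P : Subgroup (Matrix.SpecialLinearGroup (Fin 3) F)) := by
  have : Fact (Nat.Prime 3) := ⟨Nat.prime_three⟩
  obtain ⟨P₂⟩ : Nonempty (Sylow 3 (Matrix.SpecialLinearGroup (Fin 2) F)) := inferInstance
  have hcyc := cyc_two h0 h3 P₂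
  have h1 : IsPGroup 3 ((P₂ : Subgroup (Matrix.SpecialLinearGroup (Fin 2) F)).map emb) := P₂.isPGroup'.map emb
  have hc : Nat.card ((P₂ : Subgroup (Matrix.SpecialLinearGroup (Fin 2) F)).map emb) = Nat.card P₂ :=
    Nat.card_congr ((P₂ : Subgroup (Matrix.SpecialLinearGroup (Fin 2) F)).equivMapOfInjective emb
      emb_injective).symm.toEquiv
  have h2 : ¬ 3 ∣ ((P₂ : Subgroup (Matrix.SpecialLinearGroup (Fin 2) F)).map emb).index := by
    have h4 := Subgroup.card_mul_index ((P₂ : Subgroup (Matrix.SpecialLinearGroup (Fin 2) F)).map emb)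
    rw [hc, card_three, ← Subgroup.card_mul_index (P₂ : Subgroup (Matrix.SpecialLinearGroup (Fin 2) F))] at h4
    have h5 : ((P₂ : Subgroup (Matrix.SpecialLinearGroup (Fin 2) F)).map emb).index =
        (Nat.card F ^ 3 - 1) * Nat.card F ^ 2 * (P₂ : Subgroup (Matrix.SpecialLinearGroup (Fin 2) F)).index := by
      apply Nat.eq_of_mul_eq_mul_left (Nat.card_pos (α := ↥(P₂ : Subgroup (Matrix.SpecialLinearGroup (Fin 2) F))))
      rw [h4]; ring
    rw [h5]
    intro h6
    have h7 : 0 < Nat.card F := Nat.card_pos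
    have h8 : 0 < Nat.card F ^ 3 := by positivity
    rcases (Nat.Prime.dvd_mul Nat.prime_three).1 h6 with h6 | h6
    · rcases (Nat.Prime.dvd_mul Nat.prime_three).1 h6 with h6 | h6
      · have h9 : Nat.card F ^ 3 % 3 = 2 := by rw [Nat.pow_mod, hF]
        omega
      · have h9 : Nat.card F ^ 2 % 3 = 1 := by rw [Nat.pow_mod, hF]
        omega
    · exact P₂.not_dvd_index h6
  let Q : Sylow 3 (Matrix.SpecialLinearGroup (Fin 3) F) := h1.toSylow h2
  have e1 : ↥(P₂ : Subgroup (Matrix.SpecialLinearGroup (Fin 2) F)) ≃*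
      ↥((P₂ : Subgroup (Matrix.SpecialLinearGroup (Fin 2) F)).map emb) :=
    (P₂ : Subgroup (Matrix.SpecialLinearGroup (Fin 2) F)).equivMapOfInjective emb emb_injective
  have e2 : ↥((P₂ : Subgroup (Matrix.SpecialLinearGroup (Fin 2) F)).map emb) ≃*
      ↥(P : Subgroup (Matrix.SpecialLinearGroup (Fin 3) F)) := Sylow.equiv Q P
  exact isCyclic_of_surjective (e1.trans e2) (e1.trans e2).surjective

end SL

/-! ### Lifted root group data -/

section Rgd

variable {E Y : Type*} [Group E] [Finite E] [Group Y] {p : ℕ} [Fact p.Prime] {f : E →* Y}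
  (hc : f.ker ≤ Subgroup.center E) (hp : (Nat.card f.ker).Coprime p)

include hc hp

/-- `p`-elements with the same image are equal -/
theorem eq_of_pow {x y : E} (h : f x = f y) {k l : ℕ} (hx : x ^ p ^ k = 1) (hy : y ^ p ^ l = 1) : x = y := by
  have h1 : f (x⁻¹ * y) = 1 := by rw [map_mul, map_inv, h, inv_mul_cancel]
  have h2 : Commute x⁻¹ y := by
    have h3 := Subgroup.mem_center_iff.1 (hc (show x⁻¹ * y ∈ f.ker from h1)) x
    -- `x (x⁻¹ y) = (x⁻¹ y) x`
    have h4 : y = x⁻¹ * y * x := by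
      calc y = x * (x⁻¹ * y) := by group
        _ = _ := h3
    change x⁻¹ * y = y * x⁻¹
    conv_rhs => rw [h4]
    group
  have h5 : (x⁻¹ * y) ^ p ^ (k + l) = 1 := by
    rw [h2.mul_pow, inv_pow, pow_add, pow_mul, hx, one_pow, inv_one, one_mul, mul_comm, pow_mul, hy, one_pow]
  have h6 := eq_one_of_ker (f := f) hp h1 h5
  exact (inv_mul_eq_one.1 h6)

open Cfsg.Agent.H928.Ore.Frame in
theorem nf_lift {V : Subgroup Y} (hV : IsPGroup p V) {V' : Subgroup E} (hle : V' ≤ lft p f V) {c : E}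
    (h : NF V (f c)) : NF V' c := fun x hx e =>
  eq_one_of_mem_lft hc hp hV (hle hx) (h (f x) ((mem_lft hc hV).1 (hle hx)).1 (by
    rw [← map_mul, ← map_inv, ← map_mul, e]))

end Rgd

section U

open CoxeterSystem Cfsg.Agent.ChevalleyStructure.CoxeterGeom Cfsg.Agent.Tits.Roots Cfsg.Agent.Tits.Core
  Cfsg.Agent.Nodes.Reps Cfsg.Agent.Nodes.BNOf Cfsg.Agent.Nodes.RGDLib Cfsg.Agent.Nodes.OppDec
  Cfsg.Agent.Nodes.LeviDec Cfsg.Agent.H162.GaussLevi

variable {I W Y : Type*} [Fintype I] [DecidableEq I] [Group W] [Finite W] [Group Y] [Finite Y] {M : CoxeterMatrix I}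
  {cs : CoxeterSystem M W} {A : I → I → ℤ} {h : IsCartan M A} {p : ℕ} [Fact p.Prime] {T : Subgroup Y} {n : I → Y}
  {X : (I → ℤ) → Subgroup Y}

theorem isPGroup_UN (R : RGD cs h p T n X) : IsPGroup p ↥(UN cs h X) := by
  obtain ⟨k, hk⟩ := exists_rp cs R.nsys (w0 cs)
  rw [← cj_U R hk]
  exact R.isPGroup_Upos.map _

theorem isPGroup_VJ (R : RGD cs h p T n X) (J : Set I) : IsPGroup p ↥(VJ cs h X J) :=
  R.isPGroup_Upos.to_le (RGD.Sup_mono fun _ hx => ⟨hx.1, hx.2.1⟩)

theorem isPGroup_VNJ (R : RGD cs h p T n X) (J : Set I) : IsPGroup p ↥(VNJ cs h X J) :=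
  (isPGroup_UN R).to_le (RGD.Sup_mono fun _ hx => ⟨by
    have := hx.1.neg
    rwa [neg_neg] at this, by
    have := hx.2.1
    exact neg_nonneg.1 this⟩)

end U

end Cfsg.Agent.H231.QS.Lift
end

-- part: H397/QS/TStarOdd
section
prune_inst 0x4f520690505620000001c0506e2201ce7df000402004b04000d45000005c08c222980a661b470111b52d2844540350468111000300000000000040400011d008018801206b148a111220096800808010000100800000000000000000000000000010000000
set_option linter.all false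
open scoped Cfsg.Agent.FastGrp

/-!
# Commutators in `Ω` of odd dimension whose first member has eigenvectors for `1` and `-1` of the same norm

`ore_odd_star` : the theorem `ore_odd` of `H146/OreOdd.lean` with this additional output;
`tstar_odd` : the form for the group `E Q`.
-/

set_option autoImplicit false
set_option linter.unusedSectionVars false

universe u v

namespace Cfsg.Agent.H397.QS.TStar

open Module QuadraticMap
open Cfsg.Agent.ClassicalGeometry.Reflection Cfsg.Agent.ClassicalGeometry.SpinorSign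
  Cfsg.Agent.ClassicalGeometry.OmegaIndex Cfsg.Agent.ClassicalGeometry.Universal
  Cfsg.Agent.ClassicalGeometry.CartanDieudonne Cfsg.Agent.ClassicalGeometry.GenReflections
open Cfsg.Agent.H146.Ore

variable {ι : Type} [Fintype ι] [DecidableEq ι] {F : Type u} [Field F]

section G

variable {Q : QuadraticForm F (ι → F)}

/-- an involution times a reflection in a fixed vector -/
theorem unpeel (h2 : (2 : F) ≠ 0) {s : Cfsg.isometryGroup F (⇑Q)} (hs : s * s = 1) {x : ι → F} (hx : Q x ≠ 0)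
    (hsx : act Q s x = x) :
    (s * reflIso Q x hx) * (s * reflIso Q x hx) = 1 ∧ s * reflIso Q x hx = reflIso Q x hx * s ∧
      finrank F (Em Q (s * reflIso Q x hx)) = finrank F (Em Q s) + 1 := by
  have hc : s * reflIso Q x hx = reflIso Q x hx * s := by
    have := conj_refl hx hx s (Or.inl hsx)
    rw [mul_inv_eq_iff_eq_mul] at this
    exact this
  have hrx : act Q (reflIso Q x hx) x = -x := by
    rw [act_reflIso, polar_eq_two]
    have : (Q x)⁻¹ * (2 * Q x) = 2 := by field_simp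
    rw [this, two_smul]; abel
  have h1 : (s * reflIso Q x hx) * (s * reflIso Q x hx) = 1 := by
    calc s * reflIso Q x hx * (s * reflIso Q x hx) = s * reflIso Q x hx * (reflIso Q x hx * s) := by rw [hc]
      _ = s * (reflIso Q x hx * reflIso Q x hx) * s := by group
      _ = 1 := by rw [reflIso_mul_self, mul_one, hs]
  refine ⟨h1, hc, ?_⟩
  obtain ⟨-, -, -, -, h5⟩ := peel h2 h1 hx (by rw [act_mul, hrx, map_neg, hsx])
  rw [mul_assoc, reflIso_mul_self, mul_one] at h5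
  exact h5

/-- a common nonsingular fixed vector of two involutions with small `(-1)`-eigenspaces -/
theorem exists_common (h2 : (2 : F) ≠ 0) (hQ : (polarBilin Q).Nondegenerate) {s t : Cfsg.isometryGroup F (⇑Q)}
    (hs : s * s = 1) (ht : t * t = 1) (hst : finrank F (Em Q s) = finrank F (Em Q t))
    (h3 : 3 * finrank F (Em Q s) < Fintype.card ι) : ∃ j, Q j ≠ 0 ∧ act Q s j = j ∧ act Q t j = j := by
  by_contra hcon
  push Not at hcon
  have hle : ∀ z, z ∈ Pp Q (Em Q s ⊔ Em Q t) ↔ act Q s z = z ∧ act Q t z = z := by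
    intro z
    rw [← mem_Pp_Em h2 hQ hs, ← mem_Pp_Em h2 hQ ht]
    constructor
    · intro h
      exact ⟨fun y hy => h y (Submodule.mem_sup_left hy), fun y hy => h y (Submodule.mem_sup_right hy)⟩
    · rintro ⟨h, h'⟩ y hy
      obtain ⟨a, ha, b, hb, rfl⟩ := Submodule.mem_sup.1 hy
      rw [polar_add_left, h a ha, h' b hb, add_zero]
  have hQ0 : ∀ z ∈ Pp Q (Em Q s ⊔ Em Q t), Q z = 0 := by
    intro z hz
    by_contra h
    exact hcon z h ((hle z).1 hz).1 ((hle z).1 hz).2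
  obtain ⟨C, hC⟩ : ∃ C, C = Pp Q (Em Q s ⊔ Em Q t) := ⟨_, rfl⟩
  have h4 : C ≤ Em Q s ⊔ Em Q t := by
    rw [← Pp_Pp hQ (Em Q s ⊔ Em Q t), ← hC]
    intro z hz y hy
    rw [hC] at hz hy
    rw [polar, hQ0 _ (Submodule.add_mem _ hy hz), hQ0 _ hz, hQ0 _ hy, sub_zero, sub_zero]
  have h5 : C ⊓ Em Q s = ⊥ := by
    rw [eq_bot_iff, ← Em_nondeg h2 hQ hs]
    rintro z ⟨hz, hz'⟩
    refine ⟨hz', ?_⟩
    rw [SetLike.mem_coe, hC] at hz
    exact (mem_Pp_Em h2 hQ hs).2 ((hle z).1 hz).1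
  have h6 := Submodule.finrank_sup_add_finrank_inf_eq C (Em Q s)
  rw [h5, finrank_bot, add_zero] at h6
  have h7 : C ⊔ Em Q s ≤ Em Q s ⊔ Em Q t := sup_le h4 le_sup_left
  have h8 := Submodule.finrank_mono h7
  have h9 := finrank_Pp hQ (Em Q s ⊔ Em Q t)
  rw [← hC] at h9
  have h10 := Submodule.finrank_add_le_finrank_add_finrank (Em Q s) (Em Q t)
  omega

/-- enlarging the `(-1)`-eigenspaces -/
theorem enlarge (h2 : (2 : F) ≠ 0) (hQ : (polarBilin Q).Nondegenerate) (h7 : 7 ≤ Fintype.card ι)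
    {g : Cfsg.isometryGroup F (⇑Q)} (k : ℕ) : ∀ s t : Cfsg.isometryGroup F (⇑Q), s * s = 1 → t * t = 1 → s * t = g →
      finrank F (Em Q s) = finrank F (Em Q t) → finrank F (Em Q s) + k = 3 →
      ∃ s t : Cfsg.isometryGroup F (⇑Q), s * s = 1 ∧ t * t = 1 ∧ s * t = g ∧
        finrank F (Em Q s) = finrank F (Em Q t) ∧ finrank F (Em Q s) = 3 := by
  induction k with
  | zero =>
    intro s t hs ht hst he h3
    exact ⟨s, t, hs, ht, hst, he, h3⟩
  | succ k ih =>
    intro s t hs ht hst he h3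
    obtain ⟨j, hj, hsj, htj⟩ := exists_common h2 hQ hs ht he (by omega)
    obtain ⟨a1, -, a3⟩ := unpeel h2 hs hj hsj
    obtain ⟨b1, b2, b3⟩ := unpeel h2 ht hj htj
    refine ih (s * reflIso Q j hj) (t * reflIso Q j hj) a1 b1 ?_ (by omega) (by omega)
    calc s * reflIso Q j hj * (t * reflIso Q j hj) = s * reflIso Q j hj * (reflIso Q j hj * t) := by rw [b2]
      _ = s * (reflIso Q j hj * reflIso Q j hj) * t := by group
      _ = g := by rw [reflIso_mul_self, mul_one, hst]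

/-- two involutions with product `g` and large `(-1)`-eigenspaces -/
theorem exists_fac_three (h2 : (2 : F) ≠ 0) (hQ : (polarBilin Q).Nondegenerate) (h7 : 7 ≤ Fintype.card ι)
    (g : Cfsg.isometryGroup F (⇑Q)) [Finite F] (hg : (del Q g).1 = 1) :
    ∃ s t : Cfsg.isometryGroup F (⇑Q), s * s = 1 ∧ t * t = 1 ∧ s * t = g ∧
      finrank F (Em Q s) = finrank F (Em Q t) ∧ 3 ≤ finrank F (Em Q s) ∧
        2 * finrank F (Em Q s) ≤ Fintype.card ι := by
  obtain ⟨s, t, hs, ht, hst, he, hle⟩ := exists_fac_eq h2 hQ g hg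
  by_cases h3 : 3 ≤ finrank F (Em Q s)
  · exact ⟨s, t, hs, ht, hst, he, h3, hle⟩
  · obtain ⟨s', t', hs', ht', hst', he', h3'⟩ :=
      enlarge h2 hQ h7 (3 - finrank F (Em Q s)) s t hs ht hst he (by omega)
    exact ⟨s', t', hs', ht', hst', he', by omega, by omega⟩

/-- a subspace with a radical of smaller dimension has a nonsingular vector -/
theorem exists_ns_of_rad {W : Submodule F (ι → F)}
    (hW : finrank F (W ⊓ Pp Q W : Submodule F (ι → F)) < finrank F W) : ∃ w ∈ W, Q w ≠ 0 := by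
  by_contra hcon
  push Not at hcon
  have : W ≤ W ⊓ Pp Q W := by
    refine le_inf le_rfl fun x hx y hy => ?_
    rw [polar, hcon _ (W.add_mem hy hx), hcon _ hx, hcon _ hy, sub_zero, sub_zero]
  have := Submodule.finrank_mono this
  omega

variable [Finite F]

/-- **Ore's theorem for odd-dimensional orthogonal groups**, the first member has eigenvectors for `1` and `-1` of
the same nonzero norm -/
theorem ore_odd_star (h2 : (2 : F) ≠ 0) (hQ : (polarBilin Q).Nondegenerate) {n : ℕ} (hn : 3 ≤ n)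
    (hc : Fintype.card ι = 2 * n + 1) (g : Cfsg.isometryGroup F (⇑Q)) (hg : del Q g = 1) :
    ∃ a b : Cfsg.isometryGroup F (⇑Q), del Q a = 1 ∧ del Q b = 1 ∧ g = a * b * a⁻¹ * b⁻¹ ∧
      ∃ v w, act Q a v = v ∧ act Q a w = -w ∧ Q v = Q w ∧ Q v ≠ 0 := by
  obtain ⟨s, t, hs, ht, hst, hm, hm3, hm2⟩ := exists_fac_three h2 hQ (by omega) g (by rw [hg]; rfl)
  have hdel : del Q s = del Q t := by
    have e1 : del Q s * del Q t = 1 := by rw [← map_mul, hst, hg]
    have e2 : del Q t * del Q t = 1 := by rw [← map_mul, ht, map_one]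
    rw [← e2] at e1
    exact mul_right_cancel e1
  obtain ⟨y, U, hU1, hU2, hy1, hy2, -⟩ := exists_Y h2 hQ _ s t hs ht rfl hm.symm hdel
  have hodd : Odd (Fintype.card ι) := ⟨n, hc⟩
  have hfU := finrank_Pp hQ U
  have hrU := rad_Pp hQ h2 hU2
  have hcases : ∀ x : Fˣ, x = 1 ∨ x = -1 → x⁻¹ = 1 ∨ x⁻¹ = -1 := by
    rintro x (rfl | rfl)
    · left; simp
    · right; simp
  obtain ⟨a, haW, ha, ε, hε, hεa⟩ := exists_c h2 hQ hodd (W := Pp Q U) (by omega) (del Q s)⁻¹
    (hcases _ (del_fst_cases h2 hQ s))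
  have hr' := rad_le h2 hQ hs a
  have hf' := finrank_Pp hQ (Em Q s ⊔ Submodule.span F {a})
  have hf'' := Submodule.finrank_add_le_finrank_add_finrank (Em Q s) (Submodule.span F {a})
  have hf3 : finrank F (Submodule.span F {a}) ≤ 1 := (finrank_span_le_card ({a} : Set (ι → F))).trans (by simp)
  obtain ⟨p, hpW, hp, ε', hε', hεp⟩ := exists_c h2 hQ hodd
    (W := Pp Q (Em Q s ⊔ Submodule.span F {a})) (by omega) (del Q y)⁻¹
    (hcases _ (del_fst_cases h2 hQ y))
  rw [Pp_sup, mem_Pp_Em h2 hQ hs] at hpW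
  have hcy : Commute (ε * reflIso Q a ha) y :=
    (commute_eps hε).mul_left (commute_refl ha (hy2 a haW))
  have hds : Commute (ε' * reflIso Q p hp) (s * (ε * reflIso Q a ha)) := by
    refine (commute_eps hε').mul_left (Commute.mul_right (commute_refl hp hpW.1)
      (Commute.mul_right (commute_eps hε).symm ?_))
    exact commute_refl hp (act_refl_of_perp ha hpW.2)
  -- the eigenvectors
  have hns : (negI Q * s) * (negI Q * s) = 1 := by
    rw [show negI Q * s * (negI Q * s) = negI Q * (s * negI Q) * s by group, ← negI_comm,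
      show negI Q * (negI Q * s) * s = (negI Q * negI Q) * (s * s) by group, negI_mul_negI, hs, one_mul]
  have k1 := rad_le h2 hQ hns a
  have k2 := finrank_Pp hQ (Em Q (negI Q * s) ⊔ Submodule.span F {a})
  have k3 := Submodule.finrank_add_le_finrank_add_finrank (Em Q (negI Q * s)) (Submodule.span F {a})
  have k4 := finrank_Em_neg h2 hs
  obtain ⟨w, hw, hw0⟩ := exists_ns_of_rad (Q := Q) (W := Pp Q (Em Q (negI Q * s) ⊔ Submodule.span F {a})) (by omega)
  obtain ⟨v, hv, hvw⟩ := rep (Q := Q) h2 (W := Pp Q (Em Q s ⊔ Submodule.span F {a})) (by omega) (Q w)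
  rw [Pp_sup, mem_Pp_Em h2 hQ hns, act_mul, act_negI, neg_eq_iff_eq_neg] at hw
  rw [Pp_sup, mem_Pp_Em h2 hQ hs] at hv
  have hraw : act Q (reflIso Q a ha) w = w := act_refl_of_perp ha hw.2
  have hrav : act Q (reflIso Q a ha) v = v := act_refl_of_perp ha hv.2
  refine ⟨s * (ε * reflIso Q a ha), y * (ε' * reflIso Q p hp), ?_, ?_, ?_, ?_⟩
  · rw [map_mul, hεa, mul_inv_cancel]
  · rw [map_mul, hεp, mul_inv_cancel]
  · exact commutator_eq hs (by rw [hy1, hst]) hcy hds
  · rcases hε with rfl | rfl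
    · refine ⟨v, w, ?_, ?_, hvw, by rw [hvw]; exact hw0⟩
      · rw [act_mul, act_mul, hrav, act_one, hv.1]
      · rw [act_mul, act_mul, hraw, act_one, hw.1]
    · refine ⟨w, v, ?_, ?_, hvw.symm, hw0⟩
      · rw [act_mul, act_mul, hraw, act_negI, map_neg, hw.1, neg_neg]
      · rw [act_mul, act_mul, hrav, act_negI, map_neg, hv.1]

end G

/-! ### The group `E Q` -/

section E

open Cfsg.Agent.LieClassical.OrthCore Cfsg.Agent.LieClassical.OrthTrans Cfsg.Agent.TitsThree.KSideO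
  Cfsg.Agent.LieClassical.OrthFinite

variable {κ : Type} [Fintype κ] [DecidableEq κ] {F : Type u} [Field F] {Q : QuadraticForm F (κ → F)}

theorem act_toOmega (hG : Good Q) (g : E Q) (v : κ → F) :
    act Q (toOmega hG g : Cfsg.isometryGroup F ⇑Q) v = g.1 v := by
  rw [act_apply, ← omegaEquiv_apply]
  have h1 : (omegaEquiv Q).trans (MulEquiv.subgroupCongr hG.commutator_eq_E) (toOmega hG g) = g :=
    MulEquiv.apply_symm_apply _ _
  exact congrArg (fun k : E Q => k.1 v) h1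

/-- **T*, odd dimension**: every element of `E Q` is a commutator of elements of `E Q`, the first of which has
eigenvectors for `1` and `-1` of the same nonzero norm. -/
theorem tstar_odd [Finite F] (hG : Good Q) (h2 : (2 : F) ≠ 0) {n : ℕ} (hn : 3 ≤ n)
    (hc : Fintype.card κ = 2 * n + 1) (g : (κ → F) ≃ₗ[F] (κ → F)) (hg : g ∈ E Q) :
    ∃ x ∈ E Q, ∃ k ∈ E Q, g = x * k * x⁻¹ * k⁻¹ ∧
      ∃ u w : κ → F, x u = u ∧ x w = -w ∧ Q u = Q w ∧ Q u ≠ 0 := by
  have hQ : (polarBilin Q).Nondegenerate := by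
    refine ⟨fun x hx => hG.nondeg x fun y => ?_, fun x hx => hG.nondeg x fun y => ?_⟩
    · have := hx y
      rwa [polarBilin_apply_apply] at this
    · have := hx y
      rwa [polarBilin_apply_apply, polar_comm] at this
  have key : ∀ g : Cfsg.isometryGroup F ⇑Q, g ∈ Cfsg.Omega F ⇑Q ↔ del Q g = 1 := by
    intro g
    rw [mem_Omega_iff h2 _ hQ (by omega) one_ne_zero]
    exact (detSpinor_eq_one_iff _ _ g).symm
  obtain ⟨a, b, ha, hb, hab, v, w, h⟩ := ore_odd_star h2 hQ hn hc (toOmega hG ⟨g, hg⟩).1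
    ((key _).1 (toOmega hG ⟨g, hg⟩).2)
  obtain ⟨a', ha'⟩ := (toOmega hG).surjective ⟨a, (key a).2 ha⟩
  obtain ⟨b', hb'⟩ := (toOmega hG).surjective ⟨b, (key b).2 hb⟩
  have hact : ∀ z, a'.1 z = act Q a z := by
    intro z
    rw [← act_toOmega hG a' z, ha']
  refine ⟨a'.1, a'.2, b'.1, b'.2, ?_, v, w, ?_⟩
  · have h1 : toOmega hG ⟨g, hg⟩ = toOmega hG (a' * b' * a'⁻¹ * b'⁻¹) := by
      rw [map_mul, map_mul, map_mul, map_inv, map_inv, ha', hb']
      exact Subtype.ext hab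
    exact congrArg Subtype.val ((toOmega hG).injective h1)
  · rw [hact, hact]
    exact h

end E

end Cfsg.Agent.H397.QS.TStar
end

-- part: H235/Ore/EngNc
section
set_option linter.all false
open scoped Cfsg.Agent.FastGrp

/-!
# Elements which are not conjugate to a given power: certificates (helper235)

If `c` preserves the colouring and `c x c⁻¹ = x ^ e` (`x` of order dividing `o`), then
`c (x ^ k p) = x ^ (e k mod o) (c p)`. The certificate: representatives `y` of the `⟨x⟩`-orbits of the possible images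
of `p`; for each of them no point `z` is possible as the image of `q`.
-/

set_option autoImplicit false

namespace Cfsg.Agent.H235.Ore.Eng

open Subgroup Equiv

/-- the exponent -/
def mj (o e k : ℕ) : ℕ := Nat.mod (Nat.mul e k) o

/-- the data of a point `y`: the list of `(i, x ^ (e i mod o) y, R (x ^ i p) q)` -/
structure Nd where
  y : ℕ
  is : List (ℕ × ℕ × ℕ)

section

variable (n : ℕ) (R : ℕ → ℕ → ℕ) (pv : ℕ → ℕ → ℕ) (o e p q : ℕ) (ks1 ks2 : List (ℕ × ℕ))

/-- the tests of the image of `p` -/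
def nc1 (y : ℕ) : Bool := ks1.all fun k => Nat.beq (R y (pv (mj o e k.1) y)) k.2
/-- the tests of the image of `q` -/
def nc2 (z : ℕ) : Bool := ks2.all fun k => Nat.beq (R z (pv (mj o e k.1) z)) k.2

/-- the check that no `c` preserving `R` inverts `x` -/
def ncOk (Y : List Nd) : Bool :=
  and (and (Nat.blt p n) (Nat.blt q n)) (and
    (and (ks1.all fun k => Nat.beq (R p (pv k.1 p)) k.2) (ks2.all fun k => Nat.beq (R q (pv k.1 q)) k.2))
    (and ((List.range n).all fun y => bif nc1 R pv o e ks1 y then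
        Y.any fun d => (List.range o).any fun j => Nat.beq (pv j d.y) y else true)
      (Y.all fun d => and (Nat.blt d.y n) (and (d.is.all fun i =>
          and (Nat.beq (pv (mj o e i.1) d.y) i.2.1) (Nat.beq (R (pv i.1 p) q) i.2.2))
        ((List.range n).all fun z => bif d.is.all fun i => Nat.beq (R i.2.1 z) i.2.2 then
          (bif nc2 R pv o e ks2 z then false else true) else true)))))

end

theorem not_pow_of {n : ℕ} {R : ℕ → ℕ → ℕ} {pv : ℕ → ℕ → ℕ} {x : Perm (Fin n)} (hpv : Pv x pv) {o e p q : ℕ}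
    {ks1 ks2 : List (ℕ × ℕ)} {Y : List Nd} (h : ncOk n R pv o e p q ks1 ks2 Y = true) (ho : x ^ o = 1)
    {G : Subgroup (Perm (Fin n))} (hG : ∀ g ∈ G, ∀ i j : Fin n, R (g i) (g j) = R i j) (hx : x ∈ G)
    {c : Perm (Fin n)} (hcG : c ∈ G) : c * x * c⁻¹ ≠ x ^ e := by
  intro hc
  unfold ncOk at h
  rw [Bool.and_eq_true, Bool.and_eq_true, Bool.and_eq_true, Bool.and_eq_true, Bool.and_eq_true, List.all_eq_true,
    List.all_eq_true, List.all_eq_true, List.all_eq_true, Nat.blt_eq, Nat.blt_eq] at h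
  obtain ⟨⟨hp, hq⟩, ⟨h1, h2⟩, h3, h4⟩ := h
  have hk : ∀ (d : Perm (Fin n)), d * x * d⁻¹ = x ^ e → ∀ (k : ℕ) (i : Fin n), d ((x ^ k) i) = (x ^ mj o e k) (d i) := by
    intro d hd k i
    have e1 : d * x ^ k = (x ^ e) ^ k * d := by
      rw [← hd, conj_pow, inv_mul_cancel_right]
    have e2 : (x ^ e) ^ k = x ^ mj o e k := by
      rw [← pow_mul]
      exact pow_eq_pow_mod (e * k) ho
    rw [← Perm.mul_apply, e1, e2, Perm.mul_apply]
  have t1 := h3 _ (List.mem_range.2 (c ⟨p, hp⟩).2)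
  have t2 : nc1 R pv o e ks1 (c ⟨p, hp⟩) = true := by
    unfold nc1
    rw [List.all_eq_true]
    intro k hkm
    have hk0 := h1 k hkm
    have e1 := hk c hc k.1 ⟨p, hp⟩
    show Nat.beq (R (c ⟨p, hp⟩) (pv (mj o e k.1) (c ⟨p, hp⟩))) k.2 = true
    rw [hpv, ← e1, hG c hcG, ← hpv]
    exact hk0
  rw [t2, cond_true, List.any_eq_true] at t1
  obtain ⟨d, hdY, t1⟩ := t1
  rw [List.any_eq_true] at t1
  obtain ⟨j, -, t1⟩ := t1
  have t3 := Nat.eq_of_beq_eq_true t1
  have h5 := h4 d hdY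
  rw [Bool.and_eq_true, Bool.and_eq_true, Nat.blt_eq, List.all_eq_true, List.all_eq_true] at h5
  obtain ⟨hdy, h5, h6⟩ := h5
  have t4 : (x ^ j) ⟨d.y, hdy⟩ = c ⟨p, hp⟩ := Fin.ext ((hpv j ⟨d.y, hdy⟩).symm.trans t3)
  -- replace `c`
  obtain ⟨c', hc'⟩ : ∃ c', c' = (x ^ j)⁻¹ * c := ⟨_, rfl⟩
  have hc'G : c' ∈ G := by rw [hc']; exact mul_mem (inv_mem (pow_mem hx j)) hcG
  have hc'x : c' * x * c'⁻¹ = x ^ e := by
    have e1 : (x ^ j)⁻¹ * x ^ e * x ^ j = x ^ e := by
      have e2 : Commute (x ^ j)⁻¹ (x ^ e) := ((Commute.refl x).pow_pow j e).inv_left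
      rw [e2.eq, inv_mul_cancel_right]
    calc c' * x * c'⁻¹ = (x ^ j)⁻¹ * (c * x * c⁻¹) * x ^ j := by rw [hc']; group
      _ = x ^ e := by rw [hc, e1]
  have hc'p : c' ⟨p, hp⟩ = ⟨d.y, hdy⟩ := by
    rw [hc', Perm.mul_apply, ← t4]
    exact (x ^ j).symm_apply_apply _
  have t5 := h6 _ (List.mem_range.2 (c' ⟨q, hq⟩).2)
  have t6 : (d.is.all fun i => Nat.beq (R i.2.1 (c' ⟨q, hq⟩)) i.2.2) = true := by
    rw [List.all_eq_true]
    intro i hi
    have h7 := h5 i hi
    rw [Bool.and_eq_true] at h7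
    obtain ⟨h8, h9⟩ := h7
    have e1 := hk c' hc'x i.1 ⟨p, hp⟩
    rw [hc'p] at e1
    have e2 : i.2.1 = (c' ((x ^ i.1) ⟨p, hp⟩) : ℕ) := by
      rw [e1, ← hpv]
      exact (Nat.eq_of_beq_eq_true h8).symm
    rw [e2, hG c' hc'G, ← hpv]
    exact h9
  have t7 : nc2 R pv o e ks2 (c' ⟨q, hq⟩) = true := by
    unfold nc2
    rw [List.all_eq_true]
    intro k hkm
    have hk0 := h2 k hkm
    have e1 := hk c' hc'x k.1 ⟨q, hq⟩
    show Nat.beq (R (c' ⟨q, hq⟩) (pv (mj o e k.1) (c' ⟨q, hq⟩))) k.2 = true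
    rw [hpv, ← e1, hG c' hc'G, ← hpv]
    exact hk0
  rw [t6, cond_true, t7, cond_true] at t5
  exact absurd t5 (by decide)

/-- the number of `i` with `R i (x i) = 1` -/
def adjN {n : ℕ} (R : ℕ → ℕ → ℕ) (g : Perm (Fin n)) : ℕ := (Finset.univ.filter fun i : Fin n => R i (g i) = 1).card

theorem adjN_conj {n : ℕ} {R : ℕ → ℕ → ℕ} {c : Perm (Fin n)} (hc : ∀ i j : Fin n, R (c i) (c j) = R i j)
    (g : Perm (Fin n)) : adjN R (c * g * c⁻¹) = adjN R g := by
  unfold adjN
  symm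
  refine Finset.card_bij (fun z _ => c z) (fun z hz => ?_) (fun a _ b _ e => c.injective e) fun z hz => ?_
  · rw [Finset.mem_filter] at hz ⊢
    refine ⟨Finset.mem_univ _, ?_⟩
    have e : c⁻¹ (c z) = z := c.symm_apply_apply z
    rw [Perm.mul_apply, Perm.mul_apply, e, hc, hz.2]
  · rw [Finset.mem_filter] at hz
    refine ⟨c⁻¹ z, ?_, c.apply_symm_apply z⟩
    rw [Finset.mem_filter]
    refine ⟨Finset.mem_univ _, ?_⟩
    have h := hz.2
    have e : c (c⁻¹ z) = z := c.apply_symm_apply z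
    rw [← hc, e]
    exact h

theorem adjN_val {n : ℕ} {R : ℕ → ℕ → ℕ} {x : Perm (Fin n)} {f : ℕ → ℕ} (hf : ∀ i : Fin n, f i = (x i : ℕ)) :
    adjN R x = cnt n fun i => Nat.beq (R i (f i)) 1 := by
  rw [cnt_fin, adjN]
  congr 1
  refine Finset.filter_congr fun i _ => ?_
  rw [hf]
  exact ⟨fun h => by rw [h]; rfl, fun h => Nat.eq_of_beq_eq_true h⟩

end Cfsg.Agent.H235.Ore.Eng

private theorem dce_723054e4aede : _root_.True := by
  try have : _root_.True := by simp only [_root_.Cfsg.Agent.H235.Ore.Eng.adjN.eq_1]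
  exact _root_.True.intro
end

-- part: H75/QO/Lat
section
prune_inst 0x4f5206d6575620200001c0516e2203ca7bd000490006b0c007ce50542094f7b22a9c727614e201d0b420abe8110050460001000e0402000000a0434000007012098805204b748a11526009f80108a010000100800000000000000000000051004010000000
set_option linter.all false
open scoped Cfsg.Agent.FastGrp

/-!
# The octad lattice `√2 E8` inside the Leech lattice (helper75, row 2.Co1 of S2492)

`L8 = ℤ⁸`, `F : L8 →+ Λ` an isomorphism onto the vectors supported on the octad `c0`, `sqNorm (F n) = 32 * Qh n`.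
The basis is chosen such that `Qh` modulo 2 is the form `n₀n₄ + n₁n₅ + n₂n₆ + n₃n₇`.
-/

set_option autoImplicit false

namespace Cfsg.Agent.H75.QO

open Cfsg Cfsg.Agent.SporadicA Cfsg.Agent.SporadicA.Co0Mono Cfsg.Agent.SporadicA.GolayBase
open Cfsg.Agent.SporadicStructure.LeechBase
open Cfsg.Agent.CoOneType.SignFacts (sup mem_sup wt)
open Cfsg.Agent.CoOneType.GenCrit (c0 m0 m0_code)
open Cfsg.Agent.CoOneType.CentOctad (C0 mem_C0)
open Cfsg.Agent.KFacts.Co1.RHat

/-- integral coordinates -/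
abbrev L8 : Type := Fin 8 → ℤ

/-- the points of the octad -/
def ps : Fin 8 → GolayPt := ![pt 0, pt 1, pt 2, pt 3, pt 4, pt 7, pt 10, pt 12]

theorem ps_inj : Function.Injective ps := by
  intro i j; revert i j; decide

theorem testBit_ps : ∀ p : GolayPt, m0.testBit (idx p) = true ↔ ∃ i, ps i = p := by decide +kernel

theorem mem_sup_c0 {p : GolayPt} : p ∈ sup c0 ↔ ∃ i, ps i = p := by
  rw [← testBit_ps, mem_sup]
  show (word m0 p = 1) ↔ _
  rw [word_apply]
  split_ifs with h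
  · simp [h]
  · simp only [h, _root_.zero_ne_one, _root_.Bool.false_eq_true]

theorem ps_mem (i : Fin 8) : ps i ∈ sup c0 := mem_sup_c0.2 ⟨i, rfl⟩

/-- the coordinates on the octad (half of the coordinates of the lattice vector) -/
def yc (n : L8) : L8 :=
  ![n 0 + 2 * n 1 - n 3 - n 4 - 2 * n 6 - n 7,
    n 0 - 2 * n 1 + n 3 - n 4 - 2 * n 5 + n 7,
    n 0 - 2 * n 2 - n 3 + n 4 - 2 * n 5 - 2 * n 6 - 3 * n 7,
    3 * n 0 + 2 * n 1 + 2 * n 2 - n 3 - 3 * n 4 - 2 * n 6 - n 7,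
    n 0 + 2 * n 1 + 2 * n 2 - n 3 - n 4 - n 7,
    n 0 + 2 * n 2 - 3 * n 3 + n 4 - 2 * n 5 + 2 * n 6 - n 7,
    n 0 - n 3 - n 4 - 2 * n 5 - n 7,
    -n 0 - n 3 + n 4 - n 7]

/-- half of the norm -/
def Qh (n : L8) : ℤ :=
  2 * (n 0 ^ 2 + n 1 ^ 2 + n 2 ^ 2 + n 3 ^ 2 + n 4 ^ 2 + n 5 ^ 2 + n 6 ^ 2 + n 7 ^ 2) +
    2 * n 0 * n 1 + 2 * n 0 * n 2 - 2 * n 0 * n 3 - 3 * n 0 * n 4 - 2 * n 0 * n 5 - 2 * n 0 * n 6 - 2 * n 0 * n 7 +
    2 * n 1 * n 2 - 2 * n 1 * n 3 - 2 * n 1 * n 4 + n 1 * n 5 - 2 * n 1 * n 6 - 2 * n 1 * n 7 -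
    2 * n 2 * n 3 - 2 * n 2 * n 4 + n 2 * n 6 + 2 * n 3 * n 5 + 3 * n 3 * n 7 + 2 * n 4 * n 6 +
    2 * n 5 * n 7 + 2 * n 6 * n 7

theorem sum_yc_sq (n : L8) : ∑ i, yc n i ^ 2 = 8 * Qh n := by
  rw [Fin.sum_univ_eight]
  simp only [yc, Qh, Matrix.cons_val_zero, Matrix.cons_val_one, Matrix.cons_val]
  ring

/-- the vector with given coordinates on the octad -/
def vec (y : L8) : GolayPt → ℤ := fun p => ∑ i, if ps i = p then 2 * y i else 0

theorem vec_ps (y : L8) (i : Fin 8) : vec y (ps i) = 2 * y i := by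
  rw [vec, Finset.sum_eq_single i]
  · rw [if_pos rfl]
  · intro j _ hj
    rw [if_neg fun h => hj (ps_inj h)]
  · intro h; exact absurd (Finset.mem_univ _) h

theorem vec_of_notMem (y : L8) {p : GolayPt} (hp : p ∉ sup c0) : vec y p = 0 := by
  rw [vec]
  refine Finset.sum_eq_zero fun i _ => if_neg ?_
  rintro rfl
  exact hp (ps_mem i)

theorem vec_add (y z : L8) : vec (y + z) = vec y + vec z := by
  funext p
  rw [Pi.add_apply, vec, vec, vec, ← Finset.sum_add_distrib]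
  refine Finset.sum_congr rfl fun i _ => ?_
  split_ifs
  · rw [Pi.add_apply]; ring
  · ring

theorem sum_of_supp {f : GolayPt → ℤ} (hf : ∀ p, p ∉ sup c0 → f p = 0) : ∑ p, f p = ∑ i, f (ps i) := by
  symm
  refine Fintype.sum_of_injective ps ps_inj _ _ ?_ fun i => rfl
  intro p hp
  exact hf p fun h => hp (mem_sup_c0.1 h)

theorem sqNorm_vec (y : L8) : sqNorm (vec y) = 4 * ∑ i, y i ^ 2 := by
  show ∑ p, vec y p ^ 2 = _
  rw [sum_of_supp fun p hp => by rw [vec_of_notMem y hp]; rfl, Finset.mul_sum]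
  refine Finset.sum_congr rfl fun i _ => ?_
  rw [vec_ps]; ring

theorem word_c0_mem : word m0 ∈ golayCode := c0.2

theorem vec_mem {y : L8} (h2 : ∀ i, (2 : ℤ) ∣ y i - y 0) (h4 : (4 : ℤ) ∣ ∑ i, y i) : vec y ∈ leechLattice := by
  rw [mem_leech_iff]
  refine ⟨0, fun p => ∑ i, if ps i = p then y i else 0, ?_, ?_, ?_⟩
  · have h : red (fun p => ∑ i, if ps i = p then y i else 0) = ((y 0 : ℤ) : ZMod 2) • word m0 := by
      funext p
      rw [red_apply, Pi.smul_apply, smul_eq_mul, word_apply]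
      by_cases hp : ∃ i, ps i = p
      · obtain ⟨i, rfl⟩ := hp
        rw [if_pos ((testBit_ps _).2 ⟨i, rfl⟩), mul_one, Finset.sum_eq_single i]
        · rw [if_pos rfl]
          have h := (ZMod.intCast_zmod_eq_zero_iff_dvd (y i - y 0) 2).2 (h2 i)
          push_cast at h
          exact sub_eq_zero.1 h
        · intro j _ hj
          rw [if_neg fun h => hj (ps_inj h)]
        · intro h; exact absurd (Finset.mem_univ _) h
      · rw [if_neg fun h => hp ((testBit_ps _).1 h), mul_zero, Finset.sum_eq_zero]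
        · rfl
        · intro i _
          exact if_neg fun h => hp ⟨i, h⟩
    rw [h]
    exact golayCode.smul_mem _ word_c0_mem
  · have h : ∑ p, (∑ i, if ps i = p then y i else 0) = ∑ i, y i := by
      rw [Finset.sum_comm]
      refine Finset.sum_congr rfl fun i _ => ?_
      rw [Finset.sum_ite_eq]
      simp
    rw [h, mul_zero]
    exact (Int.modEq_zero_iff_dvd).2 h4
  · intro p
    rw [vec, zero_add, Finset.mul_sum]
    refine Finset.sum_congr rfl fun i _ => ?_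
    split_ifs <;> ring

theorem yc_two (n : L8) (i : Fin 8) : (2 : ℤ) ∣ yc n i - yc n 0 := by
  fin_cases i <;> simp only [yc, Matrix.cons_val_zero, Matrix.cons_val_one, Matrix.cons_val, Fin.isValue,
    Fin.mk_zero, Fin.mk_one, Fin.reduceFinMk] <;> omega

theorem yc_four (n : L8) : (4 : ℤ) ∣ ∑ i, yc n i := by
  rw [Fin.sum_univ_eight]
  simp only [yc, Matrix.cons_val_zero, Matrix.cons_val_one, Matrix.cons_val]
  omega

/-- the octad lattice -/
def F : L8 →+ leechLattice :=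
  AddMonoidHom.mk' (fun n => ⟨vec (yc n), vec_mem (yc_two n) (yc_four n)⟩) (by
    intro m n
    apply Subtype.ext
    show vec (yc (m + n)) = vec (yc m) + vec (yc n)
    rw [← vec_add]
    congr 1
    funext i
    fin_cases i <;> simp only [yc, Matrix.cons_val_zero, Matrix.cons_val_one, Matrix.cons_val, Fin.isValue,
      Fin.mk_zero, Fin.mk_one, Fin.reduceFinMk, Pi.add_apply] <;> ring)

theorem F_coe (n : L8) : ((F n : leechLattice) : GolayPt → ℤ) = vec (yc n) := rfl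

theorem sqNorm_F (n : L8) : sqNorm ((F n : leechLattice) : GolayPt → ℤ) = 32 * Qh n := by
  rw [F_coe, sqNorm_vec, sum_yc_sq]; ring

theorem yc_inj {n : L8} (h : yc n = 0) : n = 0 := by
  have h0 := congrFun h 0
  have h1 := congrFun h 1
  have h2 := congrFun h 2
  have h3 := congrFun h 3
  have h4 := congrFun h 4
  have h5 := congrFun h 5
  have h6 := congrFun h 6
  have h7 := congrFun h 7
  simp only [yc, Matrix.cons_val_zero, Matrix.cons_val_one, Matrix.cons_val, Pi.zero_apply] at h0 h1 h2 h3 h4 h5 h6 h7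
  funext i
  fin_cases i <;> simp only [Fin.isValue, Fin.mk_zero, Fin.mk_one, Fin.reduceFinMk, Pi.zero_apply] <;> (clear * - h0 h1 h2 h3 h4 h5 h6 h7; omega)

theorem F_eq_zero {n : L8} (h : F n = 0) : n = 0 := by
  apply yc_inj
  funext i
  have h1 : vec (yc n) (ps i) = 0 := congrArg (fun v : leechLattice => (v : GolayPt → ℤ) (ps i)) h
  rw [vec_ps] at h1
  show yc n i = 0
  omega

theorem F_inj : Function.Injective F := (injective_iff_map_eq_zero F).2 fun _ h => F_eq_zero h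

theorem F_neg (n : L8) : signCo0 c0 • F n = -F n := (sign_neg_iff c0 _).2 fun _ hp => vec_of_notMem _ hp

set_option maxHeartbeats 2000000 in
theorem exists_yc {y : L8} (h2 : ∀ i, (2 : ℤ) ∣ y i - y 0) (h4 : (4 : ℤ) ∣ ∑ i, y i) : ∃ n : L8, yc n = y := by
  have p1 := h2 1
  have p2 := h2 2
  have p3 := h2 3
  have p4 := h2 4
  have p5 := h2 5
  have p6 := h2 6
  have p7 := h2 7
  rw [Fin.sum_univ_eight] at h4
  obtain ⟨n0, e0⟩ : (4 : ℤ) ∣ (-1) * y 0 + (-1) * y 1 + (1) * y 2 + (1) * y 3 + (-1) * y 4 + (1) * y 5 + (-1) * y 6 + (-3) * y 7 := by (clear * - h4 p1 p2 p4 p6; omega)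
  obtain ⟨n1, e1⟩ : (4 : ℤ) ∣ (2) * y 0 + (-2) * y 3 + (2) * y 4 + (-2) * y 7 := by (clear * - p3 p4 p7; omega)
  obtain ⟨n2, e2⟩ : (4 : ℤ) ∣ (2) * y 1 + (2) * y 4 + (-2) * y 6 + (2) * y 7 := by (clear * - p1 p4 p6 p7; omega)
  obtain ⟨n3, e3⟩ : (4 : ℤ) ∣ (-1) * y 0 + (1) * y 1 + (1) * y 2 + (-1) * y 3 + (3) * y 4 + (-1) * y 5 + (-1) * y 6 + (-1) * y 7 := by (clear * - p5 p6 p7 e0 e1 e2; omega)
  obtain ⟨n4, e4⟩ : (4 : ℤ) ∣ (1) * y 0 + (1) * y 1 + (1) * y 2 + (-1) * y 3 + (1) * y 4 + (1) * y 5 + (-3) * y 6 + (-1) * y 7 := by (clear * - p4 p7 e0 e1 e2; omega)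
  obtain ⟨n5, e5⟩ : (4 : ℤ) ∣ (-2) * y 0 + (-2) * y 1 + (2) * y 3 + (-2) * y 4 := by (clear * - p6 p7 e0 e4; omega)
  obtain ⟨n6, e6⟩ : (4 : ℤ) ∣ (-2) * y 0 + (-2) * y 1 + (2) * y 6 + (-2) * y 7 := by (clear * - p7 e0 e1 e4; omega)
  obtain ⟨n7, e7⟩ : (4 : ℤ) ∣ (3) * y 0 + (1) * y 1 + (-1) * y 2 + (-1) * y 3 + (-1) * y 4 + (1) * y 5 + (-1) * y 6 + (-1) * y 7 := by (clear * - p3 p5 p6 e2 e3; omega)
  clear p1 p2 p3 p4 p5 p6 p7 h2 h4
  refine ⟨![n0, n1, n2, n3, n4, n5, n6, n7], ?_⟩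
  funext i
  fin_cases i <;> simp only [yc, Matrix.cons_val_zero, Matrix.cons_val_one, Matrix.cons_val, Fin.isValue,
    Fin.mk_zero, Fin.mk_one, Fin.reduceFinMk] <;> linarith

theorem code_sub_octad {w : GolayPt → ZMod 2} (hw : w ∈ golayCode) (h : ∀ p, p ∉ sup c0 → w p = 0) :
    w = 0 ∨ w = word m0 := by
  let c : golayCode := ⟨w, hw⟩
  have hsub : sup c ⊆ sup c0 := by
    intro p hp
    by_contra h1
    have h2 : w p = 1 := (mem_sup c p).1 hp
    rw [h p h1] at h2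
    exact absurd h2 (by decide)
  have h8 : (sup c0).card = 8 := Cfsg.Agent.CoOneType.ModelFinal.wt_c0
  have hle := Finset.card_le_card hsub
  rcases Cfsg.Agent.CoOneType.SignFacts.wt_cases c with h1 | h1 | h1 | h1 | h1
  · left
    exact congrArg Subtype.val (Cfsg.Agent.CoOneType.ClosingFacts.eq_zero_of_wt h1)
  · right
    have h2 : sup c = sup c0 := Finset.eq_of_subset_of_card_le hsub (by rw [h8]; exact h1.ge)
    exact congrArg Subtype.val (Cfsg.Agent.KFacts.Co1.OctPts.sup_ext h2)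
  all_goals
    have h3 : (sup c).card = _ := h1
    omega

/-- the vectors negated by `ε_o` -/
theorem exists_F {x : leechLattice} (hx : signCo0 c0 • x = -x) : ∃ n, F n = x := by
  rw [sign_neg_iff] at hx
  obtain ⟨m, z, hz, hs, h⟩ := (mem_leech_iff _).1 x.2
  -- an outer point
  have h0 : pt 5 ∉ sup c0 := by
    rw [mem_sup_c0]; decide
  have hm : m = -2 * z (pt 5) := by
    have := h (pt 5)
    rw [hx _ h0] at this
    omega
  set t : ℤ := -z (pt 5) with ht
  have hm' : m = 2 * t := by rw [hm, ht]; ring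
  have hz0 : ∀ p, p ∉ sup c0 → z p = -t := by
    intro p hp
    have := h p
    rw [hx p hp, hm'] at this
    omega
  -- the word
  have hw : red (fun p => z p + t) ∈ golayCode := by
    have e : red (fun p => z p + t) = red z + ((t : ℤ) : ZMod 2) • (1 : GolayPt → ZMod 2) := by
      funext p
      rw [red_apply, Pi.add_apply, red_apply, Pi.smul_apply, Pi.one_apply, smul_eq_mul, mul_one]
      push_cast; rfl
    rw [e]
    exact golayCode.add_mem hz (golayCode.smul_mem _ (Submodule.subset_span (Set.mem_union_right _ rfl)))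
  have hw0 : ∀ p, p ∉ sup c0 → red (fun p => z p + t) p = 0 := by
    intro p hp
    rw [red_apply, hz0 p hp, neg_add_cancel, Int.cast_zero]
  have hpar : ∀ i, (2 : ℤ) ∣ (z (ps i) + t) - (z (ps 0) + t) := by
    intro i
    refine (ZMod.intCast_zmod_eq_zero_iff_dvd _ 2).1 ?_
    push_cast
    rcases code_sub_octad hw hw0 with h1 | h1
    · have e : ∀ j, ((z (ps j) : ℤ) : ZMod 2) + (t : ZMod 2) = 0 := by
        intro j
        have := congrFun h1 (ps j)
        rw [red_apply] at this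
        push_cast at this
        exact this
      rw [e, e, sub_zero]
    · have e : ∀ j, ((z (ps j) : ℤ) : ZMod 2) + (t : ZMod 2) = 1 := by
        intro j
        have := congrFun h1 (ps j)
        rw [red_apply, word_apply, if_pos ((testBit_ps _).2 ⟨j, rfl⟩)] at this
        push_cast at this
        exact this
      rw [e, e, sub_self]
  have hsum : (4 : ℤ) ∣ ∑ i, (z (ps i) + t) := by
    have h1 : ∑ p, (z p + t) = ∑ i, (z (ps i) + t) := sum_of_supp fun p hp => by rw [hz0 p hp]; ring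
    rw [← h1, Finset.sum_add_distrib, Finset.sum_const, Finset.card_univ,
      show Fintype.card GolayPt = 24 from rfl, nsmul_eq_mul]
    have h2 := hs.dvd
    rw [hm'] at h2
    omega
  have hxv : ∀ i, (x : GolayPt → ℤ) (ps i) = 2 * (z (ps i) + t) := by
    intro i
    rw [h, hm']; ring
  obtain ⟨n, hn⟩ := exists_yc (y := fun i => z (ps i) + t) hpar hsum
  refine ⟨n, Subtype.ext (funext fun p => ?_)⟩
  rw [F_coe]
  by_cases hp : p ∈ sup c0
  · obtain ⟨i, rfl⟩ := mem_sup_c0.1 hp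
    rw [vec_ps, hn, hxv]
  · rw [vec_of_notMem _ hp, hx p hp]

end Cfsg.Agent.H75.QO

private theorem dce_392fe9a874aa : _root_.True := by
  try have : _root_.True := by simp only [_root_.Cfsg.Agent.H75.QO.vec.eq_1]
  try have : _root_.True := by simp only [_root_.Cfsg.Agent.H75.QO.yc.eq_1]
  try have : _root_.True := by simp only [_root_.Cfsg.Agent.H75.QO.Qh.eq_1]
  exact _root_.True.intro
end

-- part: H75/QO/Mu
section
prune_inst 0x4f1006d6555620200001c0516a2201ca3bd000492004b0400bd850040014e5020a987a6414820091bc2022c1120050460001000a0402000000a0404000005012098800000a148001506009f80308e010000100800000000000000000000051000010000000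
set_option linter.all false
open scoped Cfsg.Agent.FastGrp

/-!
# The action of `C(ε_o)` on the octad lattice (helper75, row 2.Co1 of S2492)

`mu : C0 c0 →* GL₈(ℤ)`, values in `Gam`, the isometries of the Gram matrix, `mu g = 1 ↔ g ∈ Rh c0`.
`eq_of_mod` : an isometry congruent to 1 modulo 2 is `±1`.
-/

set_option autoImplicit false

namespace Cfsg.Agent.H75.QO

open Cfsg Cfsg.Agent.SporadicA Cfsg.Agent.SporadicA.Co0Mono Cfsg.Agent.SporadicA.GolayBase
open Cfsg.Agent.SporadicA.Co1Simple (allOne)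
open Cfsg.Agent.CoOneType.SignFacts (sup mem_sup wt)
open Cfsg.Agent.CoOneType.GenCrit (c0 m0 m0_code)
open Cfsg.Agent.CoOneType.CentOctad (C0 mem_C0 sign_mem)
open Cfsg.Agent.KFacts.Co1.RHat
open Matrix

/-- integral matrices -/
abbrev M8 : Type := Matrix (Fin 8) (Fin 8) ℤ

/-- the Gram matrix -/
def Gm : M8 := !![4, 2, 2, -2, -3, -2, -2, -2; 2, 4, 2, -2, -2, 1, -2, -2; 2, 2, 4, -2, -2, 0, 1, 0;
  -2, -2, -2, 4, 0, 2, 0, 3; -3, -2, -2, 0, 4, 0, 2, 0; -2, 1, 0, 2, 0, 4, 0, 2; -2, -2, 1, 0, 2, 0, 4, 2;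
  -2, -2, 0, 3, 0, 2, 2, 4]

/-- its inverse -/
def Gi : M8 := !![4, 0, -2, 0, 1, 2, 2, 0; 0, 4, 0, 2, 2, -3, 0, 2; -2, 0, 4, 2, 2, -2, -3, 0;
  0, 2, 2, 4, 2, -2, 0, -1; 1, 2, 2, 2, 4, -2, -2, 2; 2, -3, -2, -2, -2, 4, 2, -2; 2, 0, -3, 0, -2, 2, 4, -2;
  0, 2, 0, -1, 2, -2, -2, 4]

theorem Gi_mul : Gi * Gm = 1 := by decide +kernel

theorem Gm_symm : Gmᵀ = Gm := by decide +kernel

/-- the bilinear form -/
def Bl (m n : L8) : ℤ := m ⬝ᵥ Gm *ᵥ n

theorem Bl_add_left (m m' n : L8) : Bl (m + m') n = Bl m n + Bl m' n := add_dotProduct _ _ _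
theorem Bl_add_right (m n n' : L8) : Bl m (n + n') = Bl m n + Bl m n' := by
  rw [Bl, Bl, Bl, mulVec_add, dotProduct_add]
theorem Bl_comm (m n : L8) : Bl m n = Bl n m := by
  rw [Bl, dotProduct_mulVec, ← mulVec_transpose, Gm_symm, dotProduct_comm, Bl]

theorem Bl_self (n : L8) : Bl n n = 2 * Qh n := by
  simp only [Bl, Gm, Qh, dotProduct, mulVec, Fin.sum_univ_eight, Matrix.of_apply, Matrix.cons_val', Matrix.cons_val_zero,
    Matrix.cons_val_one, Matrix.cons_val, Matrix.cons_val_fin_one]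
  ring

theorem Qh_add (m n : L8) : Qh (m + n) = Qh m + Qh n + Bl m n := by
  have h1 := Bl_self (m + n)
  rw [Bl_add_left, Bl_add_right, Bl_add_right, Bl_self, Bl_self, Bl_comm n m] at h1
  linarith

theorem Qh_nonneg (n : L8) : 0 ≤ Qh n := by
  have h := sum_yc_sq n
  have h1 : 0 ≤ ∑ i, yc n i ^ 2 := Finset.sum_nonneg fun i _ => sq_nonneg _
  omega

theorem eq_zero_of_Qh {n : L8} (h : Qh n = 0) : n = 0 := by
  apply yc_inj
  have h1 := sum_yc_sq n
  rw [h, mul_zero, Finset.sum_eq_zero_iff_of_nonneg fun i _ => sq_nonneg _] at h1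
  funext i
  exact pow_eq_zero_iff (two_ne_zero) |>.1 (h1 i (Finset.mem_univ i))

/-! ### Isometries -/

/-- the isometry group of the Gram matrix -/
def Gam : Subgroup M8ˣ where
  carrier := {A | (A : M8)ᵀ * Gm * (A : M8) = Gm}
  one_mem' := by
    show (1 : M8)ᵀ * Gm * 1 = Gm
    rw [transpose_one, one_mul, mul_one]
  mul_mem' := fun {A B} hA hB => by
    have hA' : (A : M8)ᵀ * Gm * (A : M8) = Gm := hA
    have hB' : (B : M8)ᵀ * Gm * (B : M8) = Gm := hB
    show ((A : M8) * (B : M8))ᵀ * Gm * ((A : M8) * (B : M8)) = Gm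
    calc ((A : M8) * (B : M8))ᵀ * Gm * ((A : M8) * (B : M8)) = (B : M8)ᵀ * ((A : M8)ᵀ * Gm * (A : M8)) * (B : M8) := by
          rw [transpose_mul]; simp only [mul_assoc]
      _ = Gm := by rw [hA', hB']
  inv_mem' := fun {A} hA => by
    have hA' : (A : M8)ᵀ * Gm * (A : M8) = Gm := hA
    show ((A⁻¹ : M8ˣ) : M8)ᵀ * Gm * ((A⁻¹ : M8ˣ) : M8) = Gm
    have e : (A : M8) * ((A⁻¹ : M8ˣ) : M8) = 1 := A.mul_inv
    calc ((A⁻¹ : M8ˣ) : M8)ᵀ * Gm * ((A⁻¹ : M8ˣ) : M8) =
          ((A⁻¹ : M8ˣ) : M8)ᵀ * ((A : M8)ᵀ * Gm * (A : M8)) * ((A⁻¹ : M8ˣ) : M8) := by rw [hA']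
      _ = ((A : M8) * ((A⁻¹ : M8ˣ) : M8))ᵀ * Gm * ((A : M8) * ((A⁻¹ : M8ˣ) : M8)) := by
          rw [transpose_mul]; simp only [mul_assoc]
      _ = Gm := by rw [e, transpose_one, one_mul, mul_one]

theorem dot_map (A : M8) (m w : L8) : (A *ᵥ m) ⬝ᵥ w = m ⬝ᵥ (Aᵀ *ᵥ w) := by
  rw [dotProduct_comm, dotProduct_mulVec, ← mulVec_transpose, dotProduct_comm]

theorem Bl_mulVec (A : M8) (m n : L8) : Bl (A *ᵥ m) (A *ᵥ n) = m ⬝ᵥ (Aᵀ * Gm * A) *ᵥ n := by
  rw [Bl, dot_map, mulVec_mulVec, mulVec_mulVec]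

theorem Bl_map {A : M8} (hA : Aᵀ * Gm * A = Gm) (m n : L8) : Bl (A *ᵥ m) (A *ᵥ n) = Bl m n := by
  rw [Bl_mulVec, hA, Bl]

theorem Qh_map {A : M8} (hA : Aᵀ * Gm * A = Gm) (n : L8) : Qh (A *ᵥ n) = Qh n := by
  have h1 := Bl_map hA n n
  rw [Bl_self, Bl_self] at h1
  linarith

theorem isom_of_Qh {A : M8} (h : ∀ n, Qh (A *ᵥ n) = Qh n) : Aᵀ * Gm * A = Gm := by
  have hB : ∀ m n, Bl (A *ᵥ m) (A *ᵥ n) = Bl m n := by
    intro m n
    have h1 := Qh_add (A *ᵥ m) (A *ᵥ n)
    rw [← mulVec_add, h, h, h, Qh_add] at h1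
    linarith
  ext i j
  have h1 := hB (Pi.single i 1) (Pi.single j 1)
  rw [Bl_mulVec, Bl] at h1
  simpa using h1

/-! ### The action -/

theorem neg_of_mem {g : Co0} (hg : g ∈ C0 c0) {x : leechLattice} (hx : signCo0 c0 • x = -x) :
    signCo0 c0 • (g • x) = -(g • x) := by
  rw [← mul_smul, ← mem_C0.1 hg, mul_smul, hx, smul_neg]

theorem exists_act (g : C0 c0) (n : L8) : ∃ n' : L8, F n' = (g : Co0) • F n := exists_F (neg_of_mem g.2 (F_neg n))

/-- the action on coordinates -/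
noncomputable def act (g : C0 c0) (n : L8) : L8 := Classical.choose (exists_act g n)

theorem F_act (g : C0 c0) (n : L8) : F (act g n) = (g : Co0) • F n := Classical.choose_spec (exists_act g n)

theorem act_add (g : C0 c0) (m n : L8) : act g (m + n) = act g m + act g n := by
  apply F_inj
  rw [map_add, F_act, F_act, F_act, map_add, Co0Mono.smul_add]

theorem act_mul (g h : C0 c0) (n : L8) : act (g * h) n = act g (act h n) := by
  apply F_inj
  rw [F_act, F_act, F_act, Subgroup.coe_mul, mul_smul]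

theorem act_one (n : L8) : act 1 n = n := by
  apply F_inj
  rw [F_act, Subgroup.coe_one, one_smul]

theorem Qh_act (g : C0 c0) (n : L8) : Qh (act g n) = Qh n := by
  have h1 := sqNorm_F (act g n)
  rw [F_act, sqNorm_smul, sqNorm_F] at h1
  omega

/-- the linear map -/
noncomputable def actL (g : C0 c0) : L8 →ₗ[ℤ] L8 := (AddMonoidHom.mk' (act g) (act_add g)).toIntLinearMap

/-- the matrices -/
noncomputable def matH : C0 c0 →* M8 where
  toFun g := LinearMap.toMatrix' (actL g)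
  map_one' := by
    rw [show actL 1 = LinearMap.id from LinearMap.ext act_one, LinearMap.toMatrix'_id]
  map_mul' g h := by
    rw [← LinearMap.toMatrix'_mul]
    congr 1
    exact LinearMap.ext (act_mul g h)

theorem matH_mulVec (g : C0 c0) (n : L8) : matH g *ᵥ n = act g n := by
  show LinearMap.toMatrix' (actL g) *ᵥ n = _
  rw [LinearMap.toMatrix'_mulVec]
  rfl

/-- **the representation** -/
noncomputable def mu : C0 c0 →* M8ˣ := matH.toHomUnits

theorem mu_mulVec (g : C0 c0) (n : L8) : (mu g : M8) *ᵥ n = act g n := matH_mulVec g n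

theorem mu_mem (g : C0 c0) : mu g ∈ Gam := isom_of_Qh fun n => by rw [mu_mulVec, Qh_act]

theorem ext_mulVec {A B : M8} (h : ∀ n, A *ᵥ n = B *ᵥ n) : A = B := by
  ext i j
  have h1 := congrFun (h (Pi.single j 1)) i
  simpa using h1

theorem mu_eq_one_iff (g : C0 c0) : mu g = 1 ↔ (g : Co0) ∈ Rh c0 := by
  constructor
  · intro h x hx
    obtain ⟨n, rfl⟩ := exists_F hx
    rw [← F_act, ← mu_mulVec, h, Units.val_one, one_mulVec]
  · intro h
    apply Units.ext
    apply ext_mulVec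
    intro n
    rw [mu_mulVec, Units.val_one, one_mulVec]
    apply F_inj
    rw [F_act]
    exact h _ (F_neg n)

/-- `-1` -/
noncomputable def negC : C0 c0 := ⟨signCo0 allOne, sign_mem c0 allOne⟩

theorem mu_neg : mu negC = -1 := by
  apply Units.ext
  apply ext_mulVec
  intro n
  rw [mu_mulVec, Units.val_neg, Units.val_one, neg_mulVec, one_mulVec]
  apply F_inj
  rw [F_act, map_neg]
  have h : signCo0 allOne • F n = -F n := (sign_neg_iff allOne _).2 fun p hp =>
    absurd ((mem_sup allOne p).2 rfl) hp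
  exact h

/-! ### Isometries congruent to 1 modulo 2 -/

/-- a basis of roots, consecutive ones not orthogonal -/
def RM : M8 := !![-1, 0, 1, 0, -1, 0, 0, -1; 0, 0, 0, 0, 0, -1, 0, -1; 0, 1, 0, 0, 0, 0, 1, 0; 0, 1, 0, 1, 0, -1, 1, -1;
  -1, 1, 1, 0, -1, 0, 0, -1; 0, 0, 0, 0, 0, 1, 0, 0; 0, -1, -1, 0, 0, 0, 0, 0; 0, 0, 1, -1, -1, 0, -1, 0]

/-- the inverse -/
def RI : M8 := !![0, 0, 0, 1, -1, 1, 0, 1; -1, 0, 0, 0, 1, 0, 0, 0; 1, 0, 0, 0, -1, 0, -1, 0; 0, -1, -1, 1, 0, 0, 0, 0;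
  0, 1, 0, -1, 0, 0, -1, -1; 0, 0, 0, 0, 0, 1, 0, 0; 1, 0, 1, 0, -1, 0, 0, 0; 0, -1, 0, 0, 0, -1, 0, 0]

theorem RM_RI : RM * RI = 1 := by decide +kernel

/-- the roots -/
def rt (k : Fin 8) : L8 := fun i => RM i k

theorem Qh_rt : ∀ k, Qh (rt k) = 1 := by decide +kernel

theorem Bl_rt : ∀ k : Fin 7, Bl (rt k.castSucc) (rt k.succ) ≠ 0 := by decide +kernel

theorem Qh_two (n : L8) : Qh ((2 : ℤ) • n) = 4 * Qh n := by
  have h := Qh_add n n
  rw [Bl_self] at h
  rw [two_smul]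
  linarith

theorem Bl_two (m n : L8) : Bl m ((2 : ℤ) • n) = 2 * Bl m n := by
  rw [two_smul, Bl_add_right]; ring

theorem Bl_neg (m n : L8) : Bl m (-n) = -Bl m n := by
  rw [Bl, Bl, mulVec_neg, dotProduct_neg]

theorem two_mul_mulVec (W : M8) (n : L8) : (2 * W) *ᵥ n = (2 : ℤ) • (W *ᵥ n) := by
  rw [two_mul, add_mulVec, two_smul]

theorem root_cases {A : M8} (hA : Aᵀ * Gm * A = Gm) {W : M8} (h2 : A = 1 + 2 * W) {r : L8} (hr : Qh r = 1) :
    A *ᵥ r = r ∨ A *ᵥ r = -r := by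
  have e : A *ᵥ r = r + (2 : ℤ) • (W *ᵥ r) := by rw [h2, add_mulVec, one_mulVec, two_mul_mulVec]
  set w := W *ᵥ r with hw
  have h1 := Qh_map hA r
  rw [e, Qh_add, Qh_two, Bl_two, hr] at h1
  have h3 : Qh (r + w) = 1 - Qh w := by rw [Qh_add, hr]; linarith
  have h4 := Qh_nonneg w
  have h5 := Qh_nonneg (r + w)
  have h6 : Qh w = 0 ∨ Qh (r + w) = 0 := by omega
  rcases h6 with h6 | h6
  · left
    rw [e, eq_zero_of_Qh h6, _root_.smul_zero, add_zero]
  · right
    have h7 : w = -r := (neg_eq_of_add_eq_zero_right (eq_zero_of_Qh h6)).symm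
    rw [e, h7, two_smul]
    abel

theorem eq_one_of {A : M8} (hA : Aᵀ * Gm * A = Gm) {W : M8} (h2 : A = 1 + 2 * W) (h0 : A *ᵥ rt 0 = rt 0) : A = 1 := by
  have step : ∀ k : Fin 7, A *ᵥ rt k.castSucc = rt k.castSucc → A *ᵥ rt k.succ = rt k.succ := by
    intro k hk
    rcases root_cases hA h2 (Qh_rt k.succ) with h | h
    · exact h
    · exfalso
      have h3 := Bl_map hA (rt k.castSucc) (rt k.succ)
      rw [hk, h, Bl_neg] at h3
      exact Bl_rt k (by linarith)
  have all : ∀ k : Fin 8, A *ᵥ rt k = rt k := by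
    intro k
    induction k using Fin.induction with
    | zero => exact h0
    | succ k ih => exact step k ih
  have h3 : A * RM = RM := by
    ext i k
    have := congrFun (all k) i
    exact this
  calc A = A * (RM * RI) := by rw [RM_RI, mul_one]
    _ = RM * RI := by rw [← mul_assoc, h3]
    _ = 1 := RM_RI

/-- **an isometry congruent to 1 modulo 2 is `±1`** -/
theorem eq_of_mod {A : M8} (hA : Aᵀ * Gm * A = Gm) (h2 : ∃ W : M8, A = 1 + 2 * W) : A = 1 ∨ A = -1 := by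
  obtain ⟨W, hW⟩ := h2
  rcases root_cases hA hW (Qh_rt 0) with h | h
  · exact Or.inl (eq_one_of hA hW h)
  · right
    have hA' : (-A)ᵀ * Gm * (-A) = Gm := by
      rw [transpose_neg, neg_mul, neg_mul_neg, hA]
    have h3 : -A = 1 := eq_one_of hA' (W := -1 - W) (by rw [hW]; noncomm_ring) (by rw [neg_mulVec, h, neg_neg])
    rw [← h3, neg_neg]

end Cfsg.Agent.H75.QO

private theorem dce_280cf734f39c : _root_.True := by
  try have : _root_.True := by simp only [_root_.Cfsg.Agent.H75.QO.Gm.eq_1]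
  try have : _root_.True := by simp only [_root_.Cfsg.Agent.H75.QO.Bl.eq_1]
  exact _root_.True.intro
end

-- part: H75/QO/Red
section
prune_inst 0x4e5006c655162020000040506e0203c87dd000492004b0c00dc450840014efd200986a7604480191b4202aa010005042000000040400000000a04000000050120900042049348a11526001980008e010000100800000000000000000000051000010000000
set_option linter.all false
open scoped Cfsg.Agent.FastGrp

/-!
# Reduction modulo 2 of the octad lattice (helper75, row 2.Co1 of S2492)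

`red : GL₈(ℤ) →* GL(V)`, `rho : C0 c0 →* V ≃ₗ V`; `rho_range : rho.range = Om`; `exists_mu`: an isometry of the octad
lattice with reduction in `Om` is `mu g`; `exists_lift`: every isometry of `V` lifts.
-/

set_option autoImplicit false

namespace Cfsg.Agent.H75.QO

open Cfsg Cfsg.Agent.SporadicA Cfsg.Agent.SporadicA.Co0Mono
open Cfsg.Agent.SporadicA.Co1Simple (allOne)
open Cfsg.Agent.CoOneType.GenCrit (c0 m0 m0_code)
open Cfsg.Agent.CoOneType.CentOctad (C0 mem_C0 sign_mem)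
open Cfsg.Agent.KFacts.Co1.RHat
open Cfsg.Agent.StdO8.Model Cfsg.Agent.StdO8.Code
open Matrix

/-- the indices -/
def ef : Fin 4 ⊕ Fin 4 ≃ Fin 8 := finSumFinEquiv

/-- the reduction of vectors -/
def psi (n : L8) : V := fun a => (n (ef a) : ZMod 2)

theorem psi_apply (n : L8) (a : Fin 4 ⊕ Fin 4) : psi n a = (n (ef a) : ZMod 2) := rfl

theorem psi_surj (v : V) : ∃ n, psi n = v := by
  refine ⟨fun i => (((v (ef.symm i)).val : ℕ) : ℤ), ?_⟩
  funext a
  rw [psi_apply, Equiv.symm_apply_apply]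
  push_cast
  exact ZMod.natCast_zmod_val _

/-- the form modulo two -/
theorem q_psi (n : L8) : q (psi n) = (Qh n : ZMod 2) := by
  rw [q_apply, Fin.sum_univ_four]
  have e0 : ef (Sum.inl (0 : Fin 4)) = 0 := by decide
  have e1 : ef (Sum.inl (1 : Fin 4)) = 1 := by decide
  have e2 : ef (Sum.inl (2 : Fin 4)) = 2 := by decide
  have e3 : ef (Sum.inl (3 : Fin 4)) = 3 := by decide
  have e4 : ef (Sum.inr (0 : Fin 4)) = 4 := by decide
  have e5 : ef (Sum.inr (1 : Fin 4)) = 5 := by decide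
  have e6 : ef (Sum.inr (2 : Fin 4)) = 6 := by decide
  have e7 : ef (Sum.inr (3 : Fin 4)) = 7 := by decide
  simp only [psi_apply, e0, e1, e2, e3, e4, e5, e6, e7]
  have h : Qh n = n 0 * n 4 + n 1 * n 5 + n 2 * n 6 + n 3 * n 7 + 2 * ((n 0 ^ 2 + n 1 ^ 2 + n 2 ^ 2 + n 3 ^ 2 + n 4 ^ 2 +
      n 5 ^ 2 + n 6 ^ 2 + n 7 ^ 2) +
    n 0 * n 1 + n 0 * n 2 - n 0 * n 3 - 2 * n 0 * n 4 - n 0 * n 5 - n 0 * n 6 - n 0 * n 7 +
    n 1 * n 2 - n 1 * n 3 - n 1 * n 4 - n 1 * n 6 - n 1 * n 7 -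
    n 2 * n 3 - n 2 * n 4 + n 3 * n 5 + n 3 * n 7 + n 4 * n 6 +
    n 5 * n 7 + n 6 * n 7) := by
    rw [Qh]; ring
  rw [h]
  push_cast
  rw [show (2 : ZMod 2) = 0 from rfl, zero_mul, add_zero]

/-- the reduction of matrices -/
def rmap : M8 →+* Matrix (Fin 4 ⊕ Fin 4) (Fin 4 ⊕ Fin 4) (ZMod 2) :=
  ((Matrix.reindexAlgEquiv (ZMod 2) (ZMod 2) ef.symm).toRingEquiv.toRingHom).comp
    (Int.castRingHom (ZMod 2)).mapMatrix

theorem rmap_apply (A : M8) (a b : Fin 4 ⊕ Fin 4) :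
    rmap A a b = (A (ef a) (ef b) : ZMod 2) := rfl

theorem rmap_mulVec (A : M8) (n : L8) : rmap A *ᵥ psi n = psi (A *ᵥ n) := by
  funext a
  rw [psi_apply]
  show ∑ b, rmap A a b * psi n b = ((∑ j, A (ef a) j * n j : ℤ) : ZMod 2)
  rw [Int.cast_sum, ← Equiv.sum_comp ef fun x => ((A (ef a) x * n x : ℤ) : ZMod 2)]
  refine Finset.sum_congr rfl fun b _ => ?_
  rw [rmap_apply, psi_apply, Int.cast_mul]

/-- **the reduction** -/
def red : M8ˣ →* (V ≃ₗ[ZMod 2] V) :=
  (LinearMap.GeneralLinearGroup.generalLinearEquiv (ZMod 2) V).toMonoidHom.comp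
    ((Matrix.GeneralLinearGroup.toLin (n := Fin 4 ⊕ Fin 4) (R := ZMod 2)).toMonoidHom.comp (Units.map rmap.toMonoidHom))

theorem red_psi (A : M8ˣ) (n : L8) : red A (psi n) = psi ((A : M8) *ᵥ n) := rmap_mulVec _ n

theorem red_mem {A : M8ˣ} (hA : A ∈ Gam) : red A ∈ O8 := by
  rw [mem_O8]
  intro v
  obtain ⟨n, rfl⟩ := psi_surj v
  rw [red_psi, q_psi, q_psi, Qh_map hA]

theorem mod_two_of_red {A : M8ˣ} (h : red A = 1) : ∃ W : M8, (A : M8) = 1 + 2 * W := by
  have h1 : ∀ i j, (2 : ℤ) ∣ ((A : M8) - 1) i j := by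
    intro i j
    obtain ⟨a, rfl⟩ := ef.surjective i
    refine (ZMod.intCast_zmod_eq_zero_iff_dvd _ 2).1 ?_
    have h2 : red A (psi (Pi.single j 1)) = psi (Pi.single j 1) := by rw [h]; rfl
    rw [red_psi] at h2
    have h3 := congrFun h2 a
    rw [psi_apply, psi_apply] at h3
    have h4 : ((A : M8) *ᵥ Pi.single j 1) (ef a) = (A : M8) (ef a) j := by simp
    rw [h4] at h3
    rw [Matrix.sub_apply, Int.cast_sub, h3, Matrix.one_apply, Pi.single_apply]
    exact sub_self _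
  choose W hW using h1
  refine ⟨Matrix.of W, ?_⟩
  ext i j
  have h2 := hW i j
  rw [Matrix.sub_apply] at h2
  rw [Matrix.add_apply, two_mul, Matrix.add_apply, Matrix.of_apply]
  linarith

theorem eq_of_red {A : M8ˣ} (hA : A ∈ Gam) (h : red A = 1) : A = 1 ∨ A = -1 := by
  rcases eq_of_mod hA (mod_two_of_red h) with h1 | h1
  · exact Or.inl (Units.ext h1)
  · exact Or.inr (Units.ext h1)

/-- the isometries with the same reduction -/
theorem eq_of_red_eq {A B : M8ˣ} (hA : A ∈ Gam) (hB : B ∈ Gam) (h : red A = red B) : A = B ∨ A = -B := by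
  have h1 : red (B⁻¹ * A) = 1 := by rw [map_mul, map_inv, h, inv_mul_cancel]
  rcases eq_of_red (Gam.mul_mem (Gam.inv_mem hB) hA) h1 with h2 | h2
  · left
    rw [← mul_one B, ← h2, mul_inv_cancel_left]
  · right
    have h3 : A = B * (B⁻¹ * A) := by group
    rw [h3, h2, mul_neg, mul_one]

/-- the action on `V` -/
noncomputable def rho : C0 c0 →* (V ≃ₗ[ZMod 2] V) := red.comp mu

theorem rho_mem (g : C0 c0) : rho g ∈ O8 := red_mem (mu_mem g)

theorem red_neg_one : red (-1) = 1 := by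
  apply LinearEquiv.ext
  intro v
  obtain ⟨n, rfl⟩ := psi_surj v
  rw [red_psi, Units.val_neg, Units.val_one, neg_mulVec, one_mulVec]
  funext a
  show psi (-n) a = psi n a
  rw [psi_apply, psi_apply, Pi.neg_apply, Int.cast_neg]
  have : ∀ x : ZMod 2, -x = x := by decide
  exact this _

theorem rho_eq_one_iff (g : C0 c0) : rho g = 1 ↔ (g : Co0) ∈ Rh c0 ∨ (negC * g : Co0) ∈ Rh c0 := by
  constructor
  · intro h
    rcases eq_of_red (mu_mem g) h with h1 | h1
    · exact Or.inl ((mu_eq_one_iff g).1 h1)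
    · right
      have h2 : mu (negC * g) = 1 := by rw [map_mul, mu_neg, h1, neg_mul_neg, mul_one]
      exact (mu_eq_one_iff _).1 h2
  · rintro (h | h)
    · have h1 := (mu_eq_one_iff g).2 h
      show red (mu g) = 1
      rw [h1, map_one]
    · have h1 := (mu_eq_one_iff (negC * g)).2 h
      rw [map_mul, mu_neg] at h1
      show red (mu g) = 1
      have h2 : mu g = -1 := by
        have h3 : -1 * (-1 * mu g) = -1 * (1 : M8ˣ) := by rw [h1]
        simpa using h3
      rw [h2, red_neg_one]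

/-! ### The image -/

theorem conj_Om {M A : V ≃ₗ[ZMod 2] V} (hM : M ∈ O8) (hA : A ∈ Om) : M * A * M⁻¹ ∈ Om :=
  Cfsg.Agent.LieClassical.OrthCore.conj_mem_E hM hA

theorem comm_Om {M N : V ≃ₗ[ZMod 2] V} (hM : M ∈ O8) (hN : N ∈ O8) : M * N * M⁻¹ * N⁻¹ ∈ Om := by
  have key : ∀ {M N : V ≃ₗ[ZMod 2] V}, M ∈ Om → N ∈ O8 → M * N * M⁻¹ * N⁻¹ ∈ Om := by
    intro M N hM hN
    rw [show M * N * M⁻¹ * N⁻¹ = M * (N * M⁻¹ * N⁻¹) by group]
    exact mul_mem hM (conj_Om hN (inv_mem hM))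
  rcases Cfsg.Agent.StdO8.FactG.mem_or hM with h1 | h1
  · exact key h1 hN
  rcases Cfsg.Agent.StdO8.FactG.mem_or hN with h2 | h2
  · rw [show M * N * M⁻¹ * N⁻¹ = (N * M * N⁻¹ * M⁻¹)⁻¹ by group]
    exact inv_mem (key h2 hM)
  set r := Cfsg.Agent.StdO8.FactG.rh with hr
  have hrr : r * r = 1 := Cfsg.Agent.StdO8.FactG.rh_mul
  have hri : r⁻¹ = r := Cfsg.Agent.StdO8.FactG.rh_inv
  have e : M * N * M⁻¹ * N⁻¹ = (M * r) * (r * ((N * r) * (M * r)⁻¹) * r⁻¹) * (N * r)⁻¹ := by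
    calc M * N * M⁻¹ * N⁻¹ = M * (r * r) * N * (r * r⁻¹) * M⁻¹ * (r⁻¹ * r⁻¹) * N⁻¹ := by
          rw [hrr, hri, hrr]; group
      _ = _ := by group
  rw [e]
  exact mul_mem (mul_mem h1 (conj_Om Cfsg.Agent.StdO8.FactG.rh_mem (mul_mem h2 (inv_mem h1)))) (inv_mem h2)

theorem wt_c0 : Cfsg.Agent.CoOneType.SignFacts.wt c0 = 8 := Cfsg.Agent.CoOneType.ModelFinal.wt_c0

theorem rho_range_le : rho.range ≤ Om := by
  have hp : ⁅(⊤ : Subgroup (C0 c0)), (⊤ : Subgroup (C0 c0))⁆ = ⊤ := by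
    apply Subgroup.map_injective (C0 c0).subtype_injective
    rw [Subgroup.map_commutator, ← MonoidHom.range_eq_map, Subgroup.range_subtype]
    exact Cfsg.Agent.KFacts.Co1.Perf.comm_eq wt_c0
  rw [MonoidHom.range_eq_map, ← hp, Subgroup.map_commutator, Subgroup.commutator_le]
  rintro _ ⟨a, -, rfl⟩ _ ⟨b, -, rfl⟩
  exact comm_Om (rho_mem a) (rho_mem b)

theorem card_Rh : Nat.card (Rh c0) = 512 := by
  rw [Nat.card_congr (Cfsg.Agent.KFacts.Co1.InCo1.rEquiv wt_c0).toEquiv]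
  exact Cfsg.Agent.KFacts.Co1.YBig.card_R wt_c0

theorem fin_co0 : Finite Co0 := Cfsg.Agent.CoOneType.FrameFix.finite_co0

theorem card_ker : Nat.card rho.ker ≤ 1024 := by
  classical
  have := fin_co0
  let f : rho.ker → Rh c0 ⊕ Rh c0 := fun g =>
    if h : (g.1 : Co0) ∈ Rh c0 then Sum.inl ⟨_, h⟩
    else Sum.inr ⟨(negC * g.1 : Co0), ((rho_eq_one_iff g.1).1 g.2).resolve_left h⟩
  have hf : Function.Injective f := by
    intro g g' h
    by_cases h1 : (g.1 : Co0) ∈ Rh c0 <;> by_cases h2 : (g'.1 : Co0) ∈ Rh c0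
    · simp only [f, dif_pos h1, dif_pos h2] at h
      have h3 : (⟨(g.1 : Co0), h1⟩ : Rh c0) = ⟨(g'.1 : Co0), h2⟩ := Sum.inl.inj h
      have h4 : (g.1 : Co0) = (g'.1 : Co0) := congrArg (fun y : Rh c0 => (y : Co0)) h3
      exact Subtype.ext (Subtype.ext h4)
    · simp only [f, dif_pos h1, dif_neg h2] at h
      exact absurd h (by simp)
    · simp only [f, dif_neg h1, dif_pos h2] at h
      exact absurd h (by simp)
    · simp only [f, dif_neg h1, dif_neg h2] at h
      have h3 := congrArg Subtype.val (Sum.inr.inj h)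
      exact Subtype.ext (Subtype.ext (mul_left_cancel h3))
  refine (Nat.card_le_card_of_injective f hf).trans ?_
  rw [Nat.card_sum, card_Rh]

/-- **the image is `Ω₈⁺(2)`** -/
theorem rho_range : rho.range = Om := by
  have := fin_co0
  have hfin : Finite Om := by
    apply Nat.finite_of_card_ne_zero
    rw [Cfsg.Agent.StdO8.Uni.card_Om]
    norm_num
  refine Subgroup.eq_of_le_of_card_ge rho_range_le ?_
  rw [Cfsg.Agent.StdO8.Uni.card_Om]
  have h1 : Nat.card rho.ker * Nat.card rho.range = Nat.card (C0 c0) := by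
    rw [← Subgroup.index_ker, Subgroup.card_mul_index]
  have h2 := Cfsg.Agent.CoOneType.CentOctad.card_C0 wt_c0
  have h3 := card_ker
  rw [← h1] at h2
  by_contra h4
  push Not at h4
  have h5 : Nat.card rho.range ≤ 174182399 := by
    have h8 : (2 : ℕ) ^ 12 * 42525 = 174182400 := by norm_num
    rw [h8] at h4
    exact Nat.le_of_lt_succ h4
  have h6 := Nat.mul_le_mul h3 h5
  have h7 := h2.trans h6
  norm_num at h7

theorem eq_mu_of {A : M8ˣ} (hA : A ∈ Gam) {g : C0 c0} (h : red A = rho g) : A = mu g ∨ A = mu (negC * g) := by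
  rcases eq_of_red_eq hA (mu_mem g) h with h1 | h1
  · exact Or.inl h1
  · right
    rw [h1, map_mul, mu_neg, neg_mul, one_mul]

/-- an isometry of the octad lattice with reduction in `Om` comes from `C(ε_o)` -/
theorem exists_mu {A : M8ˣ} (hA : A ∈ Gam) (h : red A ∈ Om) : ∃ g : C0 c0, mu g = A := by
  rw [← rho_range] at h
  obtain ⟨g, hg⟩ := h
  rcases eq_mu_of hA hg.symm with h1 | h1
  · exact ⟨_, h1.symm⟩
  · exact ⟨_, h1.symm⟩

end Cfsg.Agent.H75.QO
end

-- part: H834/R4/Act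
section
prune_inst 0x5204c615062020000040506c0203cc79f000590002b0c00dda50440058e7f230980a760f4201f0b430aaa25003d0428111000d9420000000a040600011d01a0988a52063340a11527009f80908a010000100800000000000000000000051004010000000
set_option linter.all false
open scoped Cfsg.Agent.FastGrp

private noncomputable def pnW (l : List Cfsg.Spor.Fi24.Gen) : List Cfsg.Spor.Fi24.Gen :=
  List.rec (motive := fun _ => List Cfsg.Spor.Fi24.Gen) [] (fun g _ ih =>
    Cfsg.Spor.Fi24.Gen.rec (motive := fun _ => List Cfsg.Spor.Fi24.Gen) (.l :: ih) (.k :: ih)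
    (.a :: ih) (.b :: ih) (.c :: ih) (.d :: ih) (.e :: ih) (.f :: ih) (.g :: ih) (.j :: ih) (.h :: ih) (.i :: ih) g) l

private theorem pnW_eq (l : List Cfsg.Spor.Fi24.Gen) : pnW l = l := by
  induction l with
  | nil => rfl
  | cons g l ih =>
    have h : pnW (g :: l) = g :: pnW l := by cases g <;> rfl
    rw [h, ih]

private theorem pn_nw : Cfsg.Agent.Fischer.Fi24RepDef.nw = fun l b => Cfsg.Agent.Fischer.Fi24RepDef.nw (pnW l) b := by
  funext l b
  rw [pnW_eq]

-- part: H834/R4/Chk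
section
/-!
# `Fi24`: eight commuting transpositions commuting with `l` and `k`, kernel checks (helper834, for `3.Fi24'`)

The points `P8` of the transpositions `b, zc, g, e, h, …`, the sets of the transpositions of `C(l, k)` commuting with four
of them.
-/

set_option autoImplicit false
set_option maxRecDepth 100000
set_option Elab.async false

namespace Cfsg.Agent.H834.R4

open Cfsg Cfsg.Agent.Lib.PermNet Cfsg.Agent.Lib.PermNetPt
open Cfsg.Agent.Fischer.Fi24RepDef Cfsg.Agent.Fischer.Fi24Rep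
open Cfsg.Agent.Fischer.Fi24RepOrb (UG)
open Cfsg.Agent.KFacts.FiTF.FixMask
open Cfsg.Agent.LThreeFi24.FiveConj (eqB)
open Cfsg.Agent.H840.LkK (M uz)
open Cfsg.Spor (Fi24)
open Cfsg.Spor.Fi24 (Gen)

def u5 : List Gen := [.c, .d, .h, .e, .d, .c]
def u6 : List Gen := [.f, .e, .c, .d, .h, .g, .f, .e, .d, .c]
def u7 : List Gen := [.d, .h, .e, .f, .d, .e, .c, .d, .h, .g, .f, .e, .d, .c]

/-- the words of the eight transpositions -/
def W8 : Fin 8 → List Gen
  | 0 => [.b]
  | 1 => uz ++ Gen.b :: uz.reverse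
  | 2 => [.g]
  | 3 => [.e]
  | 4 => [.h]
  | 5 => u5 ++ Gen.b :: u5.reverse
  | 6 => u6 ++ Gen.b :: u6.reverse
  | 7 => u7 ++ Gen.b :: u7.reverse

/-- the points of the eight transpositions -/
def P8 : Fin 8 → ℕ
  | 0 => 193
  | 1 => 23
  | 2 => 8
  | 3 => 3
  | 4 => 4
  | 5 => 199
  | 6 => 203
  | 7 => 209

set_option maxRecDepth 100000 in
private theorem _root_.Cfsg.Agent.PnAll.a0_0 :
    (Cfsg.Agent.Lib.PermNetPt.chkPt (Cfsg.Agent.Fischer.Fi24RepDef.nw Cfsg.Agent.H834.R4.u5 Bool.false) 193 199 = Bool.true) ∧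
    (Cfsg.Agent.Lib.PermNetPt.chkPt (Cfsg.Agent.Fischer.Fi24RepDef.nw Cfsg.Agent.H834.R4.u6 Bool.false) 193 203 = Bool.true) ∧
    (Cfsg.Agent.Lib.PermNetPt.chkPt (Cfsg.Agent.Fischer.Fi24RepDef.nw Cfsg.Agent.H834.R4.u7 Bool.false) 193 209 = Bool.true) ∧
    ((List.all (List.finRange 8) fun i => List.all (List.finRange 8) fun j => !Decidable.decide (i < j) || Cfsg.Agent.Lib.PermNetPt.chkPt (Cfsg.Agent.Fischer.Fi24RepDef.nw (Cfsg.Agent.H834.R4.W8 i) Bool.false) (Cfsg.Agent.H834.R4.P8 j) (Cfsg.Agent.H834.R4.P8 j)) = Bool.true) ∧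
    ((List.all (List.finRange 8) fun j => Cfsg.Agent.Lib.PermNetPt.chkPt (Cfsg.Agent.Fischer.Fi24RepDef.nw [Cfsg.Spor.Fi24.Gen.l] Bool.false) (Cfsg.Agent.H834.R4.P8 j) (Cfsg.Agent.H834.R4.P8 j) && Cfsg.Agent.Lib.PermNetPt.chkPt (Cfsg.Agent.Fischer.Fi24RepDef.nw [Cfsg.Spor.Fi24.Gen.k] Bool.false) (Cfsg.Agent.H834.R4.P8 j) (Cfsg.Agent.H834.R4.P8 j)) = Bool.true) ∧
    (Cfsg.Agent.LThreeFi24.FiveConj.eqB (Cfsg.Agent.H834.R4.W8 0 ++ (Cfsg.Agent.H834.R4.W8 1 ++ (Cfsg.Agent.H834.R4.W8 2 ++ (Cfsg.Agent.H834.R4.W8 3 ++ (Cfsg.Agent.H834.R4.W8 4 ++ (Cfsg.Agent.H834.R4.W8 5 ++ (Cfsg.Agent.H834.R4.W8 6 ++ Cfsg.Agent.H834.R4.W8 7))))))) [] = Bool.true) ∧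
    ((!Cfsg.Agent.Lib.PermNetPt.chkPt (Cfsg.Agent.Fischer.Fi24RepDef.nw [Cfsg.Spor.Fi24.Gen.c] Bool.false) 2914 2914) = Bool.true) := by
  (rewrite [show @Cfsg.Agent.LThreeFi24.FiveConj.eqB = delta% @Cfsg.Agent.LThreeFi24.FiveConj.eqB from by delta Cfsg.Agent.LThreeFi24.FiveConj.eqB; rfl, show @Cfsg.Agent.LThreeFi24.FiveConj.eqL = delta% @Cfsg.Agent.LThreeFi24.FiveConj.eqL from by delta Cfsg.Agent.LThreeFi24.FiveConj.eqL; rfl, show @Cfsg.Agent.LThreeFi24.FiveConj.eqL._f = delta% @Cfsg.Agent.LThreeFi24.FiveConj.eqL._f from by delta Cfsg.Agent.LThreeFi24.FiveConj.eqL._f; rfl, show @Cfsg.Agent.Lib.PermNetPt.chkPt = delta% @Cfsg.Agent.Lib.PermNetPt.chkPt from by delta Cfsg.Agent.Lib.PermNetPt.chkPt; rfl, Cfsg.Agent.Lib.PermNetFast.winv_fast, pn_nw]; decide +kernel)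

theorem pt5 : chkPt (nw u5 false) 193 199 = true := by exact Cfsg.Agent.PnAll.a0_0.1
theorem pt6 : chkPt (nw u6 false) 193 203 = true := by exact Cfsg.Agent.PnAll.a0_0.2.1
theorem pt7 : chkPt (nw u7 false) 193 209 = true := by exact Cfsg.Agent.PnAll.a0_0.2.2.1

/-- they commute -/
theorem cm : ((List.finRange 8).all fun i => (List.finRange 8).all fun j => or (!decide (i < j))
    (chkPt (nw (W8 i) false) (P8 j) (P8 j))) = true := by exact Cfsg.Agent.PnAll.a0_0.2.2.2.1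

/-- they commute with `l` and `k` -/
theorem cl : ((List.finRange 8).all fun j => and (chkPt (nw [.l] false) (P8 j) (P8 j))
    (chkPt (nw [.k] false) (P8 j) (P8 j))) = true := by exact Cfsg.Agent.PnAll.a0_0.2.2.2.2.1

/-- the product of the eight transpositions is trivial -/
theorem eqall : eqB (W8 0 ++ (W8 1 ++ (W8 2 ++ (W8 3 ++ (W8 4 ++ (W8 5 ++ (W8 6 ++ W8 7))))))) [] = true := by
  exact Cfsg.Agent.PnAll.a0_0.2.2.2.2.2.1

/-! ### The four sieves -/

/-- points fixed by `l`, `k`, `b`, `g`, `e` -/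
def Li : List ℕ := [3, 4, 8, 23, 53, 57, 66, 79, 160, 176, 193, 199, 203, 209, 221, 241, 247, 263, 771, 773, 775, 777,
  779, 781, 787, 789, 791, 793, 795, 797, 866, 882, 903, 919, 2339, 2343, 2345, 2349, 2355, 2359, 2361, 2365, 2409, 2425,
  2467, 2479, 2483, 2495]
/-- points fixed by `l`, `k`, `g`, `e`, `h`, `i` -/
def Lc : List ℕ := [2, 3, 8, 23, 53, 57, 65, 67, 68, 70, 193, 195, 205, 207, 212, 214, 217, 219, 228, 230]
/-- points fixed by `l`, `k`, `b`, `g`, `i` -/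
def Ld : List ℕ := [3, 8, 23, 53, 57, 96, 100, 113, 117, 176, 193, 291, 295, 297, 299, 301, 303, 337, 341, 353, 357, 866,
  919, 2349, 2355, 2359, 2361, 2409, 2483, 2495, 2914, 2918, 5801, 5805, 5811, 5815, 5825, 5829, 5881, 5885, 5913, 5917,
  5945, 5949, 6065, 6069, 6395, 6399]
/-- points fixed by `l`, `k`, `b`, `h`, `i`, `c`, `d` -/
def Lf : List ℕ := [8, 23, 100, 117, 128, 136, 148, 156, 295, 299, 353, 676, 684, 1731, 1739]

theorem svi : seqB (sv (nw [.l] false) bl UG) (fun A => seqB (sv (nw [.k] false) bl A) (fun A =>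
    seqB (sv (nw [.b] false) bl A) (fun A => seqB (sv (nw [.g] false) bl A) (fun A =>
    Nat.beq (sv (nw [.e] false) bl A) (msk Li))))) = true := by
  decide +kernel

theorem svc : seqB (sv (nw [.l] false) bl UG) (fun A => seqB (sv (nw [.k] false) bl A) (fun A =>
    seqB (sv (nw [.g] false) bl A) (fun A => seqB (sv (nw [.e] false) bl A) (fun A =>
    seqB (sv (nw [.h] false) bl A) (fun A => Nat.beq (sv (nw [.i] false) bl A) (msk Lc)))))) = true := by
  decide +kernel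

theorem svd : seqB (sv (nw [.l] false) bl UG) (fun A => seqB (sv (nw [.k] false) bl A) (fun A =>
    seqB (sv (nw [.b] false) bl A) (fun A => seqB (sv (nw [.g] false) bl A) (fun A =>
    Nat.beq (sv (nw [.i] false) bl A) (msk Ld))))) = true := by
  decide +kernel

theorem svf : seqB (sv (nw [.l] false) bl UG) (fun A => seqB (sv (nw [.k] false) bl A) (fun A =>
    seqB (sv (nw [.b] false) bl A) (fun A => seqB (sv (nw [.h] false) bl A) (fun A =>
    seqB (sv (nw [.i] false) bl A) (fun A => seqB (sv (nw [.c] false) bl A) (fun A =>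
    Nat.beq (sv (nw [.d] false) bl A) (msk Lf))))))) = true := by
  decide +kernel

/-! ### The moves -/

/-- the word of a list of indices -/
def wA (A : List (Fin 8)) : List Gen := (A.map W8).flatten

def Ai : List (List (Fin 8)) := [[], [4], [5], [6], [4, 5, 6], [4, 5], [4, 6], [5, 6]]
def Ac : List (List (Fin 8)) := [[], [0]]
def Ad : List (List (Fin 8)) := [[], [3]]
def Af : List (List (Fin 8)) := [[], [2]]

/-- `p` is fixed by a transposition of the list, or by `c` (if `b`), or is moved by a word to `q` -/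
noncomputable def mvB (J : List (Fin 8)) (cc : Bool) (A : List (List (Fin 8))) (q p : ℕ) : Bool :=
  or (J.any fun j => chkPt (nw (W8 j) false) p p) (or (and cc (chkPt (nw [.c] false) p p))
    (A.any fun B => chkPt (nw (wA B) false) p q))

set_option maxRecDepth 100000 in
private theorem _root_.Cfsg.Agent.PnAll.a0_1 :
    (List.all Cfsg.Agent.H834.R4.Li (Cfsg.Agent.H834.R4.mvB [4, 5, 6, 7] Bool.false Cfsg.Agent.H834.R4.Ai 176) = Bool.true) ∧
    (List.all Cfsg.Agent.H834.R4.Lc (Cfsg.Agent.H834.R4.mvB [0, 5, 6, 7] Bool.false Cfsg.Agent.H834.R4.Ac 2) = Bool.true) ∧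
    (List.all Cfsg.Agent.H834.R4.Ld (Cfsg.Agent.H834.R4.mvB [3, 4, 6, 7] Bool.true Cfsg.Agent.H834.R4.Ad 2914) = Bool.true) ∧
    (List.all Cfsg.Agent.H834.R4.Lf (Cfsg.Agent.H834.R4.mvB [2, 3, 5, 6] Bool.false Cfsg.Agent.H834.R4.Af 676) = Bool.true) := by
  (rewrite [show @Cfsg.Agent.H834.R4.mvB = delta% @Cfsg.Agent.H834.R4.mvB from by delta Cfsg.Agent.H834.R4.mvB; rfl, show @Cfsg.Agent.Lib.PermNetPt.chkPt = delta% @Cfsg.Agent.Lib.PermNetPt.chkPt from by delta Cfsg.Agent.Lib.PermNetPt.chkPt; rfl, Cfsg.Agent.Lib.PermNetFast.winv_fast, pn_nw]; decide +kernel)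

theorem mvi : (Li.all (mvB [4, 5, 6, 7] false Ai 176)) = true := by exact Cfsg.Agent.PnAll.a0_1.1
theorem mvc : (Lc.all (mvB [0, 5, 6, 7] false Ac 2)) = true := by exact Cfsg.Agent.PnAll.a0_1.2.1
theorem mvd : (Ld.all (mvB [3, 4, 6, 7] true Ad 2914)) = true := by exact Cfsg.Agent.PnAll.a0_1.2.2.1
theorem mvf : (Lf.all (mvB [2, 3, 5, 6] false Af 676)) = true := by exact Cfsg.Agent.PnAll.a0_1.2.2.2

/-- the letter does not commute with the transpositions of `J` and commutes with those of `J'` -/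
noncomputable def rlB (x : Gen) (J J' : List (Fin 8)) : Bool := and (J.all fun j => !(chkPt (nw [x] false) (P8 j) (P8 j)))
    (J'.all fun j => chkPt (nw [x] false) (P8 j) (P8 j))

set_option maxRecDepth 100000 in
private theorem _root_.Cfsg.Agent.PnAll.a0_2 :
    (Cfsg.Agent.H834.R4.rlB Cfsg.Spor.Fi24.Gen.i [4, 5, 6, 7] [0, 1, 2, 3] = Bool.true) ∧
    (Cfsg.Agent.H834.R4.rlB Cfsg.Spor.Fi24.Gen.c [0, 5, 6, 7] [1, 2, 3, 4] = Bool.true) ∧
    (Cfsg.Agent.H834.R4.rlB Cfsg.Spor.Fi24.Gen.d [3, 4, 6, 7] [0, 1, 2, 5] = Bool.true) ∧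
    (Cfsg.Agent.H834.R4.rlB Cfsg.Spor.Fi24.Gen.f [2, 3, 5, 6] [0, 1, 4, 7] = Bool.true) := by
  (rewrite [show @Cfsg.Agent.H834.R4.rlB = delta% @Cfsg.Agent.H834.R4.rlB from by delta Cfsg.Agent.H834.R4.rlB; rfl, show @Cfsg.Agent.Lib.PermNetPt.chkPt = delta% @Cfsg.Agent.Lib.PermNetPt.chkPt from by delta Cfsg.Agent.Lib.PermNetPt.chkPt; rfl, Cfsg.Agent.Lib.PermNetFast.winv_fast, pn_nw]; decide +kernel)

theorem rli : rlB .i [4, 5, 6, 7] [0, 1, 2, 3] = true := by exact Cfsg.Agent.PnAll.a0_2.1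
theorem rlc : rlB .c [0, 5, 6, 7] [1, 2, 3, 4] = true := by exact Cfsg.Agent.PnAll.a0_2.2.1
theorem rld : rlB .d [3, 4, 6, 7] [0, 1, 2, 5] = true := by exact Cfsg.Agent.PnAll.a0_2.2.2.1
theorem rlf : rlB .f [2, 3, 5, 6] [0, 1, 4, 7] = true := by exact Cfsg.Agent.PnAll.a0_2.2.2.2
/-- `c` and `d` do not commute -/
theorem rcd : (!(chkPt (nw [.c] false) 2914 2914)) = true := by exact Cfsg.Agent.PnAll.a0_0.2.2.2.2.2.2

/-! ### The permutations of the eight transpositions -/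

/-- a word permutes the eight points -/
noncomputable def actB (w : List Gen) (σ : Fin 8 → Fin 8) : Bool :=
  (List.finRange 8).all fun i => chkPt (nw w false) (P8 i) (P8 (σ i))

/-- the word `x v x v`, `v` the product of the transpositions of `A` -/
def wn (x : Gen) (A : List (Fin 8)) : List Gen := (x :: wA A) ++ (x :: wA A)

def σc : Fin 8 → Fin 8 := ![5, 1, 2, 3, 4, 0, 7, 6]
def σd : Fin 8 → Fin 8 := ![0, 1, 2, 4, 3, 5, 7, 6]
def σf : Fin 8 → Fin 8 := ![0, 1, 3, 2, 4, 6, 5, 7]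
def σi : Fin 8 → Fin 8 := ![0, 1, 2, 3, 5, 4, 7, 6]
def σj : Fin 8 → Fin 8 := ![0, 2, 1, 3, 4, 5, 7, 6]

set_option maxRecDepth 100000 in
private theorem _root_.Cfsg.Agent.PnAll.a0_3 :
    (Cfsg.Agent.H834.R4.actB (Cfsg.Agent.H834.R4.wn Cfsg.Spor.Fi24.Gen.c [0, 5]) Cfsg.Agent.H834.R4.σc = Bool.true) ∧
    (Cfsg.Agent.H834.R4.actB (Cfsg.Agent.H834.R4.wn Cfsg.Spor.Fi24.Gen.d [3, 4]) Cfsg.Agent.H834.R4.σd = Bool.true) ∧
    (Cfsg.Agent.H834.R4.actB (Cfsg.Agent.H834.R4.wn Cfsg.Spor.Fi24.Gen.f [2, 3]) Cfsg.Agent.H834.R4.σf = Bool.true) ∧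
    (Cfsg.Agent.H834.R4.actB (Cfsg.Agent.H834.R4.wn Cfsg.Spor.Fi24.Gen.i [4, 5]) Cfsg.Agent.H834.R4.σi = Bool.true) ∧
    (Cfsg.Agent.H834.R4.actB (Cfsg.Agent.H834.R4.wn Cfsg.Spor.Fi24.Gen.j [1, 2]) Cfsg.Agent.H834.R4.σj = Bool.true) := by
  (rewrite [show @Cfsg.Agent.H834.R4.actB = delta% @Cfsg.Agent.H834.R4.actB from by delta Cfsg.Agent.H834.R4.actB; rfl, show @Cfsg.Agent.Lib.PermNetPt.chkPt = delta% @Cfsg.Agent.Lib.PermNetPt.chkPt from by delta Cfsg.Agent.Lib.PermNetPt.chkPt; rfl, Cfsg.Agent.Lib.PermNetFast.winv_fast, pn_nw]; decide +kernel)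

theorem acc : actB (wn .c [0, 5]) σc = true := by exact Cfsg.Agent.PnAll.a0_3.1
theorem acd : actB (wn .d [3, 4]) σd = true := by exact Cfsg.Agent.PnAll.a0_3.2.1
theorem acf : actB (wn .f [2, 3]) σf = true := by exact Cfsg.Agent.PnAll.a0_3.2.2.1
theorem aci : actB (wn .i [4, 5]) σi = true := by exact Cfsg.Agent.PnAll.a0_3.2.2.2.1
theorem acj : actB (wn .j [1, 2]) σj = true := by exact Cfsg.Agent.PnAll.a0_3.2.2.2.2

end Cfsg.Agent.H834.R4
end

-- part: H834/R4/Oct
section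
/-!
# `Fi24`: eight commuting transpositions `dq i` commuting with `l` and `k` (helper834, for `3.Fi24'`)

* `mem_D` : an element of `C(l, k)` commuting with the eight transpositions is a product of them.
-/

set_option autoImplicit false
set_option maxRecDepth 100000
set_option exponentiation.threshold 30000

namespace Cfsg.Agent.H834.R4

open Cfsg Cfsg.Agent.Lib.PermNet Cfsg.Agent.Lib.PermNetPt
open Cfsg.Agent.Fischer.Fi24RepDef Cfsg.Agent.Fischer.Fi24Rep
open Cfsg.Agent.Fischer.Fi24RepOrb (UG)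
open Cfsg.Agent.Fischer.Fi24Spider (word_append word_cons word_nil s8 node8)
open Cfsg.Agent.Fischer.Y322
open Cfsg.Agent.KFacts.FiTF.Pts Cfsg.Agent.KFacts.FiTF.FixMask
open Cfsg.Agent.KFacts.FiTF.Defs (tr)
open Cfsg.Agent.R08.FiTwentyFour (L)
open Cfsg.Agent.LThreeFi24.FiveConj (eqB eq_of_eqB)
open Cfsg.Agent.H840.LkK (M uz AL pt_z)
open Cfsg.Agent.H840.Wd (word_single)
open Cfsg.Agent.H840.Lk
open Cfsg.Spor (Fi24)
open Cfsg.Spor.Fi24 (Gen)
open Subgroup

theorem chk_iff {w : List Gen} {p q : ℕ} : chkPt (nw w false) p q = true ↔ rho (word w) p = q := by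
  constructor
  · exact rho_of_chkPt
  · intro h
    unfold chkPt
    rw [winv_eq (wok w false), ← rho_word]
    have h2 : (rho (word w))⁻¹ q = p := by rw [Equiv.Perm.inv_eq_iff_eq, h]
    rw [h2]
    exact Nat.beq_refl p

theorem chk_gen {x : Gen} {p q : ℕ} : chkPt (nw [x] false) p q = true ↔ rho (gen x) p = q := by
  rw [chk_iff, word_single]

theorem chk_not {x : Gen} {p : ℕ} (h : (!(chkPt (nw [x] false) p p)) = true) : rho (gen x) p ≠ p := by
  intro h1
  rw [chk_gen.2 h1] at h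
  exact absurd h (by decide)

/-! ### The eight transpositions -/

/-- the eight transpositions -/
noncomputable def dq (i : Fin 8) : Fi24 := word (W8 i)

theorem isPt_dq (i : Fin 8) : IsPt (dq i) (P8 i) := by
  fin_cases i
  · show IsPt (word [.b]) 193
    rw [word_single]; exact isPt_gen .b
  · exact isPt_tr (u := uz) (x := .b) pt_z
  · show IsPt (word [.g]) 8
    rw [word_single]; exact isPt_gen .g
  · show IsPt (word [.e]) 3
    rw [word_single]; exact isPt_gen .e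
  · show IsPt (word [.h]) 4
    rw [word_single]; exact isPt_gen .h
  · exact isPt_tr (u := u5) (x := .b) pt5
  · exact isPt_tr (u := u6) (x := .b) pt6
  · exact isPt_tr (u := u7) (x := .b) pt7

theorem dq_one : dq 1 = zc := (isPt_dq 1).inj isPt_zc
theorem dq_zero : dq 0 = gen .b := word_single .b
theorem dq_two : dq 2 = gen .g := word_single .g
theorem dq_three : dq 3 = gen .e := word_single .e
theorem dq_four : dq 4 = gen .h := word_single .h

theorem P8_inj : ∀ i j : Fin 8, P8 i = P8 j → i = j := by decide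

theorem dq_inj : Function.Injective dq := fun i j h => P8_inj i j (by
  have h1 := isPt_dq i
  rw [h] at h1
  exact h1.uniq (isPt_dq j))

theorem dq_mem (i : Fin 8) : dq i ∈ L := (isPt_dq i).mem

theorem dq_sq (i : Fin 8) : dq i * dq i = 1 := Cfsg.Agent.R08.FiTwentyFour.sq (dq_mem i)

theorem dq_comm (i j : Fin 8) : Commute (dq i) (dq j) := by
  have key : ∀ {i j : Fin 8}, i < j → Commute (dq i) (dq j) := by
    intro i j h
    have h1 := cm
    rw [List.all_eq_true] at h1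
    have h2 := h1 i (List.mem_finRange i)
    rw [List.all_eq_true] at h2
    have h3 := h2 j (List.mem_finRange j)
    rw [decide_eq_true h] at h3
    exact ((isPt_dq j).comm_iff _).2 (chk_iff.1 (by simpa using h3))
  rcases lt_trichotomy i j with h | h | h
  · exact key h
  · subst h; exact Commute.refl _
  · exact (key h).symm

theorem dq_Clk (i : Fin 8) : dq i ∈ Clk := by
  have h1 := cl
  rw [List.all_eq_true] at h1
  have h2 := h1 i (List.mem_finRange i)
  rw [Bool.and_eq_true, chk_gen, chk_gen] at h2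
  rw [mem_Clk]
  exact ⟨(((isPt_dq i).comm_iff _).2 h2.1).symm, (((isPt_dq i).comm_iff _).2 h2.2).symm⟩

/-- the group generated -/
def DD : Subgroup Fi24 := closure (Set.range dq)

theorem dq_DD (i : Fin 8) : dq i ∈ DD := subset_closure ⟨i, rfl⟩

theorem DD_le : DD ≤ Clk := by
  unfold DD
  rw [closure_le]
  rintro _ ⟨i, rfl⟩
  exact dq_Clk i

theorem DD_comm {g h : Fi24} (hg : g ∈ DD) (hh : h ∈ DD) : Commute g h := by
  have h1 : DD ≤ centralizer (DD : Set Fi24) := by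
    have h2 : DD ≤ centralizer (Set.range dq) := by
      unfold DD
      rw [closure_le]
      rintro _ ⟨i, rfl⟩
      rw [SetLike.mem_coe, mem_centralizer_iff]
      rintro _ ⟨j, rfl⟩
      exact (dq_comm j i).eq
    have h3 : centralizer (DD : Set Fi24) = centralizer (Set.range dq) := by
      unfold DD
      exact centralizer_closure _
    rw [h3]
    exact h2
  exact (mem_centralizer_iff.1 (h1 hh) g hg)

theorem DD_sq {g : Fi24} (hg : g ∈ DD) : g * g = 1 := by
  unfold DD at hg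
  induction hg using closure_induction with
  | mem y hy =>
    obtain ⟨i, rfl⟩ := hy
    exact dq_sq i
  | one => exact mul_one 1
  | mul a b ha hb iha ihb =>
    have h := DD_comm (show a ∈ DD from ha) (show b ∈ DD from hb)
    calc a * b * (a * b) = a * (b * a) * b := by group
      _ = a * (a * b) * b := by rw [h.eq]
      _ = (a * a) * (b * b) := by group
      _ = 1 := by rw [iha, ihb, mul_one]
  | inv a _ iha => rw [← mul_inv_rev, iha, inv_one]

theorem word_wA (A : List (Fin 8)) : word (wA A) = (A.map dq).prod := by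
  induction A with
  | nil => exact word_nil
  | cons i A ih =>
    show word (W8 i ++ wA A) = _
    rw [word_append, ih]
    rfl

theorem prod_DD (A : List (Fin 8)) : (A.map dq).prod ∈ DD := by
  apply list_prod_mem
  intro x hx
  obtain ⟨i, -, rfl⟩ := List.mem_map.1 hx
  exact dq_DD i

/-! ### The centralizer of the eight transpositions in `C(l, k)` -/

/-- the elements of `C(l, k)` commuting with the eight transpositions -/
def Q1 (g : Fi24) : Prop := g ∈ Clk ∧ ∀ i, Commute g (dq i)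

theorem Q1.mul {g δ : Fi24} (h : Q1 g) (hδ : δ ∈ DD) : Q1 (δ * g) :=
  ⟨Clk.mul_mem (DD_le hδ) h.1, fun i => (DD_comm hδ (dq_DD i)).mul_left (h.2 i)⟩

theorem gen_Clk : ∀ x ∈ AL, gen x ∈ Clk := fun _ hx => B8_le_Clk (Cfsg.Agent.H840.Wd.gen_mem_cl hx)

theorem exists_p {g : Fi24} (hg : g ∈ Clk) {x : Gen} (hx : gen x ∈ Clk) :
    ∃ p, M.testBit p = true ∧ IsPt (g * gen x * g⁻¹) p := by
  have h1 : gen x ∈ Dlk := mem_Dlk.2 ⟨Cfsg.Agent.H840.Lk.gen_mem x, hx⟩
  have h2 := Dlk_conj hg h1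
  rw [← TS_M] at h2
  obtain ⟨p, hp, hd⟩ := h2
  exact ⟨p, hp, hd⟩

theorem fix_iff {g h : Fi24} {x : Gen} {p : ℕ} (hp : IsPt (g * gen x * g⁻¹) p) (hgh : Commute g h) :
    rho h p = p ↔ Commute h (gen x) := by
  rw [← hp.comm_iff]
  have e1 : g⁻¹ * (h * (g * gen x * g⁻¹)) * g = h * gen x := by
    have := hgh.inv_left.eq
    calc g⁻¹ * (h * (g * gen x * g⁻¹)) * g = (g⁻¹ * h) * g * gen x := by group
      _ = (h * g⁻¹) * g * gen x := by rw [this]
      _ = _ := by group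
  have e2 : g⁻¹ * ((g * gen x * g⁻¹) * h) * g = gen x * h := by
    have := hgh.inv_left.eq
    calc g⁻¹ * ((g * gen x * g⁻¹) * h) * g = gen x * (g⁻¹ * h) * g := by group
      _ = gen x * (h * g⁻¹) * g := by rw [this]
      _ = _ := by group
  constructor
  · intro h1
    have h2 : g⁻¹ * (h * (g * gen x * g⁻¹)) * g = g⁻¹ * ((g * gen x * g⁻¹) * h) * g := by rw [h1]
    rw [e1, e2] at h2
    exact h2
  · intro h1
    have h2 : h * gen x = gen x * h := h1
    rw [← e1, ← e2] at h2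
    exact mul_left_cancel (mul_right_cancel h2)

theorem sv_mem {w : List Gen} {A p : ℕ} (hA : A.testBit p = true) (hp : rho (word w) p = p) :
    (sv (nw w false) bl A).testBit p = true := by
  refine sv_spec (wok w false) bl hA ?_
  rw [← rho_word]
  exact hp

theorem comm_of_chk {x : Gen} {j : Fin 8} (h : chkPt (nw [x] false) (P8 j) (P8 j) = true) :
    Commute (dq j) (gen x) := (((isPt_dq j).comm_iff _).2 (chk_gen.1 h)).symm

theorem ncomm_of_chk {x : Gen} {j : Fin 8} (h : (!(chkPt (nw [x] false) (P8 j) (P8 j))) = true) :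
    ¬ Commute (dq j) (gen x) := fun h1 => chk_not h (((isPt_dq j).comm_iff _).1 h1.symm)

/-- from the point back to the letter -/
theorem back {g δ : Fi24} {x : Gen} {p : ℕ} (hp : IsPt (g * gen x * g⁻¹) p) (h : rho δ p = pn x) :
    Commute (δ * g) (gen x) := by
  have h1 := (hp.conj' h).inj (isPt_gen x)
  show δ * g * gen x = gen x * (δ * g)
  calc δ * g * gen x = (δ * (g * gen x * g⁻¹) * δ⁻¹) * (δ * g) := by group
    _ = _ := by rw [h1]

theorem rel_of {x : Gen} {J J' : List (Fin 8)} (h : rlB x J J' = true) :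
    (∀ j ∈ J, ¬ Commute (dq j) (gen x)) ∧ ∀ j ∈ J', Commute (dq j) (gen x) := by
  unfold rlB at h
  rw [Bool.and_eq_true, List.all_eq_true, List.all_eq_true] at h
  exact ⟨fun j hj => ncomm_of_chk (h.1 j hj), fun j hj => comm_of_chk (h.2 j hj)⟩

theorem ncd : ¬ Commute (gen .c) (gen .d) := by
  intro h
  exact chk_not rcd (((isPt_gen .d).comm_iff _).1 h)

theorem gcomm {x y : Gen} (h : Cfsg.Spor.coxLabel Cfsg.Spor.Fi24.edges x y = 2) : Commute (gen x) (gen y) :=
  Cfsg.Agent.Fischer.Fi24Final.gen_comm h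

theorem mv_of {J : List (Fin 8)} {cc : Bool} {A : List (List (Fin 8))} {x : Gen} {g : Fi24} {p : ℕ}
    (h : mvB J cc A (pn x) p = true) (hp : IsPt (g * gen x * g⁻¹) p) (hg : Q1 g)
    (hJ : ∀ j ∈ J, ¬ Commute (dq j) (gen x)) (hc : cc = true → Commute g (gen .c) ∧ ¬ Commute (gen .c) (gen x)) :
    ∃ B ∈ A, Commute ((B.map dq).prod * g) (gen x) := by
  unfold mvB at h
  rw [Bool.or_eq_true, Bool.or_eq_true, Bool.and_eq_true, List.any_eq_true, List.any_eq_true, chk_gen] at h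
  rcases h with ⟨j, hj, h⟩ | ⟨h1, h2⟩ | ⟨B, hB, h⟩
  · exact absurd ((fix_iff hp (hg.2 j)).1 (chk_iff.1 h)) (hJ j hj)
  · exact absurd ((fix_iff hp (hc h1).1).1 h2) (hc h1).2
  · refine ⟨B, hB, back hp ?_⟩
    rw [← word_wA]
    exact chk_iff.1 h

/-- membership in a sieved mask -/
theorem sv_gen {y x : Gen} {g : Fi24} {A p : ℕ} (hA : A.testBit p = true) (hp : IsPt (g * gen x * g⁻¹) p)
    (hgy : Commute g (gen y)) (hyx : Commute (gen y) (gen x)) : (sv (nw [y] false) bl A).testBit p = true := by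
  refine sv_mem hA ?_
  rw [word_single]
  exact (fix_iff hp hgy).2 hyx

theorem Q1.l {g : Fi24} (h : Q1 g) : Commute g (gen .l) := (mem_Clk.1 h.1).1
theorem Q1.k {g : Fi24} (h : Q1 g) : Commute g (gen .k) := (mem_Clk.1 h.1).2
theorem Q1.b {g : Fi24} (h : Q1 g) : Commute g (gen .b) := by rw [← dq_zero]; exact h.2 0
theorem Q1.g' {g : Fi24} (h : Q1 g) : Commute g (gen .g) := by rw [← dq_two]; exact h.2 2
theorem Q1.e {g : Fi24} (h : Q1 g) : Commute g (gen .e) := by rw [← dq_three]; exact h.2 3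
theorem Q1.h' {g : Fi24} (h : Q1 g) : Commute g (gen .h) := by rw [← dq_four]; exact h.2 4

theorem step_i {g : Fi24} (h : Q1 g) : ∃ A ∈ Ai, Commute ((A.map dq).prod * g) (gen .i) := by
  obtain ⟨p, hp, hd⟩ := exists_p h.1 (x := .i) (gen_Clk .i (by decide))
  have h1 := sv_gen (bit hd) hd h.l (gcomm (by decide))
  have h2 := sv_gen h1 hd h.k (gcomm (by decide))
  have h3 := sv_gen h2 hd h.b (gcomm (by decide))
  have h4 := sv_gen h3 hd h.g' (gcomm (by decide))
  have h5 := sv_gen h4 hd h.e (gcomm (by decide))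
  have hs := svi
  rw [seqB_eq, seqB_eq, seqB_eq, seqB_eq] at hs
  rw [Nat.eq_of_beq_eq_true hs, testBit_msk] at h5
  have hm := mvi
  rw [List.all_eq_true] at hm
  exact mv_of (x := .i) (hm p h5) hd h (rel_of rli).1 (fun h => absurd h (by decide))

theorem step_c {g : Fi24} (h : Q1 g) (hi : Commute g (gen .i)) : ∃ A ∈ Ac, Commute ((A.map dq).prod * g) (gen .c) := by
  obtain ⟨p, hp, hd⟩ := exists_p h.1 (x := .c) (gen_Clk .c (by decide))
  have h1 := sv_gen (bit hd) hd h.l (gcomm (by decide))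
  have h2 := sv_gen h1 hd h.k (gcomm (by decide))
  have h3 := sv_gen h2 hd h.g' (gcomm (by decide))
  have h4 := sv_gen h3 hd h.e (gcomm (by decide))
  have h5 := sv_gen h4 hd h.h' (gcomm (by decide))
  have h6 := sv_gen h5 hd hi (gcomm (by decide))
  have hs := svc
  rw [seqB_eq, seqB_eq, seqB_eq, seqB_eq, seqB_eq] at hs
  rw [Nat.eq_of_beq_eq_true hs, testBit_msk] at h6
  have hm := mvc
  rw [List.all_eq_true] at hm
  exact mv_of (x := .c) (hm p h6) hd h (rel_of rlc).1 (fun h => absurd h (by decide))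

theorem step_d {g : Fi24} (h : Q1 g) (hi : Commute g (gen .i)) (hc : Commute g (gen .c)) :
    ∃ A ∈ Ad, Commute ((A.map dq).prod * g) (gen .d) := by
  obtain ⟨p, hp, hd⟩ := exists_p h.1 (x := .d) (gen_Clk .d (by decide))
  have h1 := sv_gen (bit hd) hd h.l (gcomm (by decide))
  have h2 := sv_gen h1 hd h.k (gcomm (by decide))
  have h3 := sv_gen h2 hd h.b (gcomm (by decide))
  have h4 := sv_gen h3 hd h.g' (gcomm (by decide))
  have h5 := sv_gen h4 hd hi (gcomm (by decide))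
  have hs := svd
  rw [seqB_eq, seqB_eq, seqB_eq, seqB_eq] at hs
  rw [Nat.eq_of_beq_eq_true hs, testBit_msk] at h5
  have hm := mvd
  rw [List.all_eq_true] at hm
  exact mv_of (x := .d) (hm p h5) hd h (rel_of rld).1 (fun _ => ⟨hc, ncd⟩)

theorem step_f {g : Fi24} (h : Q1 g) (hi : Commute g (gen .i)) (hc : Commute g (gen .c)) (hgd : Commute g (gen .d)) :
    ∃ A ∈ Af, Commute ((A.map dq).prod * g) (gen .f) := by
  obtain ⟨p, hp, hd⟩ := exists_p h.1 (x := .f) (gen_Clk .f (by decide))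
  have h1 := sv_gen (bit hd) hd h.l (gcomm (by decide))
  have h2 := sv_gen h1 hd h.k (gcomm (by decide))
  have h3 := sv_gen h2 hd h.b (gcomm (by decide))
  have h4 := sv_gen h3 hd h.h' (gcomm (by decide))
  have h5 := sv_gen h4 hd hi (gcomm (by decide))
  have h6 := sv_gen h5 hd hc (gcomm (by decide))
  have h7 := sv_gen h6 hd hgd (gcomm (by decide))
  have hs := svf
  rw [seqB_eq, seqB_eq, seqB_eq, seqB_eq, seqB_eq, seqB_eq] at hs
  rw [Nat.eq_of_beq_eq_true hs, testBit_msk] at h7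
  have hm := mvf
  rw [List.all_eq_true] at hm
  exact mv_of (x := .f) (hm p h7) hd h (rel_of rlf).1 (fun h => absurd h (by decide))

/-- an element of `C(l, k)` commuting with `b, …, i` is `1` or `zc` -/
theorem eq_one_or {g : Fi24} (hg : g ∈ Clk) (h : ∀ x ∈ AL, Commute g (gen x)) : g = 1 ∨ g = zc := by
  have h1 : ∀ k, g * s8 k = s8 k * g := by
    intro k
    have h2 : node8 k ∈ AL := by revert k; decide
    exact h _ h2
  have h2 : Commute g zc := comm_zc h1
  have h3 : g ∈ B8 := by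
    rw [← Clz_eq]
    exact ⟨hg, mem_centralizer_singleton_iff.2 h2.eq⟩
  obtain ⟨y, hy⟩ := Cfsg.Agent.H840.Width.B8_cases h3
  have hzc : ∀ k, zc * s8 k = s8 k * zc := fun k => zc_comm k
  have h4 : ∀ k, phi y * t8 k = t8 k * phi y := by
    intro k
    have hp : phi y = g ∨ phi y = zc * g := by
      rcases hy with h5 | h5
      · exact Or.inl h5.symm
      · right; rw [h5, ← mul_assoc, zc_sq, one_mul]
    show phi y * (zc * s8 k) = (zc * s8 k) * phi y
    have c1 : Commute g (zc * s8 k) := h2.mul_right (h1 k)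
    have c2 : Commute zc (zc * s8 k) := (Commute.refl zc).mul_right (hzc k)
    rcases hp with h5 | h5
    · rw [h5]; exact c1
    · rw [h5]; exact (c2.mul_left c1)
  have h5 : y ∈ center H8 := by
    rw [mem_center_iff]
    intro z
    have hz : z ∈ closure (Set.range x8) := by rw [closure_x8]; exact mem_top z
    induction hz using closure_induction with
    | mem w hw =>
      obtain ⟨i, rfl⟩ := hw
      apply phi_injective
      rw [map_mul, map_mul, phi_x8]
      exact (h4 i).symm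
    | one => rw [one_mul, mul_one]
    | mul a b _ _ ha hb => rw [mul_assoc, hb, ← mul_assoc, ha, mul_assoc]
    | inv a _ ha =>
      have : Commute a y := ha
      exact this.inv_left
  rw [center_H8, mem_bot] at h5
  rw [h5, map_one, mul_one] at hy
  exact hy

/-- **An element of `C(l, k)` commuting with the eight transpositions is a product of them.** -/
theorem mem_DD {g : Fi24} (h : Q1 g) : g ∈ DD := by
  obtain ⟨A, hA, hi⟩ := step_i h
  have h1 := h.mul (prod_DD A)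
  obtain ⟨A', hA', hc⟩ := step_c h1 hi
  have h2 := h1.mul (prod_DD A')
  have key1 : ∀ A' ∈ Ac, Commute (A'.map dq).prod (gen .i) := by
    intro A' hA'
    simp only [Ac, List.mem_cons, List.not_mem_nil, or_false] at hA'
    rcases hA' with rfl | rfl
    · exact Commute.one_left _
    · simpa using (rel_of rli).2 0 (by decide)
  have hi2 := (key1 A' hA').mul_left hi
  obtain ⟨A'', hA'', hd⟩ := step_d h2 hi2 hc
  have h3 := h2.mul (prod_DD A'')
  have key2 : ∀ A' ∈ Ad, Commute (A'.map dq).prod (gen .i) ∧ Commute (A'.map dq).prod (gen .c) := by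
    intro A' hA'
    simp only [Ad, List.mem_cons, List.not_mem_nil, or_false] at hA'
    rcases hA' with rfl | rfl
    · exact ⟨Commute.one_left _, Commute.one_left _⟩
    · exact ⟨by simpa using (rel_of rli).2 3 (by decide), by simpa using (rel_of rlc).2 3 (by decide)⟩
  have hi3 := (key2 A'' hA'').1.mul_left hi2
  have hc3 := (key2 A'' hA'').2.mul_left hc
  obtain ⟨A3, hA3, hf⟩ := step_f h3 hi3 hc3 hd
  have h4 := h3.mul (prod_DD A3)
  have key3 : ∀ A' ∈ Af, Commute (A'.map dq).prod (gen .i) ∧ Commute (A'.map dq).prod (gen .c) ∧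
      Commute (A'.map dq).prod (gen .d) := by
    intro A' hA'
    simp only [Af, List.mem_cons, List.not_mem_nil, or_false] at hA'
    rcases hA' with rfl | rfl
    · exact ⟨Commute.one_left _, Commute.one_left _, Commute.one_left _⟩
    · exact ⟨by simpa using (rel_of rli).2 2 (by decide), by simpa using (rel_of rlc).2 2 (by decide),
        by simpa using (rel_of rld).2 2 (by decide)⟩
  have hi4 := (key3 A3 hA3).1.mul_left hi3
  have hc4 := (key3 A3 hA3).2.1.mul_left hc3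
  have hd4 := (key3 A3 hA3).2.2.mul_left hd
  set δ : Fi24 := (A3.map dq).prod * ((A''.map dq).prod * ((A'.map dq).prod * (A.map dq).prod)) with hδ
  have hδm : δ ∈ DD := DD.mul_mem (prod_DD _) (DD.mul_mem (prod_DD _) (DD.mul_mem (prod_DD _) (prod_DD _)))
  have e : (A3.map dq).prod * ((A''.map dq).prod * ((A'.map dq).prod * ((A.map dq).prod * g))) = δ * g := by
    rw [hδ]; simp only [mul_assoc]
  rw [e] at h4 hi4 hc4 hd4 hf
  have h5 : δ * g = 1 ∨ δ * g = zc := by
    refine eq_one_or h4.1 ?_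
    intro x hx
    simp only [AL, List.mem_cons, List.not_mem_nil, or_false] at hx
    rcases hx with rfl | rfl | rfl | rfl | rfl | rfl | rfl | rfl
    · exact h4.b
    · exact hc4
    · exact hd4
    · exact h4.e
    · exact hf
    · exact h4.g'
    · exact h4.h'
    · exact hi4
  have h6 : δ * g ∈ DD := by
    rcases h5 with h5 | h5
    · rw [h5]; exact one_mem _
    · rw [h5, ← dq_one]; exact dq_DD 1
  have h7 := DD.mul_mem (DD.inv_mem hδm) h6
  rwa [inv_mul_cancel_left] at h7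

end Cfsg.Agent.H834.R4
end

-- part: H834/R4/AEight
section
/-!
# `A8`: commutators with an element of order 7, generation by five involutions (helper834, for `3.Fi24'`)
-/

set_option autoImplicit false
set_option maxRecDepth 100000

namespace Cfsg.Agent.H834.R4

open Equiv Equiv.Perm

/-- a permutation from two lists -/
def mkP (f g : Fin 8 → Fin 8) (h : ∀ i, g (f i) = i := by decide) (h' : ∀ i, f (g i) = i := by decide) :
    Perm (Fin 8) := ⟨f, g, h, h'⟩

/-- the cycle `(0 1 2 3 4 5 6)` -/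
def c7 : Perm (Fin 8) := mkP ![1, 2, 3, 4, 5, 6, 0, 7] ![6, 0, 1, 2, 3, 4, 5, 7]

/-- a commutator of a 7-cycle and an even permutation -/
def Wt (a : Perm (Fin 8)) : Prop := ∃ τ b : Perm (Fin 8), sign b = 1 ∧
  a = (τ * c7 * τ⁻¹) * b * (τ * c7 * τ⁻¹)⁻¹ * b⁻¹

theorem Wt.conj {a : Perm (Fin 8)} (h : Wt a) (g : Perm (Fin 8)) : Wt (g * a * g⁻¹) := by
  obtain ⟨τ, b, hb, rfl⟩ := h
  refine ⟨g * τ, g * b * g⁻¹, ?_, by group⟩
  rw [map_mul, map_mul, hb, mul_one, ← map_mul, mul_inv_cancel, map_one]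

theorem Wt_one : Wt 1 := ⟨1, 1, map_one _, by group⟩

def r22 : Perm (Fin 8) := mkP ![1, 0, 3, 2, 4, 5, 6, 7] ![1, 0, 3, 2, 4, 5, 6, 7]
def r2222 : Perm (Fin 8) := mkP ![1, 0, 3, 2, 5, 4, 7, 6] ![1, 0, 3, 2, 5, 4, 7, 6]
def r42 : Perm (Fin 8) := mkP ![1, 2, 3, 0, 5, 4, 6, 7] ![3, 0, 1, 2, 5, 4, 6, 7]
def r44 : Perm (Fin 8) := mkP ![1, 2, 3, 0, 5, 6, 7, 4] ![3, 0, 1, 2, 7, 4, 5, 6]

theorem ct22 : r22.cycleType = {2, 2} := by decide +kernel
theorem ct2222 : r2222.cycleType = {2, 2, 2, 2} := by decide +kernel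
theorem ct42 : r42.cycleType = {4, 2} := by decide +kernel
theorem ct44 : r44.cycleType = {4, 4} := by decide +kernel

theorem Wt_22 : Wt r22 := ⟨mkP ![7, 4, 5, 0, 1, 3, 6, 2] ![3, 4, 7, 5, 1, 2, 6, 0],
  mkP ![1, 2, 0, 3, 4, 5, 6, 7] ![2, 0, 1, 3, 4, 5, 6, 7], by decide +kernel, by decide +kernel⟩
theorem Wt_2222 : Wt r2222 := ⟨mkP ![1, 4, 5, 3, 7, 0, 2, 6] ![5, 0, 6, 3, 1, 2, 7, 4],
  mkP ![0, 6, 3, 5, 7, 1, 4, 2] ![0, 5, 7, 2, 6, 3, 1, 4], by decide +kernel, by decide +kernel⟩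
theorem Wt_42 : Wt r42 := ⟨mkP ![6, 2, 5, 4, 1, 7, 3, 0] ![7, 4, 1, 6, 3, 2, 0, 5],
  mkP ![5, 0, 7, 6, 4, 2, 1, 3] ![1, 6, 5, 7, 4, 0, 3, 2], by decide +kernel, by decide +kernel⟩
theorem Wt_44 : Wt r44 := ⟨mkP ![5, 4, 2, 6, 0, 1, 3, 7] ![4, 5, 2, 6, 1, 0, 3, 7],
  mkP ![1, 2, 3, 5, 6, 7, 4, 0] ![7, 0, 1, 2, 6, 3, 4, 5], by decide +kernel, by decide +kernel⟩

theorem Wt_of {a r : Perm (Fin 8)} (h : a.cycleType = r.cycleType) (hr : Wt r) : Wt a := by
  obtain ⟨g, hg⟩ := isConj_iff.1 (isConj_iff_cycleType_eq.2 h.symm)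
  rw [← hg]
  exact hr.conj g

/-- **An even 2-element is a commutator of a 7-cycle and an even permutation.** -/
theorem wt_all {a : Perm (Fin 8)} (hs : sign a = 1) {n : ℕ} (h2 : a ^ 2 ^ n = 1) : Wt a := by
  set m := a.cycleType with hm
  have hsum : m.sum ≤ 8 := by
    have := sum_cycleType_le a
    rwa [Fintype.card_fin] at this
  have hd : ∀ d ∈ m, d = 2 ∨ d = 4 ∨ d = 8 := by
    intro d hd
    have h3 : d ∣ 2 ^ n := (dvd_of_mem_cycleType hd).trans (orderOf_dvd_of_pow_eq_one h2)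
    obtain ⟨k, -, rfl⟩ := (Nat.dvd_prime_pow Nat.prime_two).1 h3
    have h4 : 2 ^ k ≤ 8 := (Multiset.single_le_sum (fun x _ => Nat.zero_le x) _ hd).trans hsum
    have h5 := two_le_of_mem_cycleType hd
    have h6 : k ≤ 3 := by
      by_contra h
      have : 2 ^ 4 ≤ 2 ^ k := Nat.pow_le_pow_right (by norm_num) (by omega)
      omega
    interval_cases k
    · omega
    · exact Or.inl rfl
    · exact Or.inr (Or.inl rfl)
    · exact Or.inr (Or.inr rfl)
  have hge : ∀ s : Multiset ℕ, s ≤ m → 2 * s.card ≤ s.sum := by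
    intro s hs
    have := Multiset.card_nsmul_le_sum (s := s) (a := 2) (fun x hx => by
      rcases hd x (Multiset.mem_of_le hs hx) with h | h | h <;> omega)
    rwa [smul_eq_mul, mul_comm] at this
  have hev : Even (m.sum + m.card) := by
    have h3 := sign_of_cycleType a
    rw [hs, ← hm] at h3
    by_contra h4
    rw [Nat.not_even_iff_odd] at h4
    rw [h4.neg_one_pow] at h3
    exact absurd h3 (by decide)
  have hse : Even m.sum := by
    have key : ∀ s : Multiset ℕ, (∀ d ∈ s, d = 2 ∨ d = 4 ∨ d = 8) → Even s.sum := by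
      intro s
      induction s using Multiset.induction_on with
      | empty => intro _; simp
      | cons x s ih =>
        intro h
        rw [Multiset.sum_cons]
        refine Even.add ?_ (ih fun d hd => h d (Multiset.mem_cons_of_mem hd))
        rcases h x (Multiset.mem_cons_self x s) with h | h | h <;> rw [h] <;> decide
    exact key m hd
  have hce : Even m.card := (Nat.even_add.1 hev).1 hse
  have hc4 : 2 * m.card ≤ 8 := (hge m le_rfl).trans hsum
  have hcard : m.card = 0 ∨ m.card = 2 ∨ m.card = 4 := by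
    obtain ⟨k, hk⟩ := hce
    omega
  rcases hcard with hc | hc | hc
  · rw [Multiset.card_eq_zero, hm, cycleType_eq_zero] at hc
    rw [hc]
    exact Wt_one
  · obtain ⟨x, y, hxy⟩ := Multiset.card_eq_two.1 hc
    have hx := hd x (by rw [hxy]; simp)
    have hy := hd y (by rw [hxy]; simp)
    have hs2 : x + y ≤ 8 := by
      rw [hxy] at hsum
      simpa using hsum
    rcases hx with rfl | rfl | rfl <;> rcases hy with rfl | rfl | rfl
    · exact Wt_of (hxy.trans ct22.symm) Wt_22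
    · exact Wt_of (hxy.trans ((Multiset.pair_comm 2 4).trans ct42.symm)) Wt_42
    · omega
    · exact Wt_of (hxy.trans ct42.symm) Wt_42
    · exact Wt_of (hxy.trans ct44.symm) Wt_44
    · omega
    · omega
    · omega
    · omega
  · have h3 : m = Multiset.replicate 4 2 := by
      rw [Multiset.eq_replicate]
      refine ⟨hc, fun b hb => ?_⟩
      obtain ⟨s, hs⟩ := Multiset.exists_cons_of_mem hb
      have h4 : s ≤ m := by rw [hs]; exact Multiset.le_cons_self s b
      have h5 := hge s h4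
      have h6 : m.card = s.card + 1 := by rw [hs, Multiset.card_cons]
      have h7 : m.sum = b + s.sum := by rw [hs, Multiset.sum_cons]
      rcases hd b hb with h | h | h <;> omega
    exact Wt_of (h3.trans ct2222.symm) Wt_2222

/-! ### Generation -/

/-- the cycle `(a b c)` -/
def cyc (a b c : Fin 8) : Perm (Fin 8) := swap a b * swap b c

theorem cyc_five : ∀ x y : Fin 8, x ≠ 4 ∧ x ≠ 5 ∧ y ≠ 4 ∧ y ≠ 5 ∧ x ≠ y →
    cyc 4 5 x * cyc 4 5 y * (cyc 4 5 x)⁻¹ = cyc 5 x y := by decide +kernel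

theorem cyc_four : ∀ x y : Fin 8, x ≠ 4 ∧ x ≠ 5 ∧ y ≠ 4 ∧ y ≠ 5 ∧ x ≠ y →
    (cyc 4 5 x)⁻¹ * cyc 4 5 y * cyc 4 5 x = cyc 4 y x := by decide +kernel

theorem cyc_none : ∀ x y z : Fin 8, x ≠ 4 → x ≠ 5 → y ≠ 4 → y ≠ 5 → z ≠ 4 → z ≠ 5 → x ≠ y → x ≠ z → y ≠ z →
    cyc 4 5 x * cyc 5 y z * (cyc 4 5 x)⁻¹ = cyc x y z := by decide +kernel

theorem cyc_rot : ∀ x y z : Fin 8, x ≠ y → x ≠ z → y ≠ z → cyc x y z = cyc y z x := by decide +kernel

theorem cyc_inv45 : ∀ x : Fin 8, x ≠ 4 → x ≠ 5 → (cyc 4 5 x)⁻¹ = cyc 5 4 x := by decide +kernel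

theorem alt_le {Γ : Subgroup (Perm (Fin 8))} (h : ∀ i : Fin 8, i ≠ 4 → i ≠ 5 → cyc 4 5 i ∈ Γ) :
    alternatingGroup (Fin 8) ≤ Γ := by
  have h54 : ∀ i : Fin 8, i ≠ 4 → i ≠ 5 → cyc 5 4 i ∈ Γ := fun i h1 h2 => by
    rw [← cyc_inv45 i h1 h2]; exact Γ.inv_mem (h i h1 h2)
  have h5 : ∀ x y : Fin 8, x ≠ 5 → y ≠ 5 → x ≠ y → cyc 5 x y ∈ Γ := by
    intro x y hx5 hy5 hxy
    by_cases hx : x = 4
    · rw [hx]; exact h54 y (by rintro rfl; exact hxy hx) hy5
    by_cases hy : y = 4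
    · rw [hy, ← cyc_rot 4 5 x (by decide) (Ne.symm hx) (Ne.symm hx5)]
      exact h x hx hx5
    rw [← cyc_five x y ⟨hx, hx5, hy, hy5, hxy⟩]
    exact Γ.mul_mem (Γ.mul_mem (h x hx hx5) (h y hy hy5)) (Γ.inv_mem (h x hx hx5))
  have h4 : ∀ x y : Fin 8, x ≠ 4 → y ≠ 4 → x ≠ y → cyc 4 x y ∈ Γ := by
    intro x y hx4 hy4 hxy
    by_cases hx : x = 5
    · rw [hx]; exact h y hy4 (by rintro rfl; exact hxy hx)
    by_cases hy : y = 5
    · rw [hy, ← cyc_rot 5 4 x (by decide) (Ne.symm hx) (Ne.symm hx4)]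
      exact h54 x hx4 hx
    rw [← cyc_four y x ⟨hy4, hy, hx4, hx, Ne.symm hxy⟩]
    exact Γ.mul_mem (Γ.mul_mem (Γ.inv_mem (h y hy4 hy)) (h x hx4 hx)) (h y hy4 hy)
  have hall : ∀ x y z : Fin 8, x ≠ y → x ≠ z → y ≠ z → cyc x y z ∈ Γ := by
    intro x y z hxy hxz hyz
    by_cases a1 : x = 4
    · rw [a1]; exact h4 y z (by rintro rfl; exact hxy a1) (by rintro rfl; exact hxz a1) hyz
    by_cases a2 : x = 5
    · rw [a2]; exact h5 y z (by rintro rfl; exact hxy a2) (by rintro rfl; exact hxz a2) hyz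
    by_cases b1 : y = 4
    · rw [cyc_rot x y z hxy hxz hyz, b1]
      exact h4 z x (by rintro rfl; exact hyz b1) a1 (Ne.symm hxz)
    by_cases b2 : y = 5
    · rw [cyc_rot x y z hxy hxz hyz, b2]
      exact h5 z x (by rintro rfl; exact hyz b2) a2 (Ne.symm hxz)
    by_cases c1 : z = 4
    · rw [cyc_rot x y z hxy hxz hyz, cyc_rot y z x hyz (Ne.symm hxy) (Ne.symm hxz), c1]
      exact h4 x y a1 b1 hxy
    by_cases c2 : z = 5
    · rw [cyc_rot x y z hxy hxz hyz, cyc_rot y z x hyz (Ne.symm hxy) (Ne.symm hxz), c2]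
      exact h5 x y a2 b2 hxy
    rw [← cyc_none x y z a1 a2 b1 b2 c1 c2 hxy hxz hyz]
    exact Γ.mul_mem (Γ.mul_mem (h x a1 a2) (h5 y z b2 c2 hyz)) (Γ.inv_mem (h x a1 a2))
  rw [← closure_three_cycles_eq_alternating, Subgroup.closure_le]
  intro g hg
  have hg3 : g.IsThreeCycle := hg
  have hne : g.support.Nonempty := by
    rw [← Finset.card_pos, hg3.card_support]; norm_num
  obtain ⟨a, ha⟩ := hne
  have hn := hg3.nodup_iff_mem_support.2 ha
  have he := hg3.eq_swap_mul_swap_iff_mem_support.2 ha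
  simp only [List.nodup_cons, List.mem_cons, List.not_mem_nil, or_false, not_or, List.nodup_nil, and_true,
    not_false_eq_true] at hn
  rw [SetLike.mem_coe, he]
  exact hall a (g a) (g (g a)) hn.1.1 hn.1.2 hn.2

/-- the five involutions -/
def sc : Perm (Fin 8) := mkP ![5, 1, 2, 3, 4, 0, 7, 6] ![5, 1, 2, 3, 4, 0, 7, 6]
def sd : Perm (Fin 8) := mkP ![0, 1, 2, 4, 3, 5, 7, 6] ![0, 1, 2, 4, 3, 5, 7, 6]
def sf : Perm (Fin 8) := mkP ![0, 1, 3, 2, 4, 6, 5, 7] ![0, 1, 3, 2, 4, 6, 5, 7]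
def si : Perm (Fin 8) := mkP ![0, 1, 2, 3, 5, 4, 7, 6] ![0, 1, 2, 3, 5, 4, 7, 6]
def sj : Perm (Fin 8) := mkP ![0, 2, 1, 3, 4, 5, 7, 6] ![0, 2, 1, 3, 4, 5, 7, 6]

theorem wd0 : cyc 4 5 0 = si * sc := by decide +kernel
theorem wd1 : cyc 4 5 1 = sj * sf * sd * sc * si * sc * sf * sj * si * sc := by decide +kernel
theorem wd2 : cyc 4 5 2 = sc * sf * sd * sc * si * sc * sf * sc := by decide +kernel
theorem wd3 : cyc 4 5 3 = sd * si := by decide +kernel
theorem wd6 : cyc 4 5 6 = sf * sc * si * sf * si * sc := by decide +kernel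
theorem wd7 : cyc 4 5 7 = sc * sf * sc * si * sf * sc := by decide +kernel

/-- **generation of `A8`** -/
theorem alt_le' {Γ : Subgroup (Perm (Fin 8))} (hc : sc ∈ Γ) (hd : sd ∈ Γ) (hf : sf ∈ Γ) (hi : si ∈ Γ) (hj : sj ∈ Γ) :
    alternatingGroup (Fin 8) ≤ Γ := by
  apply alt_le
  intro i h4 h5
  fin_cases i
  · show cyc 4 5 0 ∈ Γ
    rw [wd0]; exact Γ.mul_mem hi hc
  · show cyc 4 5 1 ∈ Γ
    rw [wd1]
    exact Γ.mul_mem (Γ.mul_mem (Γ.mul_mem (Γ.mul_mem (Γ.mul_mem (Γ.mul_mem (Γ.mul_mem (Γ.mul_mem (Γ.mul_mem hj hf) hd)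
      hc) hi) hc) hf) hj) hi) hc
  · show cyc 4 5 2 ∈ Γ
    rw [wd2]
    exact Γ.mul_mem (Γ.mul_mem (Γ.mul_mem (Γ.mul_mem (Γ.mul_mem (Γ.mul_mem (Γ.mul_mem hc hf) hd) hc) hi) hc) hf) hc
  · show cyc 4 5 3 ∈ Γ
    rw [wd3]; exact Γ.mul_mem hd hi
  · exact absurd rfl h4
  · exact absurd rfl h5
  · show cyc 4 5 6 ∈ Γ
    rw [wd6]
    exact Γ.mul_mem (Γ.mul_mem (Γ.mul_mem (Γ.mul_mem (Γ.mul_mem hf hc) hi) hf) hi) hc
  · show cyc 4 5 7 ∈ Γ
    rw [wd7]
    exact Γ.mul_mem (Γ.mul_mem (Γ.mul_mem (Γ.mul_mem (Γ.mul_mem hc hf) hc) hi) hf) hc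

/-! ### The normalizer of the 7-cycle -/

theorem c7_even : sign c7 = 1 := by decide +kernel
theorem c7_pow : c7 ^ 7 = 1 := by decide +kernel
/-- invariants of `c7` -/
theorem c7_inv {ε : Fin 8 → Prop} (h : ∀ i, ε (c7 i) ↔ ε i) : ∀ i j : Fin 8, i ≠ 7 → j ≠ 7 → (ε i ↔ ε j) := by
  have h0 : ∀ i : Fin 8, i ≠ 7 → (ε i ↔ ε 0) := by
    have e0 : ε 1 ↔ ε 0 := h 0
    have e1 : ε 2 ↔ ε 1 := h 1
    have e2 : ε 3 ↔ ε 2 := h 2
    have e3 : ε 4 ↔ ε 3 := h 3
    have e4 : ε 5 ↔ ε 4 := h 4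
    have e5 : ε 6 ↔ ε 5 := h 5
    intro i hi
    fin_cases i
    · exact Iff.rfl
    · exact e0
    · exact e1.trans e0
    · exact e2.trans (e1.trans e0)
    · exact e3.trans (e2.trans (e1.trans e0))
    · exact e4.trans (e3.trans (e2.trans (e1.trans e0)))
    · exact e5.trans (e4.trans (e3.trans (e2.trans (e1.trans e0))))
    · exact absurd rfl hi
  intro i j hi hj
  exact (h0 i hi).trans (h0 j hj).symm

end Cfsg.Agent.H834.R4
end

-- part: H834/R4/Act
section
/-!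
# `Fi24`: the stabilizer of the eight transpositions in `C(l, k)` (helper834, for `3.Fi24'`)

* `Act n σ` : `n` permutes the eight transpositions by `σ`;
* `exists_act` : every even permutation comes from `C(l, k) ∩ Fi24'`;
* `EE` : the homomorphism of `2^8` onto `DD`, `EE_ker`, `card_DD`;
* `conj_N` : every 2-element of `C(l, k)` is conjugate into the stabilizer; `even_of_act`.
-/

set_option autoImplicit false
set_option maxRecDepth 100000
set_option exponentiation.threshold 30000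

namespace Cfsg.Agent.H834.R4

open Cfsg Cfsg.Agent.Lib.PermNet Cfsg.Agent.Lib.PermNetPt
open Cfsg.Agent.Fischer.Fi24RepDef Cfsg.Agent.Fischer.Fi24Rep
open Cfsg.Agent.Fischer.Fi24Spider (word_append word_cons word_nil)
open Cfsg.Agent.KFacts.FiTF.Pts Cfsg.Agent.KFacts.FiTF.FixMask
open Cfsg.Agent.R08.FiTwentyFour (L)
open Cfsg.Agent.LThreeFi24.FiveConj (eqB eq_of_eqB)
open Cfsg.Agent.H840.LkK (AL)
open Cfsg.Agent.H840.Lk
open Cfsg.Spor (Fi24)
open Cfsg.Spor.Fi24 (Gen)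
open Subgroup Equiv

/-- `n` permutes the eight transpositions by `σ` -/
def Act (n : Fi24) (σ : Perm (Fin 8)) : Prop := ∀ i, n * dq i * n⁻¹ = dq (σ i)

theorem Act.one : Act 1 1 := fun i => by
  show 1 * dq i * 1⁻¹ = dq i
  group

theorem Act.mul {n m : Fi24} {σ τ : Perm (Fin 8)} (h : Act n σ) (h' : Act m τ) : Act (n * m) (σ * τ) := fun i => by
  show n * m * dq i * (n * m)⁻¹ = dq (σ (τ i))
  rw [← h, ← h']
  group

theorem Act.inv {n : Fi24} {σ : Perm (Fin 8)} (h : Act n σ) : Act n⁻¹ σ⁻¹ := fun i => by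
  have h1 := h (σ⁻¹ i)
  have h2 : σ (σ⁻¹ i) = i := σ.apply_symm_apply i
  rw [h2] at h1
  rw [← h1]
  group

theorem Act.uniq {n : Fi24} {σ τ : Perm (Fin 8)} (h : Act n σ) (h' : Act n τ) : σ = τ := by
  ext i
  have h1 : dq (σ i) = dq (τ i) := by rw [← h, ← h']
  rw [dq_inj h1]

theorem Act.pow {n : Fi24} {σ : Perm (Fin 8)} (h : Act n σ) (m : ℕ) : Act (n ^ m) (σ ^ m) := by
  induction m with
  | zero => rw [pow_zero, pow_zero]; exact Act.one
  | succ m ih => rw [pow_succ, pow_succ]; exact ih.mul h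

theorem Act.comm {n : Fi24} {σ τ : Perm (Fin 8)} {m : Fi24} (h : Act n σ) (h' : Act m τ) :
    Act (n * m * n⁻¹ * m⁻¹) (σ * τ * σ⁻¹ * τ⁻¹) := ((h.mul h').mul h.inv).mul h'.inv

theorem act_one_iff {n : Fi24} : Act n 1 ↔ ∀ i, Commute n (dq i) :=
  ⟨fun h i => mul_inv_eq_iff_eq_mul.1 (h i), fun h i => mul_inv_eq_iff_eq_mul.2 (h i).eq⟩

theorem act_DD {n : Fi24} (h : n ∈ DD) : Act n 1 := act_one_iff.2 fun i => DD_comm h (dq_DD i)

theorem mem_DD_of_act {n : Fi24} (hn : n ∈ Clk) (h : Act n 1) : n ∈ DD := mem_DD ⟨hn, act_one_iff.1 h⟩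

/-! ### The even permutations -/

theorem act_of_chk {w : List Gen} {f : Fin 8 → Fin 8} (h : actB w f = true) {σ : Perm (Fin 8)} (hσ : ∀ i, σ i = f i) :
    Act (word w) σ := by
  intro i
  unfold actB at h
  rw [List.all_eq_true] at h
  have h1 := chk_iff.1 (h i (List.mem_finRange i))
  rw [hσ i]
  exact (isPt_dq i).conj_eq (isPt_dq (f i)) h1

theorem wn_eq (x : Gen) (A : List (Fin 8)) : word (wn x A) = (gen x * (A.map dq).prod) * (gen x * (A.map dq).prod) := by
  unfold wn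
  rw [word_append, word_cons, word_wA]

theorem comm_index : (commutator Fi24).index = 2 := Cfsg.Agent.R08.FiTwentyFour.index_commutator

theorem wn_mem {x : Gen} (hx : gen x ∈ Clk) (A : List (Fin 8)) :
    word (wn x A) ∈ Clk ∧ word (wn x A) ∈ commutator Fi24 := by
  rw [wn_eq]
  have h1 : gen x * (A.map dq).prod ∈ Clk := Clk.mul_mem hx (DD_le (prod_DD A))
  exact ⟨Clk.mul_mem h1 h1, mul_self_mem_of_index_two comm_index _⟩

/-- the permutations induced by `C(l, k) ∩ Fi24'` -/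
def Γ8 : Subgroup (Perm (Fin 8)) where
  carrier := {σ | ∃ n ∈ Clk, n ∈ commutator Fi24 ∧ Act n σ}
  mul_mem' := by
    rintro σ τ ⟨n, h1, h2, h3⟩ ⟨m, h4, h5, h6⟩
    exact ⟨n * m, Clk.mul_mem h1 h4, mul_mem h2 h5, h3.mul h6⟩
  one_mem' := ⟨1, Clk.one_mem, one_mem _, Act.one⟩
  inv_mem' := by
    rintro σ ⟨n, h1, h2, h3⟩
    exact ⟨n⁻¹, Clk.inv_mem h1, inv_mem h2, h3.inv⟩

theorem j_Clk : gen .j ∈ Clk := (mem_Dlk.1 j_Dlk).2

theorem alt_le_Γ8 : alternatingGroup (Fin 8) ≤ Γ8 := by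
  have key : ∀ {x : Gen} {A : List (Fin 8)} {f : Fin 8 → Fin 8} {σ : Perm (Fin 8)}, gen x ∈ Clk →
      actB (wn x A) f = true → (∀ i, σ i = f i) → σ ∈ Γ8 := fun hx h hσ =>
    ⟨_, (wn_mem hx _).1, (wn_mem hx _).2, act_of_chk h hσ⟩
  refine alt_le' ?_ ?_ ?_ ?_ ?_
  · exact key (gen_Clk .c (by decide)) acc (by decide)
  · exact key (gen_Clk .d (by decide)) acd (by decide)
  · exact key (gen_Clk .f (by decide)) acf (by decide)
  · exact key (gen_Clk .i (by decide)) aci (by decide)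
  · exact key j_Clk acj (by decide)

theorem exists_act {σ : Perm (Fin 8)} (h : Perm.sign σ = 1) : ∃ n ∈ Clk, n ∈ commutator Fi24 ∧ Act n σ :=
  alt_le_Γ8 (Perm.mem_alternatingGroup.2 h)

/-! ### The structure of `DD` -/

noncomputable instance instDD : CommGroup DD := { (inferInstance : Group DD) with mul_comm := fun a b => Subtype.ext (DD_comm a.2 b.2) }

noncomputable def ed (i : Fin 8) : DD := ⟨dq i, dq_DD i⟩

theorem ed_sq (i : Fin 8) : ed i ^ 2 = 1 := Subtype.ext (by rw [pow_two]; exact dq_sq i)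

/-- the elements of `DD` -/
noncomputable def EE (v : Fin 8 → ZMod 2) : DD := ∏ i, ed i ^ (v i).val

theorem EE_add (v w : Fin 8 → ZMod 2) : EE (v + w) = EE v * EE w := by
  unfold EE
  rw [← Finset.prod_mul_distrib]
  refine Finset.prod_congr rfl fun i _ => ?_
  rw [Pi.add_apply, ZMod.val_add, ← pow_add]
  exact (pow_eq_pow_mod _ (ed_sq i)).symm

theorem EE_zero : EE 0 = 1 := by
  unfold EE
  refine Finset.prod_eq_one fun i _ => ?_
  rw [Pi.zero_apply, ZMod.val_zero, pow_zero]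

theorem EE_single (i : Fin 8) : EE (Pi.single i 1) = ed i := by
  unfold EE
  rw [Finset.prod_eq_single i]
  · rw [Pi.single_eq_same]
    exact pow_one _
  · intro j _ hj
    rw [Pi.single_eq_of_ne hj, ZMod.val_zero, pow_zero]
  · intro h
    exact absurd (Finset.mem_univ i) h

/-- the homomorphism -/
noncomputable def EEh : Multiplicative (Fin 8 → ZMod 2) →* DD where
  toFun v := EE v.toAdd
  map_one' := EE_zero
  map_mul' v w := EE_add _ _

theorem EE_surj (g : DD) : ∃ v, EE v = g := by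
  have h1 : DD ≤ EEh.range.map DD.subtype := by
    conv_lhs => unfold DD
    rw [closure_le]
    rintro _ ⟨i, rfl⟩
    exact ⟨ed i, ⟨Multiplicative.ofAdd (Pi.single i 1), EE_single i⟩, rfl⟩
  obtain ⟨x, ⟨v, hv⟩, hx⟩ := h1 g.2
  refine ⟨v.toAdd, ?_⟩
  have : x = g := Subtype.ext hx
  rw [← this, ← hv]
  rfl

/-- the action on `DD` -/
theorem EE_act {n : Fi24} {σ : Perm (Fin 8)} (h : Act n σ) (v : Fin 8 → ZMod 2) :
    n * (EE v : Fi24) * n⁻¹ = (EE (v ∘ (σ⁻¹ : Perm (Fin 8))) : Fi24) := by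
  -- the conjugation
  have key : ∀ s : Finset (Fin 8), n * ((∏ i ∈ s, ed i ^ (v i).val : DD) : Fi24) * n⁻¹ =
      ((∏ i ∈ s, ed (σ i) ^ (v i).val : DD) : Fi24) := by
    intro s
    induction s using Finset.induction_on with
    | empty => rw [Finset.prod_empty, Finset.prod_empty]; show n * 1 * n⁻¹ = 1; group
    | insert i s hi ih =>
      rw [Finset.prod_insert hi, Finset.prod_insert hi]
      show n * (dq i ^ (v i).val * ((∏ i ∈ s, ed i ^ (v i).val : DD) : Fi24)) * n⁻¹ =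
        dq (σ i) ^ (v i).val * ((∏ i ∈ s, ed (σ i) ^ (v i).val : DD) : Fi24)
      rw [← ih, ← h i, conj_pow]
      group
  unfold EE
  rw [key]
  congr 1
  refine Fintype.prod_equiv σ _ _ fun i => ?_
  show _ = ed (σ i) ^ (v (σ⁻¹ (σ i))).val
  have h2 : σ⁻¹ (σ i) = i := σ.symm_apply_apply i
  rw [h2]

theorem EE_act' {n : Fi24} {σ : Perm (Fin 8)} (h : Act n σ) {v : Fin 8 → ZMod 2} (hv : EE v = 1) :
    EE (v ∘ (σ⁻¹ : Perm (Fin 8))) = 1 := by
  apply Subtype.ext
  rw [← EE_act h v, hv]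
  show n * 1 * n⁻¹ = 1
  group

theorem zmod2 (x y : ZMod 2) : x ≠ y → x + y = 1 := by revert x y; decide
theorem zmod2' (x : ZMod 2) : x + x = 0 := by revert x; decide
theorem zmod2'' (x y : ZMod 2) : x + y = 0 → x = y := by revert x y; decide
theorem zmod2d (x y z : ZMod 2) : x ≠ y → z ≠ x → z = y := by revert x y z; decide

theorem exists_third (i j : Fin 8) : ∃ k, k ≠ i ∧ k ≠ j := by revert i j; decide

theorem ed_mul_ne {i j : Fin 8} (h : i ≠ j) : ed i * ed j ≠ 1 := by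
  intro h1
  have h2 : dq i * dq j = 1 := congrArg Subtype.val h1
  have h3 : dq i = dq j := by
    have h4 := dq_sq j
    exact mul_right_cancel (h2.trans h4.symm)
  exact h (dq_inj h3)

/-- **the kernel consists of constants** -/
theorem EE_ker {v : Fin 8 → ZMod 2} (h : EE v = 1) (i j : Fin 8) : v i = v j := by
  by_contra hij
  have hij' : i ≠ j := fun h => hij (by rw [h])
  obtain ⟨k, hki, hkj⟩ := exists_third i j
  set σ : Perm (Fin 8) := swap i j * swap j k with hσ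
  have hs : Perm.sign σ = 1 := by
    rw [hσ, map_mul, Perm.sign_swap hij', Perm.sign_swap (Ne.symm hkj)]
    decide
  obtain ⟨n, -, -, hn⟩ := exists_act hs
  have h1 := EE_act' hn h
  have h2 : EE (v ∘ (σ⁻¹ : Perm (Fin 8)) + v) = 1 := by rw [EE_add, h1, h, mul_one]
  have hinv : σ⁻¹ = swap j k * swap i j := by rw [hσ, mul_inv_rev, swap_inv, swap_inv]
  have vi : σ⁻¹ i = k := by
    rw [hinv]
    show swap j k (swap i j i) = k
    rw [swap_apply_left, swap_apply_left]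
  have vj : σ⁻¹ j = i := by
    rw [hinv]
    show swap j k (swap i j j) = i
    rw [swap_apply_right, swap_apply_of_ne_of_ne hij' (Ne.symm hki)]
  have vk : σ⁻¹ k = j := by
    rw [hinv]
    show swap j k (swap i j k) = j
    rw [swap_apply_of_ne_of_ne hki hkj, swap_apply_right]
  have vm : ∀ m, m ≠ i → m ≠ j → m ≠ k → σ⁻¹ m = m := by
    intro m h1 h2 h3
    rw [hinv]
    show swap j k (swap i j m) = m
    rw [swap_apply_of_ne_of_ne h1 h2, swap_apply_of_ne_of_ne h2 h3]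
  have key : ∀ {a b : Fin 8}, a ≠ b → v ∘ (σ⁻¹ : Perm (Fin 8)) + v = Pi.single a 1 + Pi.single b 1 → False := by
    intro a b hab h3
    rw [h3, EE_add, EE_single, EE_single] at h2
    exact ed_mul_ne hab h2
  by_cases hk : v k = v i
  · refine key (a := j) (b := k) (Ne.symm hkj) ?_
    funext m
    show v (σ⁻¹ m) + v m = (Pi.single j 1 : Fin 8 → ZMod 2) m + (Pi.single k 1 : Fin 8 → ZMod 2) m
    by_cases m1 : m = i
    · subst m1
      rw [vi, hk, zmod2', Pi.single_eq_of_ne hij', Pi.single_eq_of_ne (Ne.symm hki), add_zero]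
    by_cases m2 : m = j
    · subst m2
      rw [vj, Pi.single_eq_same, Pi.single_eq_of_ne (Ne.symm hkj), add_zero]
      exact zmod2 _ _ hij
    by_cases m3 : m = k
    · subst m3
      rw [vk, Pi.single_eq_same, Pi.single_eq_of_ne hkj, zero_add, hk]
      exact zmod2 _ _ (Ne.symm hij)
    rw [vm m m1 m2 m3, zmod2', Pi.single_eq_of_ne m2, Pi.single_eq_of_ne m3, add_zero]
  · have hk' : v k = v j := zmod2d _ _ _ hij hk
    refine key (a := i) (b := j) hij' ?_
    funext m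
    show v (σ⁻¹ m) + v m = (Pi.single i 1 : Fin 8 → ZMod 2) m + (Pi.single j 1 : Fin 8 → ZMod 2) m
    by_cases m1 : m = i
    · subst m1
      rw [vi, Pi.single_eq_same, Pi.single_eq_of_ne hij', add_zero]
      exact zmod2 _ _ hk
    by_cases m2 : m = j
    · subst m2
      rw [vj, Pi.single_eq_same, Pi.single_eq_of_ne (Ne.symm hij'), zero_add]
      exact zmod2 _ _ hij
    by_cases m3 : m = k
    · subst m3
      rw [vk, Pi.single_eq_of_ne hki, Pi.single_eq_of_ne hkj, add_zero, hk', zmod2']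
    rw [vm m m1 m2 m3, zmod2', Pi.single_eq_of_ne m1, Pi.single_eq_of_ne m2, add_zero]

/-- **the product of the eight transpositions is trivial** -/
theorem EE_const (a : ZMod 2) : EE (fun _ => a) = 1 := by
  have h1 : EE (fun _ => 1) = 1 := by
    apply Subtype.ext
    have h2 := eq_of_eqB eqall
    simp only [word_append, word_nil] at h2
    unfold EE
    rw [Fin.prod_univ_eight]
    show (dq 0 ^ (1 : ZMod 2).val * dq 1 ^ (1 : ZMod 2).val * dq 2 ^ (1 : ZMod 2).val * dq 3 ^ (1 : ZMod 2).val *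
      dq 4 ^ (1 : ZMod 2).val * dq 5 ^ (1 : ZMod 2).val * dq 6 ^ (1 : ZMod 2).val * dq 7 ^ (1 : ZMod 2).val : Fi24) = 1
    have h3 : (1 : ZMod 2).val = 1 := rfl
    rw [h3]
    simp only [pow_one, mul_assoc]
    exact h2
  have h2 : a = 0 ∨ a = 1 := by revert a; decide
  rcases h2 with rfl | rfl
  · exact EE_zero
  · exact h1

/-- parity -/
theorem EE_even {v : Fin 8 → ZMod 2} (h : (EE v : Fi24) ∈ commutator Fi24) : ∑ i, v i = 0 := by
  rw [Cfsg.Agent.R08.FiTwentyFour.mem_commutator_iff] at h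
  have h1 : Cfsg.Agent.Fischer.Fi24Final.sgn (EE v : Fi24) = ∏ i, (-1 : ℤˣ) ^ (v i).val := by
    show (Cfsg.Agent.Fischer.Fi24Final.sgn.comp DD.subtype) (EE v) = _
    unfold EE
    rw [map_prod]
    refine Finset.prod_congr rfl fun i _ => ?_
    rw [map_pow]
    congr 1
    exact Cfsg.Agent.R08.FiTwentyFour.sgn_L (dq_mem i)
  rw [h1, Finset.prod_pow_eq_pow_sum] at h
  have h2 : Even (∑ i, (v i).val) := by
    by_contra h3
    rw [Nat.not_even_iff_odd] at h3
    rw [h3.neg_one_pow] at h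
    exact absurd h (by decide)
  have h3 : ∑ i, v i = ((∑ i, (v i).val : ℕ) : ZMod 2) := by
    rw [Nat.cast_sum]
    refine Finset.sum_congr rfl fun i _ => ?_
    rw [ZMod.natCast_val, ZMod.cast_id]
  rw [h3, (ZMod.natCast_eq_zero_iff _ _)]
  exact h2.two_dvd

theorem card_ker_EEh : Nat.card EEh.ker ∣ 2 := by
  let f : EEh.ker →* Multiplicative (ZMod 2) := MonoidHom.mk' (fun z => Multiplicative.ofAdd (z.1.toAdd 0)) (fun _ _ => rfl)
  have hf : Function.Injective f := by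
    intro a b hab
    apply Subtype.ext
    apply Multiplicative.toAdd.injective
    funext i
    have h1 : a.1.toAdd 0 = b.1.toAdd 0 := Multiplicative.ofAdd.injective hab
    rw [EE_ker (show EE a.1.toAdd = 1 from a.2) i 0, EE_ker (show EE b.1.toAdd = 1 from b.2) i 0, h1]
  have h2 := Subgroup.card_dvd_of_injective f hf
  have h3 : Nat.card (Multiplicative (ZMod 2)) = 2 := by
    rw [Nat.card_congr Multiplicative.toAdd]
    exact Nat.card_zmod 2
  rwa [h3] at h2

theorem card_DD : 2 ^ 7 ∣ Nat.card DD := by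
  have h1 : Nat.card EEh.range ∣ Nat.card DD := Subgroup.card_subgroup_dvd_card _
  refine dvd_trans ?_ h1
  have h2 : Nat.card EEh.ker * Nat.card EEh.range = 2 ^ 8 := by
    have h3 := Subgroup.card_mul_index EEh.ker
    rw [Subgroup.index_ker] at h3
    rw [h3, Nat.card_congr Multiplicative.toAdd, Nat.card_pi]
    simp
  have h4 := card_ker_EEh
  rcases (Nat.dvd_prime Nat.prime_two).1 h4 with h5 | h5
  · rw [h5, one_mul] at h2
    rw [h2]
    norm_num
  · rw [h5] at h2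
    have : Nat.card EEh.range = 2 ^ 7 := by omega
    rw [this]

end Cfsg.Agent.H834.R4
end

private theorem dce_3d433a2af054 : _root_.True := by
  try have : _root_.True := by simp only [_root_.Cfsg.Agent.H834.R4.Af.eq_1]
  try have : _root_.True := by simp only [_root_.Cfsg.Agent.H834.R4.Ad.eq_1]
  try have : _root_.True := by simp only [_root_.Cfsg.Agent.H834.R4.Ac.eq_1]
  try have : _root_.True := by simp only [_root_.Cfsg.Agent.H840.LkK.AL.eq_1]
  exact _root_.True.intro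
end

-- part: H344/QS/Fuse
section
prune_inst 0x100800000000000000000000010000010000000
set_option linter.all false
open scoped Cfsg.Agent.FastGrp

/-!
# Fusion of the lifts in a central extension by a group of order three (helper344)

`π : L → K` surjective, `ker π` central of order three.

* `Nc π y` : the image of the centralizer of `y`;
* `Fu π x` : some element commutes with `x`, but the lifts do not commute;
* `coprime_mem` : elements of order prime to three do not see the extension;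
* `three_mul_le` : if `x` is fused then `|Nc y| ≤ |C(x)| / 3`;
* `Fu.isC` : if `π g = [x, k]` with `x` fused then `g` is a commutator.
-/

set_option autoImplicit false

namespace Cfsg.Agent.H344.QS

open Subgroup Cfsg.Agent.H51.Mult Cfsg.Agent.H777.Ore

universe u v

variable {L : Type u} {K : Type v} [Group L] [Group K] {π : L →* K}

/-- the image of the centralizer -/
def Nc (π : L →* K) (y : L) : Subgroup K := (centralizer ({y} : Set L)).map π

theorem mem_Nc_of {y u : L} (h : u * y = y * u) : π u ∈ Nc π y :=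
  ⟨u, mem_centralizer_singleton_iff.2 h, rfl⟩

theorem mem_Nc (hc : π.ker ≤ center L) {y u : L} : π u ∈ Nc π y ↔ u * y = y * u := by
  constructor
  · rintro ⟨v, hv, e⟩
    have hv : v * y = y * v := mem_centralizer_singleton_iff.1 hv
    have h1 : v⁻¹ * u ∈ center L := hc (by rw [MonoidHom.mem_ker, map_mul, map_inv, e, inv_mul_cancel])
    have h2 := mem_center_iff.1 h1 y
    calc u * y = v * (v⁻¹ * u * y) := by group
      _ = v * (y * (v⁻¹ * u)) := by rw [h2]
      _ = v * y * (v⁻¹ * u) := by group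
      _ = y * v * (v⁻¹ * u) := by rw [hv]
      _ = y * u := by group
  · exact mem_Nc_of

theorem Nc_le (y : L) : Nc π y ≤ centralizer ({π y} : Set K) := by
  rintro _ ⟨v, hv, rfl⟩
  have hv : v * y = y * v := mem_centralizer_singleton_iff.1 hv
  rw [mem_centralizer_singleton_iff, ← map_mul, hv, map_mul]

theorem self_mem (y : L) : π y ∈ Nc π y := mem_Nc_of rfl

/-- `π y` is fused -/
def Fu (π : L →* K) (x : K) : Prop := ∃ y u : L, π y = x ∧ x * π u = π u * x ∧ u * y ≠ y * u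

theorem Fu.symm {x s : K} {y u : L} (hy : π y = x) (hu : π u = s) (hxs : x * s = s * x) (h : u * y ≠ y * u) :
    Fu π s := ⟨u, y, hu, by rw [hy, hxs], fun e => h e.symm⟩

theorem Fu.conj (hs : Function.Surjective π) {x k : K} (h : Fu π x) : Fu π (k * x * k⁻¹) := by
  obtain ⟨k, rfl⟩ := hs k
  obtain ⟨y, u, rfl, h1, h2⟩ := h
  refine ⟨k * y * k⁻¹, k * u * k⁻¹, by simp only [map_mul, map_inv], ?_, ?_⟩
  · simp only [map_mul, map_inv]
    calc π k * π y * (π k)⁻¹ * (π k * π u * (π k)⁻¹) = π k * (π y * π u) * (π k)⁻¹ := by group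
      _ = π k * (π u * π y) * (π k)⁻¹ := by rw [h1]
      _ = _ := by group
  · intro h
    apply h2
    calc u * y = k⁻¹ * (k * u * k⁻¹ * (k * y * k⁻¹)) * k := by group
      _ = k⁻¹ * (k * y * k⁻¹ * (k * u * k⁻¹)) * k := by rw [h]
      _ = y * u := by group

theorem Fu.inv {x : K} (h : Fu π x) : Fu π x⁻¹ := by
  obtain ⟨y, u, rfl, h1, h2⟩ := h
  refine ⟨y⁻¹, u, map_inv π y, ?_, ?_⟩
  · exact (show Commute (π y) (π u) from h1).inv_left.eq
  · intro h
    apply h2
    have := (show Commute u y⁻¹ from h).inv_right.eq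
    rwa [inv_inv] at this

theorem Fu.of_inv {x : K} (h : Fu π x⁻¹) : Fu π x := by
  have := h.inv
  rwa [inv_inv] at this

/-- the commutator of commuting elements -/
theorem comm_mem_ker {y u : L} (h : π y * π u = π u * π y) : u * y * u⁻¹ * y⁻¹ ∈ π.ker := by
  rw [MonoidHom.mem_ker, map_mul, map_mul, map_mul, map_inv, map_inv, ← h]
  group

/-- powers -/
theorem pow_conj (hc : π.ker ≤ center L) {y u : L} (h : π y * π u = π u * π y) (n : ℕ) :
    u ^ n * y * (u ^ n)⁻¹ = (u * y * u⁻¹ * y⁻¹) ^ n * y := by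
  set z := u * y * u⁻¹ * y⁻¹ with hz
  have hzc : ∀ w, w * z = z * w := fun w => mem_center_iff.1 (hc (comm_mem_ker h)) w
  have h1 : u * y * u⁻¹ = z * y := by rw [hz]; group
  induction n with
  | zero => simp
  | succ n ih =>
    have h2 : u * z ^ n = z ^ n * u := ((show Commute u z from hzc u).pow_right n).eq
    calc u ^ (n + 1) * y * (u ^ (n + 1))⁻¹ = u * (u ^ n * y * (u ^ n)⁻¹) * u⁻¹ := by rw [pow_succ']; group
      _ = u * z ^ n * y * u⁻¹ := by rw [ih]; group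
      _ = z ^ n * (u * y * u⁻¹) := by rw [h2]; group
      _ = z ^ (n + 1) * y := by rw [h1, pow_succ]; group

/-- elements of order prime to three do not see the extension -/
theorem coprime_mem (hs : Function.Surjective π) (hc : π.ker ≤ center L) (h3 : Nat.card π.ker = 3) {y : L} {s : K}
    (hsy : s * π y = π y * s) {n : ℕ} (hn : s ^ n = 1) (hcop : Nat.Coprime n 3) : s ∈ Nc π y := by
  obtain ⟨u, rfl⟩ := hs s
  rw [mem_Nc hc]
  have h1 := pow_conj hc hsy.symm n
  have h2 : u ^ n ∈ center L := hc (by rw [MonoidHom.mem_ker, map_pow, hn])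
  have h3' : (u * y * u⁻¹ * y⁻¹) ^ n = 1 := by
    have h4 := mem_center_iff.1 h2 y
    rw [← h4, mul_assoc, mul_inv_cancel, mul_one] at h1
    exact (mul_right_cancel ((one_mul y).trans h1)).symm
  have h5 : (u * y * u⁻¹ * y⁻¹) ^ 3 = 1 := by
    have h6 := pow_card_eq_one' (x := (⟨_, comm_mem_ker hsy.symm⟩ : π.ker))
    rw [h3] at h6
    exact congrArg Subtype.val h6
  have h7 : u * y * u⁻¹ * y⁻¹ = 1 := by
    rw [← orderOf_eq_one_iff, ← Nat.dvd_one, ← hcop]
    exact Nat.dvd_gcd (orderOf_dvd_of_pow_eq_one h3') (orderOf_dvd_of_pow_eq_one h5)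
  calc u * y = (u * y * u⁻¹ * y⁻¹) * (y * u) := by group
    _ = y * u := by rw [h7, one_mul]

/-- elements which are not fused are in the image of the centralizer -/
theorem mem_of_not_fu (hs : Function.Surjective π) {y : L} {s : K}
    (hsy : s * π y = π y * s) (h : ¬ Fu π s) : s ∈ Nc π y := by
  obtain ⟨u, rfl⟩ := hs s
  by_contra hn
  exact h ⟨u, y, rfl, hsy, fun e => hn (mem_Nc_of e.symm)⟩

/-- a fused element has lifts with a small centralizer -/
theorem three_mul_le [Finite K] (hs : Function.Surjective π) (hc : π.ker ≤ center L) (h3 : Nat.card π.ker = 3)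
    {y s : L} (hys : π y * π s = π s * π y) (hne : s * y ≠ y * s) :
    3 * Nat.card (Nc π y) ≤ Nat.card (centralizer ({π y} : Set K)) := by
  have h1 := (Nc_le (π := π) y)
  have h2 : Nat.card (Nc π y) * (Nc π y).relIndex (centralizer ({π y} : Set K)) =
      Nat.card (centralizer ({π y} : Set K)) := by
    rw [Subgroup.relIndex, ← Subgroup.card_mul_index ((Nc π y).subgroupOf (centralizer ({π y} : Set K))),
      Nat.card_congr (subgroupOfEquivOfLe h1).toEquiv]
  rw [← h2, mul_comm]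
  refine Nat.mul_le_mul_left _ ?_
  have hsc : π s ∈ centralizer ({π y} : Set K) := mem_centralizer_singleton_iff.2 hys.symm
  have hsn : π s ∉ Nc π y := fun h => hne ((mem_Nc hc).1 h)
  have h0 : (Nc π y).relIndex (centralizer ({π y} : Set K)) ≠ 0 := Subgroup.index_ne_zero_of_finite
  have hone : (Nc π y).relIndex (centralizer ({π y} : Set K)) ≠ 1 := by
    rw [Ne, Subgroup.relIndex_eq_one]
    exact fun h => hsn (h hsc)
  have htwo : (Nc π y).relIndex (centralizer ({π y} : Set K)) ≠ 2 := by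
    intro h
    have h4 := Subgroup.mul_self_mem_of_index_two (H := (Nc π y).subgroupOf (centralizer ({π y} : Set K))) h
      ⟨π s, hsc⟩
    rw [mem_subgroupOf] at h4
    have h5 : π (s * s) ∈ Nc π y := by rw [map_mul]; exact h4
    have h6 : s * s * y = y * (s * s) := (mem_Nc hc).1 h5
    have h7 := pow_conj hc hys 2
    have h8 : (s * y * s⁻¹ * y⁻¹) ^ 3 = 1 := by
      have h6 := pow_card_eq_one' (x := (⟨_, comm_mem_ker hys⟩ : π.ker))
      rw [h3] at h6
      exact congrArg Subtype.val h6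
    have h9 : (s * y * s⁻¹ * y⁻¹) ^ 2 = 1 := by
      have e1 : s ^ 2 * y * (s ^ 2)⁻¹ = y := by
        rw [pow_two, h6]; group
      rw [e1] at h7
      exact (mul_right_cancel ((one_mul y).trans h7)).symm
    have h10 : s * y * s⁻¹ * y⁻¹ = 1 := by
      calc s * y * s⁻¹ * y⁻¹ = (s * y * s⁻¹ * y⁻¹) ^ 3 * ((s * y * s⁻¹ * y⁻¹) ^ 2)⁻¹ := by group
        _ = 1 := by rw [h8, h9]; group
    apply hne
    calc s * y = (s * y * s⁻¹ * y⁻¹) * (y * s) := by group
      _ = y * s := by rw [h10, one_mul]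
  omega

/-- all the lifts of a fused element are conjugate -/
theorem Fu.isConj (hc : π.ker ≤ center L) {x : K} (h : Fu π x) :
    ∃ y z : L, π y = x ∧ π z = 1 ∧ z ≠ 1 ∧ IsConj y (y * z) := by
  obtain ⟨y, u, rfl, h1, h2⟩ := h
  refine ⟨y, u * y * u⁻¹ * y⁻¹, rfl, comm_mem_ker h1, fun h => h2 ?_, ?_⟩
  · calc u * y = (u * y * u⁻¹ * y⁻¹) * (y * u) := by group
      _ = y * u := by rw [h, one_mul]
  · rw [isConj_iff]
    refine ⟨u, ?_⟩
    have h3 := mem_center_iff.1 (hc (comm_mem_ker h1)) y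
    rw [h3]
    group

theorem mem_zpowers_of_ne (h3 : Nat.card π.ker = 3) {z ζ : L} (hz : π z = 1) (hz1 : z ≠ 1) (hζ : π ζ = 1) :
    ζ ∈ zpowers z := by
  have : Fact (Nat.Prime 3) := ⟨Nat.prime_three⟩
  have h1 : (⟨ζ, hζ⟩ : π.ker) ∈ zpowers (⟨z, hz⟩ : π.ker) :=
    mem_zpowers_of_prime_card h3 (fun h => hz1 (congrArg Subtype.val h))
  obtain ⟨k, hk⟩ := mem_zpowers_iff.1 h1
  exact mem_zpowers_iff.2 ⟨k, by have := congrArg Subtype.val hk; simpa using this⟩

/-- **the commutator trick** -/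
theorem Fu.isC (hs : Function.Surjective π) (hc : π.ker ≤ center L) (h3 : Nat.card π.ker = 3) {x k : K} (h : Fu π x)
    {g : L} (hg : π g = x * k * x⁻¹ * k⁻¹) : IsC g := by
  obtain ⟨y, z, rfl, hz, hz1, hconj⟩ := h.isConj hc
  exact Cfsg.Agent.H6.QO.isC_of_pair_zpowers hs hc (fun ζ hζ => mem_zpowers_of_ne h3 hz hz1 hζ) hz hg hconj

end Cfsg.Agent.H344.QS
end

-- part: H235/QS/O7C2
section
prune_inst 0x100800000000000000000000010000010000000
set_option linter.all false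
open scoped Cfsg.Agent.FastGrp

/-!
# Class representatives of `Ω₇(3)` under `SO₇(3)`: centralizers, orders, fixed points, part 2 (helper235)
-/

set_option autoImplicit false
set_option maxRecDepth 100000

namespace Cfsg.Agent.H235.QS.O7C

open Cfsg.Agent.H235.Ore.Eng Cfsg.Agent.H235.QS.O7M Subgroup Equiv

open Cfsg.Agent.SporadicA.PermTab (lk allB allB_iff)

private def pt (T k i : ℕ) : ℕ := Nat.rec i (fun _ j => Nat.land (Nat.shiftRight T (Nat.mul 11 j)) 2047) k

private theorem tb_eq {X : List ℕ} {T : ℕ} (h : allB (fun i => Nat.beq (lk T i) (act X i)) 378 = true) (i : Fin 378) :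
    lk T i = (wd X i : ℕ) :=
  (Nat.eq_of_beq_eq_true ((allB_iff _ _).1 h i i.2)).trans (act_eq X i)

private theorem pv_pt {X : List ℕ} {T : ℕ} (h : ∀ i : Fin 378, lk T i = (wd X i : ℕ)) : Pv (wd X) (pt T) := by
  intro k i
  induction k with
  | zero => rfl
  | succ k ih =>
    rw [pow_succ', Perm.mul_apply, ← h, ← ih]
    rfl

private theorem bndT {X : List ℕ} {T : ℕ} (hT : ∀ i : Fin 378, lk T i = (wd X i : ℕ)) {l : List Lv} {m : ℕ}
    (h : run 378 R (pt T) m base l [] = true) : Nat.card ↥(centralizer ({w2 X} : Set ↥M2)) ≤ bd l := by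
  rw [card_cen]
  exact le_of_run (pv_pt hT) l [] _ (fun c hc => cen_good hc) (fun c hc hb => cen_base hc hb)
    (fun c _ f hf => absurd hf List.not_mem_nil) h


def x26 : List ℕ := [7, 0, 1, 2, 6]
private def t26 : ℕ := nat_lit 0x138260561ac350690a214c2906f0840c01a87408e1001706d0761302f0620781402405a06e3b88910022c410790fc1d4438849082144748f91e1bc3746c8e41ee4907c9261d2488710f5286594a995127c58cb094f2784e4bb94a2ec5249a9452685c8b49582525589696a2625a0ab8580b215c1502505218c3206507a13c3084b0ba0e42e038094118198730621c42206c07e0bcb2152280508b315429a4ecaf96b2da5b0ae95c2bc4bc9712a28e5d09b9382965e0b993328c40c781151de4447f9101fc3ac940fb1ce394918f61e838c9091820e360828dc2323808b90603c0800f8210460880d81d0380340201a02001c0b80a0020500a80f01006006005024024010ae1383005889f1862ac4c8bd10820c3f88d1182203d87a0ec3504a0a71ae25c550d1122290628b31403085809d17e2b44d0a9130358530951a628c490d019a2f0438ba116338478cc1763285c87e16e208658861922e0638b60ea2d03c8c80fa3185a95b2b4564b796e2e04ac9812c26c5d4a41792984e8a21322e2540b113f2ce504aa93d29c580938e81f43e0928e61c23cc9010c21a42c8d11b23837c6d0db228408788ed2264047e8ec21e1802703e09a0e82f8360b6124390450680c8380430820b4370540501a0160660aa19c2b02412c2a06a89314a348480a219e2384488a10a2004087c0ee1e0590a11882bc4f0c115826c5f01100c0580700303202c00013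
private theorem e26 : ∀ i : Fin 378, lk t26 i = (wd x26 i : ℕ) := tb_eq (by decide +kernel)
def l26 : List Lv := [⟨350, [], [(1, 1)], [], 72⟩,
  ⟨136, [(237, 1), (238, 1)], [(1, 1)], [], 6⟩,
  ⟨140, [(68, 1), (273, 1), (26, 1)], [(3, 0)], [], 4⟩,
  ⟨124, [(350, 1), (188, 1), (186, 1)], [(1, 1)], [], 2⟩,
  ⟨143, [(350, 1), (174, 1), (175, 1), (171, 1), (192, 1)], [], [], 1⟩,
  ⟨216, [(255, 1), (237, 1), (20, 1), (273, 1), (174, 1)], [], [], 1⟩,
  ⟨272, [(350, 1), (238, 1), (124, 1), (188, 1), (14, 1)], [], [], 1⟩,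
  ⟨290, [(350, 1), (136, 1), (255, 0)], [(3, 1)], [], 1⟩]
private theorem _root_.Cfsg.Agent.KO0b611ff.e0.{ku, kv} {α : Type kv} {M : List α → Sort ku} (φ : ∀ l, M l) {z : M List.nil} {s : ∀ a l, M l → M (List.cons a l)} (h0 : φ List.nil = z) (hs : ∀ a l, φ (List.cons a l) = s a l (φ l)) (l : List α) : φ l = @List.rec α M z s l := List.rec h0 (fun a l ih => (hs a l).trans (congrArg (s a l) ih)) l
private noncomputable def _root_.Cfsg.Agent.KO0b611ff.k1.{ku0} : type_of% @List.all.{ku0} := @(fun x0 x1 x2 => @List.rec.{(ku0+1), ku0} @x0 @(fun x3 => (@x0 → @Bool) → @Bool) @(fun x3 => @Bool.true) @(fun x3 x4 x5 x6 => @Bool.rec.{1} @(fun x7 => @Bool) @Bool.false (@x5 @x6) (@x6 @x3)) @x1 @x2)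
private theorem _root_.Cfsg.Agent.KO0b611ff.e1.{ku0} : @List.all.{ku0} = @_root_.Cfsg.Agent.KO0b611ff.k1.{ku0} := by delta _root_.Cfsg.Agent.KO0b611ff.k1; funext a0 a1 a2; refine (congrFun (_root_.Cfsg.Agent.KO0b611ff.e0 (fun a1 a2 => @List.all.{ku0} a0 a1 a2) ?_ (fun c0 c1 => ?_) a1) a2 :) <;> (rfl')
private noncomputable def _root_.Cfsg.Agent.KO0b611ff.k2.{ku0} : type_of% @List.any.{ku0} := @(fun x0 x1 x2 => @List.rec.{(ku0+1), ku0} @x0 @(fun x3 => (@x0 → @Bool) → @Bool) @(fun x3 => @Bool.false) @(fun x3 x4 x5 x6 => @Bool.rec.{1} @(fun x7 => @Bool) (@x5 @x6) @Bool.true (@x6 @x3)) @x1 @x2)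
private theorem _root_.Cfsg.Agent.KO0b611ff.e2.{ku0} : @List.any.{ku0} = @_root_.Cfsg.Agent.KO0b611ff.k2.{ku0} := by delta _root_.Cfsg.Agent.KO0b611ff.k2; funext a0 a1 a2; refine (congrFun (_root_.Cfsg.Agent.KO0b611ff.e0 (fun a1 a2 => @List.any.{ku0} a0 a1 a2) ?_ (fun c0 c1 => ?_) a1) a2 :) <;> (rfl')
private noncomputable def _root_.Cfsg.Agent.KO0b611ff.k3.{ku0} : type_of% @List.append.{ku0} := @(fun x0 x1 x2 => @List.rec.{(ku0+1), ku0} @x0 @(fun x3 => (@List.{ku0} @x0) → @List.{ku0} @x0) @(fun x3 => @x3) @(fun x3 x4 x5 x6 => @x3 :: (@x5 @x6)) @x1 @x2)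
private theorem _root_.Cfsg.Agent.KO0b611ff.e3.{ku0} : @List.append.{ku0} = @_root_.Cfsg.Agent.KO0b611ff.k3.{ku0} := by delta _root_.Cfsg.Agent.KO0b611ff.k3; funext a0 a1 a2; refine (congrFun (_root_.Cfsg.Agent.KO0b611ff.e0 (fun a1 a2 => @List.append.{ku0} a0 a1 a2) ?_ (fun c0 c1 => ?_) a1) a2 :) <;> (rfl')
private noncomputable def _root_.Cfsg.Agent.KO0b611ff.k4.{ku0, ku1} : type_of% @List.map.{ku0, ku1} := @(fun x0 x1 x2 x3 => @List.rec.{(ku1+1), ku0} @x0 @(fun x4 => @List.{ku1} @x1) [] @(fun x4 x5 x6 => (@x2 @x4) :: @x6) @x3)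
private theorem _root_.Cfsg.Agent.KO0b611ff.e4.{ku0, ku1} : @List.map.{ku0, ku1} = @_root_.Cfsg.Agent.KO0b611ff.k4.{ku0, ku1} := by delta _root_.Cfsg.Agent.KO0b611ff.k4; funext a0 a1 a2 a3; refine (_root_.Cfsg.Agent.KO0b611ff.e0 (fun a3 => @List.map.{ku0, ku1} a0 a1 a2 a3) ?_ (fun c0 c1 => ?_) a3 :) <;> (rfl')
private theorem _root_.Cfsg.Agent.KO0b611ff.e5.{ku} {M : Nat → Sort ku} (φ : ∀ n, M n) {z : M Nat.zero} {s : ∀ n, M n → M (Nat.succ n)} (h0 : φ Nat.zero = z) (hs : ∀ n, φ (Nat.succ n) = s n (φ n)) (n : Nat) : φ n = @Nat.rec M z s n := Nat.rec h0 (fun n ih => (hs n).trans (congrArg (s n) ih)) n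
private noncomputable def _root_.Cfsg.Agent.KO0b611ff.k6 : type_of% @List.range.loop := @(fun x0 x1 => @Nat.rec.{1} @(fun x2 => (@List.{0} ℕ) → @List.{0} ℕ) @(fun x2 => @x2) @(fun x2 x3 x4 => @x3 (@x2 :: @x4)) @x0 @x1)
private theorem _root_.Cfsg.Agent.KO0b611ff.e6 : @List.range.loop = @_root_.Cfsg.Agent.KO0b611ff.k6 := by delta _root_.Cfsg.Agent.KO0b611ff.k6; funext a0 a1; refine (congrFun (_root_.Cfsg.Agent.KO0b611ff.e5 (fun a0 a1 => @List.range.loop a0 a1) ?_ (fun c0 => ?_) a0) a1 :) <;> (rfl')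
private noncomputable def _root_.Cfsg.Agent.KO0b611ff.k7 : (by first | exact type_of% @Cfsg.Agent.H235.Ore.Eng.nx | exact Unit : Sort _) := by first | (refine @Subtype.val _ (fun g => @Cfsg.Agent.H235.Ore.Eng.nx = @g) (@Subtype.mk _ _ (@(fun x0 x1 x2 x3 => @Cfsg.Agent.KO0b611ff.k3.{0} _ (@Cfsg.Agent.KO0b611ff.k4.{0, 0} _ _ @(fun x4 => @x0 @x4 @x3) (@Cfsg.Agent.KO0b611ff.k6 @x1 [])) @x2)) ?_); rewrite [← Cfsg.Agent.KO0b611ff.e6, ← Cfsg.Agent.KO0b611ff.e4.{0, 0}, ← Cfsg.Agent.KO0b611ff.e3.{0}]; rfl') | exact @Cfsg.Agent.H235.Ore.Eng.nx | exact ()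
private theorem _root_.Cfsg.Agent.KO0b611ff.e7 : (by first | exact @Cfsg.Agent.H235.Ore.Eng.nx = @_root_.Cfsg.Agent.KO0b611ff.k7 | exact True : Prop) := by first | (delta _root_.Cfsg.Agent.KO0b611ff.k7; exact @Subtype.property _ (fun g => @Cfsg.Agent.H235.Ore.Eng.nx = @g) _) | rfl | trivial
private noncomputable def _root_.Cfsg.Agent.KO0b611ff.k8 : (by first | exact type_of% @Cfsg.Agent.H235.Ore.Eng.cnt | exact Unit : Sort _) := by first | (refine @Subtype.val _ (fun g => @Cfsg.Agent.H235.Ore.Eng.cnt = @g) (@Subtype.mk _ _ (@(fun x0 x1 => @Nat.rec.{1} @(fun x2 => ℕ) (nat_lit 0) @(fun x2 x3 => @Bool.rec.{1} @(fun x4 => ℕ) @x3 (@Nat.succ @x3) (@x1 @x2)) @x0)) ?_); rfl') | exact @Cfsg.Agent.H235.Ore.Eng.cnt | exact ()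
private theorem _root_.Cfsg.Agent.KO0b611ff.e8 : (by first | exact @Cfsg.Agent.H235.Ore.Eng.cnt = @_root_.Cfsg.Agent.KO0b611ff.k8 | exact True : Prop) := by first | (delta _root_.Cfsg.Agent.KO0b611ff.k8; exact @Subtype.property _ (fun g => @Cfsg.Agent.H235.Ore.Eng.cnt = @g) _) | rfl | trivial
private noncomputable def _root_.Cfsg.Agent.KO0b611ff.k9.{ku0, ku1} : type_of% @List.foldr.{ku0, ku1} := @(fun x0 x1 x2 x3 x4 => @List.rec.{(ku1+1), ku0} @x0 @(fun x5 => @x1) @x3 @(fun x5 x6 x7 => @x2 @x5 @x7) @x4)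
private theorem _root_.Cfsg.Agent.KO0b611ff.e9.{ku0, ku1} : @List.foldr.{ku0, ku1} = @_root_.Cfsg.Agent.KO0b611ff.k9.{ku0, ku1} := by delta _root_.Cfsg.Agent.KO0b611ff.k9; funext a0 a1 a2 a3 a4; refine (_root_.Cfsg.Agent.KO0b611ff.e0 (fun a4 => @List.foldr.{ku0, ku1} a0 a1 a2 a3 a4) ?_ (fun c0 c1 => ?_) a4 :) <;> (rfl')
private noncomputable def _root_.Cfsg.Agent.KO0b611ff.k10 : (by first | exact type_of% @Cfsg.Agent.H235.Ore.Eng.cz | exact Unit : Sort _) := by first | (refine @Subtype.val _ (fun g => @Cfsg.Agent.H235.Ore.Eng.cz = @g) (@Subtype.mk _ _ (@(fun x0 x1 x2 => @Cfsg.Agent.KO0b611ff.k9.{0, 0} _ _ @(fun x3 x4 => @Bool.rec.{1} @(fun x5 => ℕ) @x4 (@Nat.succ @x4) (@Nat.beq (@x0 @x1 @x3) (nat_lit 1))) (nat_lit 0) @x2)) ?_); rewrite [← Cfsg.Agent.KO0b611ff.e9.{0, 0}]; rfl') | exact @Cfsg.Agent.H235.Ore.Eng.cz | exact ()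
private theorem _root_.Cfsg.Agent.KO0b611ff.e10 : (by first | exact @Cfsg.Agent.H235.Ore.Eng.cz = @_root_.Cfsg.Agent.KO0b611ff.k10 | exact True : Prop) := by first | (delta _root_.Cfsg.Agent.KO0b611ff.k10; exact @Subtype.property _ (fun g => @Cfsg.Agent.H235.Ore.Eng.cz = @g) _) | rfl | trivial
private noncomputable def _root_.Cfsg.Agent.KO0b611ff.k11 : (by first | exact type_of% @Cfsg.Agent.H235.Ore.Eng.tt | exact Unit : Sort _) := by first | (refine @Subtype.val _ (fun g => @Cfsg.Agent.H235.Ore.Eng.tt = @g) (@Subtype.mk _ _ (@(fun x0 x1 x2 x3 x4 => @Bool.rec.{1} @(fun x5 => @Bool) @Bool.false (@Cfsg.Agent.KO0b611ff.k1.{0} _ @x3 @(fun x5 => @Nat.beq (@x0 @x4 (@x1 (@Prod.fst.{0, 0} _ _ @x5) @x4)) (@Prod.snd.{0, 0} _ _ @x5))) (@Cfsg.Agent.KO0b611ff.k1.{0} _ @x2 @(fun x5 => @Nat.beq (@x0 (@Prod.fst.{0, 0} _ _ @x5) @x4) (@Prod.snd.{0, 0} _ _ @x5))))) ?_); rewrite [← Cfsg.Agent.KO0b611ff.e1.{0}]; rfl') | exact @Cfsg.Agent.H235.Ore.Eng.tt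 | exact ()
private theorem _root_.Cfsg.Agent.KO0b611ff.e11 : (by first | exact @Cfsg.Agent.H235.Ore.Eng.tt = @_root_.Cfsg.Agent.KO0b611ff.k11 | exact True : Prop) := by first | (delta _root_.Cfsg.Agent.KO0b611ff.k11; exact @Subtype.property _ (fun g => @Cfsg.Agent.H235.Ore.Eng.tt = @g) _) | rfl | trivial
private noncomputable def _root_.Cfsg.Agent.KO0b611ff.k12 : (by first | exact type_of% @Cfsg.Agent.H235.Ore.Eng.cand | exact Unit : Sort _) := by first | (refine @Subtype.val _ (fun g => @Cfsg.Agent.H235.Ore.Eng.cand = @g) (@Subtype.mk _ _ (@(fun x0 x1 x2 x3 => @Bool.rec.{1} @(fun x4 => @Bool) @Bool.false (@Cfsg.Agent.KO0b611ff.k1.{0} _ (@Cfsg.Agent.H235.Ore.Eng.Lv.cs @x2) @(fun x4 => @Nat.beq (@Cfsg.Agent.KO0b611ff.k10 @x0 @x3 (@Cfsg.Agent.H235.Ore.Eng.Ct.Z @x4)) (@Cfsg.Agent.H235.Ore.Eng.Ct.v @x4))) (@Cfsg.Agent.KO0b611ff.k11 @x0 @x1 (@Cfsg.Agent.H235.Ore.Eng.Lv.fs @x2) (@Cfsg.Agent.H235.Ore.Eng.Lv.ks @x2) @x3))) ?_); rewrite [←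 Cfsg.Agent.KO0b611ff.e11, ← Cfsg.Agent.KO0b611ff.e10, ← Cfsg.Agent.KO0b611ff.e1.{0}]; (try delta Cfsg.Agent.H235.Ore.Eng.cand); (try generalize @Cfsg.Agent.H235.Ore.Eng.cz = g0); (try generalize @Cfsg.Agent.H235.Ore.Eng.tt = g1); rfl') | exact @Cfsg.Agent.H235.Ore.Eng.cand | exact ()
private theorem _root_.Cfsg.Agent.KO0b611ff.e12 : (by first | exact @Cfsg.Agent.H235.Ore.Eng.cand = @_root_.Cfsg.Agent.KO0b611ff.k12 | exact True : Prop) := by first | (delta _root_.Cfsg.Agent.KO0b611ff.k12; exact @Subtype.property _ (fun g => @Cfsg.Agent.H235.Ore.Eng.cand = @g) _) | rfl | trivial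
private noncomputable def _root_.Cfsg.Agent.KO0b611ff.k14 : (by first | exact type_of% @Cfsg.Agent.H235.Ore.Eng.beqL | exact Unit : Sort _) := by first | (refine @Subtype.val _ (fun g => @Cfsg.Agent.H235.Ore.Eng.beqL = @g) (@Subtype.mk _ _ (@(fun (x0 : @List.{0} @Nat) (x1 : @List.{0} @Nat) => @List.rec.{1, 0} @Nat @(fun (x2 : @List.{0} @Nat) => ((@List.{0} @Nat) → @Bool)) @(fun (x2 : @List.{0} @Nat) => @List.rec.{1, 0} @Nat @(fun (x3 : @List.{0} @Nat) => (((@Nat.hasNotBit (nat_lit 1) (@List.ctorIdx.{0} @Nat @x3)) → @Bool) → @Bool)) @(fun (x3 : ((@Nat.hasNotBit (nat_lit 1) (@List.ctorIdx.{0} @Nat (@List.nil.{0} @Nat))) → @Bool)) => @Bool.true) @(fun (x3 : @Nat) (x4 : @List.{0} @Nat) (x5 : (((@Nat.hasNotBit (nat_lit 1) (@List.ctorIdx.{0} @Nat @x4)) → @Bool) → @Bool)) (x6 : ((@Nat.hasNotBit (nat_lit 1) (@List.ctorIdx.{0} @Nat (@List.cons.{0} @Nat @x3 @x4))) → @Bool)) => @x6 (@Nat.ne_of_beq_eq_false (@Nat.land (@OfNat.ofNat.{0} @Nat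 (nat_lit 1) (@instOfNatNat (nat_lit 1))) (@Nat.shiftRight (nat_lit 1) (nat_lit 1))) (@OfNat.ofNat.{0} @Nat (nat_lit 1) (@instOfNatNat (nat_lit 1))) (@Eq.refl.{1} @Bool @Bool.false))) @x2 @(fun (x3 : @Nat.hasNotBit (nat_lit 1) (@List.ctorIdx.{0} @Nat @x2)) => @Bool.false)) @(fun (x2 : @Nat) (x3 : @List.{0} @Nat) (x4 : ((@List.{0} @Nat) → @Bool)) (x5 : @List.{0} @Nat) => @List.rec.{1, 0} @Nat @(fun (x6 : @List.{0} @Nat) => (((@Nat.hasNotBit (nat_lit 2) (@List.ctorIdx.{0} @Nat @x6)) → @Bool) → @Bool)) @(fun (x6 : ((@Nat.hasNotBit (nat_lit 2) (@List.ctorIdx.{0} @Nat (@List.nil.{0} @Nat))) → @Bool)) => @x6 (@Nat.ne_of_beq_eq_false (@Nat.land (@OfNat.ofNat.{0} @Nat (nat_lit 1) (@instOfNatNat (nat_lit 1))) (@Nat.shiftRight (nat_lit 2) (nat_lit 0))) (@OfNat.ofNat.{0} @Nat (nat_lit 1) (@instOfNatNat (nat_lit 1))) (@Eq.refl.{1} @Bool @Bool.false))) @(fun (x6 : @Nat) (x7 : @List.{0} @Nat) (x8 : (((@Nat.hasNotBit (nat_lit 2) (@List.ctorIdx.{0}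 @Nat @x7)) → @Bool) → @Bool)) (x9 : ((@Nat.hasNotBit (nat_lit 2) (@List.ctorIdx.{0} @Nat (@List.cons.{0} @Nat @x6 @x7))) → @Bool)) => @Bool.rec.{1} @(fun (x10 : @Bool) => @Bool) @Bool.false (@x4 @x7) (@Nat.beq @x2 @x6)) @x5 @(fun (x6 : @Nat.hasNotBit (nat_lit 2) (@List.ctorIdx.{0} @Nat @x5)) => @Bool.false)) @x0 @x1)) ?_); funext a0 a1; refine (congrFun (_root_.Cfsg.Agent.KO0b611ff.e0 (fun a0 a1 => @Cfsg.Agent.H235.Ore.Eng.beqL a0 a1) ?_ (fun c0 c1 => ?_) a0) a1 :) <;> [(funext b0; (cases b0 with | @nil  => (rfl') | @cons b0_0 b0_1 => (rfl'))); (funext b0; (cases b0 with | @nil  => (rfl') | @cons b0_0 b0_1 => (rfl')))]) | exact @Cfsg.Agent.H235.Ore.Eng.beqL | exact ()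
private theorem _root_.Cfsg.Agent.KO0b611ff.e14 : (by first | exact @Cfsg.Agent.H235.Ore.Eng.beqL = @_root_.Cfsg.Agent.KO0b611ff.k14 | exact True : Prop) := by first | (delta _root_.Cfsg.Agent.KO0b611ff.k14; exact @Subtype.property _ (fun g => @Cfsg.Agent.H235.Ore.Eng.beqL = @g) _) | rfl | trivial
private noncomputable def _root_.Cfsg.Agent.KO0b611ff.k15 : (by first | exact type_of% @Cfsg.Agent.H235.Ore.Eng.filt | exact Unit : Sort _) := by first | (refine @Subtype.val _ (fun g => @Cfsg.Agent.H235.Ore.Eng.filt = @g) (@Subtype.mk _ _ (@(fun x0 x1 => @Nat.rec.{1} @(fun x2 => @List.{0} ℕ) [] @(fun x2 x3 => @Bool.rec.{1} @(fun x4 => @List.{0} ℕ) @x3 (@x2 :: @x3) (@x1 @x2)) @x0)) ?_); rfl') | exact @Cfsg.Agent.H235.Ore.Eng.filt | exact ()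
private theorem _root_.Cfsg.Agent.KO0b611ff.e15 : (by first | exact @Cfsg.Agent.H235.Ore.Eng.filt = @_root_.Cfsg.Agent.KO0b611ff.k15 | exact True : Prop) := by first | (delta _root_.Cfsg.Agent.KO0b611ff.k15; exact @Subtype.property _ (fun g => @Cfsg.Agent.H235.Ore.Eng.filt = @g) _) | rfl | trivial
private noncomputable def _root_.Cfsg.Agent.KO0b611ff.k16 : (by first | exact type_of% @Cfsg.Agent.H235.Ore.Eng.vOk | exact Unit : Sort _) := by first | (refine @Subtype.val _ (fun g => @Cfsg.Agent.H235.Ore.Eng.vOk = @g) (@Subtype.mk _ _ (@(fun x0 x1 x2 x3 x4 => @Bool.rec.{1} @(fun x5 => @Bool) @Bool.false (@Bool.rec.{1} @(fun x5 => @Bool) @Bool.false (@Bool.rec.{1} @(fun x5 => @Bool) @Bool.false (@Cfsg.Agent.KO0b611ff.k12 @x1 @x2 @x4 (@Cfsg.Agent.H235.Ore.Eng.Lv.p @x4)) (@Cfsg.Agent.KO0b611ff.k1.{0} _ (@Cfsg.Agent.H235.Ore.Eng.Lv.cs @x4) @(fun x5 => @Bool.rec.{1} @(fun x6 => @Bool) @Bool.false (@Cfsg.Agent.KO0b611ff.k14 (@Cfsg.Agent.KO0b611ff.k15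 @x0 (@Cfsg.Agent.KO0b611ff.k11 @x1 @x2 (@Cfsg.Agent.H235.Ore.Eng.Ct.fs @x5) (@Cfsg.Agent.H235.Ore.Eng.Ct.ks @x5))) (@Cfsg.Agent.H235.Ore.Eng.Ct.Z @x5)) (@Cfsg.Agent.KO0b611ff.k1.{0} _ (@Cfsg.Agent.H235.Ore.Eng.Ct.fs @x5) @(fun x6 => @Cfsg.Agent.KO0b611ff.k2.{0} _ @x3 @(fun x7 => @Nat.beq (@Prod.fst.{0, 0} _ _ @x6) @x7)))))) (@Cfsg.Agent.KO0b611ff.k1.{0} _ (@Cfsg.Agent.H235.Ore.Eng.Lv.fs @x4) @(fun x5 => @Cfsg.Agent.KO0b611ff.k2.{0} _ @x3 @(fun x6 => @Nat.beq (@Prod.fst.{0, 0} _ _ @x5) @x6)))) (@Nat.ble (@Nat.succ (@Cfsg.Agent.H235.Ore.Eng.Lv.p @x4)) @x0))) ?_); rewrite [← Cfsg.Agent.KO0b611ff.e2.{0}, ← Cfsg.Agent.KO0b611ff.e11, ← Cfsg.Agent.KO0b611ff.e15, ← Cfsg.Agent.KO0b611ff.e14, ← Cfsg.Agent.KO0b611ff.e1.{0}, ← Cfsg.Agent.KO0b611ff.e12]; (try delta Cfsg.Agent.H235.Ore.Eng.vOk Cfsg.Agent.H235.Ore.Eng.elemN); (try generalize @Cfsg.Agent.H235.Ore.Eng.cand = g0); (try generalize @Cfsg.Agent.H235.Ore.Eng.beqL = g1); (try generalize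 @Cfsg.Agent.H235.Ore.Eng.filt = g2); (try generalize @Cfsg.Agent.H235.Ore.Eng.tt = g3); rfl') | exact @Cfsg.Agent.H235.Ore.Eng.vOk | exact ()
private theorem _root_.Cfsg.Agent.KO0b611ff.e16 : (by first | exact @Cfsg.Agent.H235.Ore.Eng.vOk = @_root_.Cfsg.Agent.KO0b611ff.k16 | exact True : Prop) := by first | (delta _root_.Cfsg.Agent.KO0b611ff.k16; exact @Subtype.property _ (fun g => @Cfsg.Agent.H235.Ore.Eng.vOk = @g) _) | rfl | trivial
private noncomputable def _root_.Cfsg.Agent.KO0b611ff.k17 : (by first | exact type_of% @Cfsg.Agent.H235.Ore.Eng.run | exact Unit : Sort _) := by first | (refine @Subtype.val _ (fun g => @Cfsg.Agent.H235.Ore.Eng.run = @g) (@Subtype.mk _ _ (@(fun x0 x1 x2 x3 x4 x5 x6 => @List.rec.{1, 0} @Cfsg.Agent.H235.Ore.Eng.Lv @(fun x7 => (@List.{0} ℕ) → @Bool) @(fun x7 => @Cfsg.Agent.KO0b611ff.k1.{0} _ @x4 @(fun x8 => @Cfsg.Agent.KO0b611ff.k2.{0} _ @x7 @(fun x9 => @Nat.beq @x8 @x9))) @(fun x7 x8 x9 x10 => @Bool.rec.{1}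 @(fun x11 => @Bool) @Bool.false (@x9 (@Cfsg.Agent.KO0b611ff.k7 @x2 @x3 @x10 (@Cfsg.Agent.H235.Ore.Eng.Lv.p @x7))) (@Bool.rec.{1} @(fun x11 => @Bool) @Bool.false (@Nat.beq (@Cfsg.Agent.KO0b611ff.k8 @x0 (@Cfsg.Agent.KO0b611ff.k12 @x1 @x2 @x7)) (@Cfsg.Agent.H235.Ore.Eng.Lv.n @x7)) (@Cfsg.Agent.KO0b611ff.k16 @x0 @x1 @x2 @x10 @x7))) @x5 @x6)) ?_); rewrite [← Cfsg.Agent.KO0b611ff.e16, ← Cfsg.Agent.KO0b611ff.e12, ← Cfsg.Agent.KO0b611ff.e8, ← Cfsg.Agent.KO0b611ff.e7, ← Cfsg.Agent.KO0b611ff.e2.{0}, ← Cfsg.Agent.KO0b611ff.e1.{0}]; funext a0 a1 a2 a3 a4 a5 a6; refine (congrFun (_root_.Cfsg.Agent.KO0b611ff.e0 (fun a5 a6 => @Cfsg.Agent.H235.Ore.Eng.run a0 a1 a2 a3 a4 a5 a6) ?_ (fun c0 c1 => ?_) a5) a6 :) <;> ((try delta Cfsg.Agent.H235.Ore.Eng.run Cfsg.Agent.H235.Ore.Eng.run._f Cfsg.Agent.H235.Ore.Eng.elemN); (try generalize @Cfsg.Agent.H235.Ore.Eng.nx = g0); (try generalize @Cfsg.Agent.H235.Ore.Eng.cnt = g1); (try generalize @Cfsg.Agent.H235.Ore.Eng.cand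 = g2); (try generalize @Cfsg.Agent.H235.Ore.Eng.vOk = g3); rfl')) | exact @Cfsg.Agent.H235.Ore.Eng.run | exact ()
private theorem _root_.Cfsg.Agent.KO0b611ff.e17 : (by first | exact @Cfsg.Agent.H235.Ore.Eng.run = @_root_.Cfsg.Agent.KO0b611ff.k17 | exact True : Prop) := by first | (delta _root_.Cfsg.Agent.KO0b611ff.k17; exact @Subtype.property _ (fun g => @Cfsg.Agent.H235.Ore.Eng.run = @g) _) | rfl | trivial
private noncomputable def _root_.Cfsg.Agent.KO0b611ff.k18 : (by first | exact type_of% @Cfsg.Agent.H235.QS.O7M.R | exact Unit : Sort _) := by first | (refine @Subtype.val _ (fun g => @Cfsg.Agent.H235.QS.O7M.R = @g) (@Subtype.mk _ _ (@(fun x0 x1 => @Bool.rec.{1} @(fun x2 => ℕ) (@Nat.land (@Nat.shiftRight @Cfsg.Agent.H235.QS.O7M.adjM (@Nat.add (@Nat.mul (nat_lit 378) @x0) @x1)) (nat_lit 1)) (nat_lit 2) (@Nat.beq @x0 @x1))) ?_); (try delta Cfsg.Agent.H235.QS.O7M.R Cfsg.Agent.SporadicA.PermTab.bitM); (try generalize @Cfsg.Agent.H235.QS.O7M.adjM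 = g0); rfl') | exact @Cfsg.Agent.H235.QS.O7M.R | exact ()
private theorem _root_.Cfsg.Agent.KO0b611ff.e18 : (by first | exact @Cfsg.Agent.H235.QS.O7M.R = @_root_.Cfsg.Agent.KO0b611ff.k18 | exact True : Prop) := by first | (delta _root_.Cfsg.Agent.KO0b611ff.k18; exact @Subtype.property _ (fun g => @Cfsg.Agent.H235.QS.O7M.R = @g) _) | rfl | trivial
private noncomputable def _root_.Cfsg.Agent.KO0b611ff.k19 : (by first | exact type_of% @Cfsg.Agent.H235.QS.O7C.pt | exact Unit : Sort _) := by first | (refine @Subtype.val _ (fun g => @Cfsg.Agent.H235.QS.O7C.pt = @g) (@Subtype.mk _ _ (@(fun x0 x1 x2 => @Nat.rec.{1} @(fun x3 => ℕ) @x2 @(fun x3 x4 => @Nat.land (@Nat.shiftRight @x0 (@Nat.mul (nat_lit 11) @x4)) (nat_lit 2047)) @x1)) ?_); rfl') | exact @Cfsg.Agent.H235.QS.O7C.pt | exact ()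
private theorem _root_.Cfsg.Agent.KO0b611ff.e19 : (by first | exact @Cfsg.Agent.H235.QS.O7C.pt = @_root_.Cfsg.Agent.KO0b611ff.k19 | exact True : Prop) := by first | (delta _root_.Cfsg.Agent.KO0b611ff.k19; exact @Subtype.property _ (fun g => @Cfsg.Agent.H235.QS.O7C.pt = @g) _) | rfl | trivial

theorem b26 : Nat.card ↥(centralizer ({w2 x26} : Set ↥M2)) ≤ 3456 :=
  (bndT e26 (l := l26) (m := 6) (by (first | (rewrite [Cfsg.Agent.KO0b611ff.e17, Cfsg.Agent.KO0b611ff.e18, Cfsg.Agent.KO0b611ff.e19]; decide +kernel) | decide +kernel))).trans (by decide)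
theorem o26 : orderOf (wd x26) = 6 := orderOf_eq (pv_pt e26) (ps := [2, 3]) (by norm_num) (by norm_num)
  (by decide +kernel) (by norm_num)
theorem f26 : fixN (wd x26) = 12 := by
  rw [← pow_one (wd x26), fixN_pow (pv_pt e26)]
  decide +kernel
theorem g26 : fixN (wd x26 ^ 2) = 36 := by
  rw [fixN_pow (pv_pt e26)]
  decide +kernel
theorem a26 : adjN R (wd x26) = 72 := by
  rw [adjN_val (f := lk t26) e26]
  decide +kernel

def x27 : List ℕ := [7, 4, 6, 0, 1]
private def t27 : ℕ := nat_lit 0x7d8542e4164bc8f52e83e0290442045a07f16f08e5b42090009a430b004f20a5982410a2c6444ad86d0e2450ab95c0e4438a911a0b4174a711e232180a992328e190939440d0488a50691b837c6c83806c0dc9d93d27838c708e226e4d89a8250500ac970311e04ac190f12620c07914b0d6480941450ce18c92148230188aa94d23a17c2e151238574880732b0458379592261b8b210909241c281670965848596b080404230fc2e040cb48431ee144bb0f40b05e07d0562e24bc9492c1de3b87683306a0d015027048394720e62704e49d03d2843601e1431bc0f8a08db150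080688a204635c5281d1a82c86400c158338078af1960245e81717630c0d0b51800505c0c116e048620b40302f85d0150162c06481115a330070b318c070698a70443585201f1a02a83b87a0fa200418861122304789613025c49895128240490911362380309911601c4d088010278428001382080089d0fe0085087c00627c3c8041401d8029122b41b03a10f2bc558381152924943286a2984849306628c5408d85b2a845c3094f23e1787c8552e614cba8f62ee3cc2b84c21a57c8416209459427106208108b50ff07e5b07e8452dc3746d0e00760e81c93e27e500750ec1d64b49812a05c0b4178262683a4161321d00a4998e7152078678a6036348518211aa2f05f816172308098b618a064068c7162028650ae0203345588d10e2283d8750f02103f081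
private theorem e27 : ∀ i : Fin 378, lk t27 i = (wd x27 i : ℕ) := tb_eq (by decide +kernel)
def l27 : List Lv := [⟨133, [], [(1, 2)], [], 18⟩,
  ⟨319, [(133, 1)], [(1, 1), (2, 0)], [], 12⟩,
  ⟨294, [(133, 1), (55, 1), (318, 1)], [(3, 1)], [], 9⟩,
  ⟨134, [(324, 1), (328, 1), (319, 0), (55, 0), (133, 0)], [(1, 1)], [], 4⟩,
  ⟨143, [(55, 1), (156, 1), (294, 1), (101, 0)], [(1, 1)], [], 1⟩,
  ⟨216, [(133, 1), (319, 1), (318, 1), (101, 1), (134, 1)], [], [], 1⟩,
  ⟨26, [(133, 1), (55, 1), (324, 1), (131, 1), (318, 0)], [], [], 1⟩,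
  ⟨272, [(319, 1), (55, 1), (153, 1), (101, 1), (193, 1)], [], [], 1⟩,
  ⟨290, [(133, 1), (318, 1), (328, 1), (216, 0), (294, 0)], [], [], 1⟩]
theorem b27 : Nat.card ↥(centralizer ({w2 x27} : Set ↥M2)) ≤ 7776 :=
  (bndT e27 (l := l27) (m := 6) (by (first | (rewrite [Cfsg.Agent.KO0b611ff.e17, Cfsg.Agent.KO0b611ff.e18, Cfsg.Agent.KO0b611ff.e19]; decide +kernel) | decide +kernel))).trans (by decide)
theorem o27 : orderOf (wd x27) = 6 := orderOf_eq (pv_pt e27) (ps := [2, 3]) (by norm_num) (by norm_num)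
  (by decide +kernel) (by norm_num)
theorem f27 : fixN (wd x27) = 18 := by
  rw [← pow_one (wd x27), fixN_pow (pv_pt e27)]
  decide +kernel
theorem g27 : fixN (wd x27 ^ 2) = 36 := by
  rw [fixN_pow (pv_pt e27)]
  decide +kernel
theorem a27 : adjN R (wd x27) = 90 := by
  rw [adjN_val (f := lk t27) e27]
  decide +kernel

def x28 : List ℕ := [0, 2, 3, 4, 1, 7, 6, 0, 2, 3, 4, 1, 7, 6, 0, 2, 3, 4, 1, 7, 6]
private def t28 : ℕ := nat_lit 0x290872182f49203a1d61cc5297023c3307289326e2aca78fd2bc2243213d14e130bb0bf068050370482541e0701722403449c15401631c8d02b202248210361ac594ab0860d03d00c8ef05e4a0b30f50de4f85a8840460284b8b30865407082a2325b06f81f2105683d0690ac2e49488f21a144878d306a51c9d81623e334b705d08c0444a8e426c574450631f005c7503b1a8580a50aa1f41dc6e12f224588610962060fc8d82718c180570e22f230c171580fc19ca00a209e4541c178288138768830442d82d139208244068b022e5ac129590f61ac2a0b825a3681010a21614c459612ea020258f6136338b791d1583f8a680f08e17cae08e0ca1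c84d14921c01c929411e42806c12e0f80f0190041ce2c82e0261904709900c2a2450011262ae2083307113c5186a8c400028c0c09c0422d03f8411d0554801340c45b4149181f2048789431521243689f2985cc6083107a33cb21110064842a8b726236c0f1092b61d8350810b2414a281a27e458168d70fa364961221a05c43604a026090b48ca1fe38c071530b6260898c02c61d4980dd2963ec540701483b8401060b049c1b8c52a41844816a0503249d0401625207604d2205d01c88d1760749195f0661d09e0f71180705e14e0bc250730fc0201149a8ad0600f80292b1bc1e4781421421407989d20e15c429672ee0042213315e5a0160cb2043a4048d217c0185301513206c5d088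
private noncomputable def _root_.Cfsg.Agent.KO0b611ff.k20 : (by first | exact type_of% @Cfsg.Agent.SporadicA.PermTab.allB | exact Unit : Sort _) := by first | (refine @Subtype.val _ (fun g => @Cfsg.Agent.SporadicA.PermTab.allB = @g) (@Subtype.mk _ _ (@(fun x0 x1 => @Nat.rec.{1} @(fun x2 => @Bool) @Bool.true @(fun x2 x3 => @Bool.rec.{1} @(fun x4 => @Bool) @Bool.false @x3 (@x0 @x2)) @x1)) ?_); rfl') | exact @Cfsg.Agent.SporadicA.PermTab.allB | exact ()
private theorem _root_.Cfsg.Agent.KO0b611ff.e20 : (by first | exact @Cfsg.Agent.SporadicA.PermTab.allB = @_root_.Cfsg.Agent.KO0b611ff.k20 | exact True : Prop) := by first | (delta _root_.Cfsg.Agent.KO0b611ff.k20; exact @Subtype.property _ (fun g => @Cfsg.Agent.SporadicA.PermTab.allB = @g) _) | rfl | trivial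
private noncomputable def _root_.Cfsg.Agent.KO0b611ff.k21 : (by first | exact type_of% @Cfsg.Agent.SporadicA.PermTab.lk | exact Unit : Sort _) := by first | (refine @Subtype.val _ (fun g => @Cfsg.Agent.SporadicA.PermTab.lk = @g) (@Subtype.mk _ _ (@(fun x0 x1 => @Nat.land (@Nat.shiftRight @x0 (@Nat.mul (nat_lit 11) @x1)) (nat_lit 2047))) ?_); rfl') | exact @Cfsg.Agent.SporadicA.PermTab.lk | exact ()
private theorem _root_.Cfsg.Agent.KO0b611ff.e21 : (by first | exact @Cfsg.Agent.SporadicA.PermTab.lk = @_root_.Cfsg.Agent.KO0b611ff.k21 | exact True : Prop) := by first | (delta _root_.Cfsg.Agent.KO0b611ff.k21; exact @Subtype.property _ (fun g => @Cfsg.Agent.SporadicA.PermTab.lk = @g) _) | rfl | trivial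
private noncomputable def _root_.Cfsg.Agent.KO0b611ff.k23.{ku0} : type_of% @List.get?Internal.{ku0} := @(fun x0 x1 x2 => @List.rec.{(ku0+1), ku0} @x0 @(fun x3 => ℕ → @Option.{ku0} @x0) @(fun x3 => @Option.none.{ku0} _) @(fun x3 x4 x5 x6 => @Nat.rec.{(ku0+1)} @(fun x7 => @Option.{ku0} @x0) (@Option.some.{ku0} _ @x3) @(fun x7 x8 => @x5 @x7) @x6) @x1 @x2)
private theorem _root_.Cfsg.Agent.KO0b611ff.e23.{ku0} : @List.get?Internal.{ku0} = @_root_.Cfsg.Agent.KO0b611ff.k23.{ku0} := by delta _root_.Cfsg.Agent.KO0b611ff.k23; funext a0 a1 a2; refine (congrFun (_root_.Cfsg.Agent.KO0b611ff.e0 (fun a1 a2 => @List.get?Internal.{ku0} a0 a1 a2) ?_ (fun c0 c1 => ?_) a1) a2 :) <;> [(funext b0; (rfl')); (funext b0; (cases b0 with | @zero  => (rfl') | @succ b0_0 => (rfl')))]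
private noncomputable def _root_.Cfsg.Agent.KO0b611ff.k24 : (by first | exact type_of% @Cfsg.Agent.H235.QS.O7M.act | exact Unit : Sort _) := by first | (refine @Subtype.val _ (fun g => @Cfsg.Agent.H235.QS.O7M.act = @g) (@Subtype.mk _ _ (@(fun x0 x1 => @Cfsg.Agent.KO0b611ff.k9.{0, 0} _ _ @(fun x2 x3 => @Cfsg.Agent.KO0b611ff.k21 (@Option.rec.{1, 0} ℕ @(fun x4 => ℕ) (nat_lit 0) @(fun x4 => @x4) (@Cfsg.Agent.KO0b611ff.k23.{0} _ @Cfsg.Agent.H235.QS.O7M.tbl (@Nat.mod @x2 (nat_lit 8)))) @x3) @x1 @x0)) ?_); rewrite [← Cfsg.Agent.KO0b611ff.e23.{0}, ← Cfsg.Agent.KO0b611ff.e21, ← Cfsg.Agent.KO0b611ff.e9.{0, 0}]; (try delta Cfsg.Agent.H235.QS.O7M.act Cfsg.Agent.H235.QS.O7M.tb); (try generalize @Cfsg.Agent.SporadicA.PermTab.lk = g0); (try generalize @Cfsg.Agent.H235.QS.O7M.tbl = g1); rfl') | exact @Cfsg.Agent.H235.QS.O7M.act | exact ()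
private theorem _root_.Cfsg.Agent.KO0b611ff.e24 : (by first | exact @Cfsg.Agent.H235.QS.O7M.act = @_root_.Cfsg.Agent.KO0b611ff.k24 | exact True : Prop) := by first | (delta _root_.Cfsg.Agent.KO0b611ff.k24; exact @Subtype.property _ (fun g => @Cfsg.Agent.H235.QS.O7M.act = @g) _) | rfl | trivial

private theorem e28 : ∀ i : Fin 378, lk t28 i = (wd x28 i : ℕ) := tb_eq (by (first | (rewrite [Cfsg.Agent.KO0b611ff.e20, Cfsg.Agent.KO0b611ff.e21, Cfsg.Agent.KO0b611ff.e24]; decide +kernel) | decide +kernel))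
def l28 : List Lv := [⟨335, [], [(1, 1), (2, 0)], [], 216⟩,
  ⟨37, [(335, 1), (361, 1)], [(1, 0)], [], 3⟩,
  ⟨86, [(70, 1), (283, 1), (225, 1)], [(1, 1)], [], 9⟩,
  ⟨28, [(283, 1), (257, 1), (106, 1), (37, 0), (225, 1)], [], [], 4⟩,
  ⟨104, [(32, 1), (46, 1), (37, 1), (361, 0)], [(1, 0)], [], 2⟩,
  ⟨140, [(335, 1), (225, 1), (104, 1), (86, 0)], [(1, 0)], [], 1⟩,
  ⟨216, [(283, 1), (257, 1), (46, 1), (327, 1), (299, 0)], [], [], 1⟩,
  ⟨26, [(361, 1), (86, 1), (37, 1)], [(1, 0)], [], 1⟩,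
  ⟨272, [(361, 1), (86, 1), (140, 1)], [(2, 2)], [], 1⟩]
theorem b28 : Nat.card ↥(centralizer ({w2 x28} : Set ↥M2)) ≤ 46656 :=
  (bndT e28 (l := l28) (m := 6) (by (first | (rewrite [Cfsg.Agent.KO0b611ff.e17, Cfsg.Agent.KO0b611ff.e18, Cfsg.Agent.KO0b611ff.e19]; decide +kernel) | decide +kernel))).trans (by decide)
theorem o28 : orderOf (wd x28) = 6 := orderOf_eq (pv_pt e28) (ps := [2, 3]) (by norm_num) (by norm_num)
  (by decide +kernel) (by norm_num)
theorem f28 : fixN (wd x28) = 18 := by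
  rw [← pow_one (wd x28), fixN_pow (pv_pt e28)]
  decide +kernel
theorem g28 : fixN (wd x28 ^ 2) = 54 := by
  rw [fixN_pow (pv_pt e28)]
  decide +kernel
theorem a28 : adjN R (wd x28) = 252 := by
  rw [adjN_val (f := lk t28) e28]
  decide +kernel

def x29 : List ℕ := [6, 7, 3, 4, 2, 5]
private def t29 : ℕ := nat_lit 0x5e96f07643c8f0072c23341a1722500b0b992704e5c4930252cc458619172d431c1e8300085808e83917e3300310e2dc0cc6897904c33cbc02a1a05dc14168190460621672280f0188052203381d15f2e00205f11f06a4806b829242358121221aa0ac631192d24546296507c0c80187329a2283a14e1101c8a788f0a85147381e148258348f32701882200c2ae2d0838a12823c40b8ac11a0585688b02a2ac448201ea3a03514412e1585193916a414ac00d0c21084f9421e41347f0870983f04704b1fa230358a21d21547a09803e5189d04301c1808315616c280a18f021803c7515e0ba26c5d0452783ec33934298160710aa0422406d1300f01f46e12925c1d86f15d08e3b05e01113442c2f13b150164998f9044384a5066124380968750f43649792b0f836c5d85f1d6434230992b80409e94b0464c8548681c63e82b8911645548106f03413c6e92a0f6410589540a01c40c0771be4b0a9903166064270702621e46c1500da20ca906c10a5443707e17202c4e95b07e3b88505c27e1900e05112a3949a9481f0294570121002c00988215e0504215a0b42708480a1da2e02093e14c5247b0941c84dc0e8520c63fc248862021283f9000902048404013c2dc2d8ef2b2024a00f714e51c2986503624c731362365901b8c9184000b691305c4488d0021825b01c1631960b4bb1231a6348ba925248350ba1622d6004888ca06c3008e02f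
private theorem e29 : ∀ i : Fin 378, lk t29 i = (wd x29 i : ℕ) := tb_eq (by (first | (rewrite [Cfsg.Agent.KO0b611ff.e20, Cfsg.Agent.KO0b611ff.e21, Cfsg.Agent.KO0b611ff.e24]; decide +kernel) | decide +kernel))
def l29 : List Lv := [⟨361, [], [(1, 1), (3, 1)], [⟨[], [(1, 0), (2, 0), (3, 0)], [376, 372, 371, 369, 367, 365, 363, 362, 359, 358, 357, 355, 353, 345, 337, 335, 328, 324, 322, 317, 313, 311, 307, 305, 301, 300, 296, 289, 284, 278, 273, 268, 263, 262, 261, 259, 256, 253, 252, 251, 250, 246, 245, 244, 240, 238, 235, 234, 229, 221, 218, 216, 215, 213, 208, 206, 198, 197, 195, 190, 181, 179, 177, 172, 171, 169, 168, 163, 160, 159, 156, 153, 149, 146, 145, 144, 140, 137, 135, 133, 128, 126, 124, 123, 121, 120, 119, 118, 117, 115, 112, 111, 110, 109, 108, 102, 100, 98, 95, 94, 92, 87, 82, 78, 73, 69, 66, 65, 64, 61, 56, 52, 47, 46, 39, 30, 29, 27, 21, 20, 9, 7, 6, 5, 1, 0], 34⟩], 14⟩,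
  ⟨290, [(303, 1), (79, 1), (138, 1)], [(2, 1), (1, 0)], [], 2⟩,
  ⟨143, [(361, 1), (303, 1), (90, 1), (294, 1), (290, 1)], [], [], 1⟩,
  ⟨140, [(303, 1), (165, 1), (225, 1), (314, 0), (80, 0)], [], [], 1⟩,
  ⟨216, [(165, 1), (90, 1), (174, 1), (225, 0), (131, 1)], [], [], 1⟩,
  ⟨26, [(361, 1), (303, 1), (294, 1), (143, 0)], [(3, 0)], [], 1⟩,
  ⟨272, [(361, 1), (303, 1), (165, 1), (308, 0)], [(1, 1)], [], 1⟩]
theorem b29 : Nat.card ↥(centralizer ({w2 x29} : Set ↥M2)) ≤ 28 :=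
  (bndT e29 (l := l29) (m := 7) (by (first | (rewrite [Cfsg.Agent.KO0b611ff.e17, Cfsg.Agent.KO0b611ff.e18, Cfsg.Agent.KO0b611ff.e19]; decide +kernel) | decide +kernel))).trans (by decide)
theorem o29 : orderOf (wd x29) = 7 := orderOf_eq (pv_pt e29) (ps := [7]) (by norm_num) (by norm_num)
  (by decide +kernel) (by norm_num)
theorem f29 : fixN (wd x29) = 0 := by
  rw [← pow_one (wd x29), fixN_pow (pv_pt e29)]
  decide +kernel
theorem g29 : fixN (wd x29 ^ 2) = 0 := by
  rw [fixN_pow (pv_pt e29)]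
  decide +kernel
theorem a29 : adjN R (wd x29) = 126 := by
  rw [adjN_val (f := lk t29) e29]
  decide +kernel

def x30 : List ℕ := [6, 3, 5, 2, 4, 6, 1, 2]
private def t30 : ℕ := nat_lit 0x5610e0a61a8621001e40984f14217e4042b02a0362acb38ef050450b00ad13e0807f8652804e4678f72b047440816078100740310fe05cb714720a3402d81516a25c68805198218538090845a0498892ee1207a80621022cbc84a0c23209b1440722dc4680d1465e08c033092398ac9450265a4311091aa228720351e64dc6b0882b446422014074030478a41280485c0c61ae0203a05a006258a49222ae2008f8b4082484738820641c87b0ce14c210051070e64e01f1202e02842916529e2bc1586927c2f8a68ae048504318c503c3b4880f129c1500e8b01384541495f05c3883b8002684c41b8901ba32c8612a2d82e86f91a2bc1e42314b1b00405487b0be3e8960c12784108909b2a658c750b22c8084aa9130b02c461067206264118b327a1a0810eb0ae550bb0780a04906f0191a44a4379251b8068699300e25d03b04e0043246a0fb0ba4b8869320e00b48d97515403c3e95c1c613c1c16d246530228da1762440c06417a3f4a816603e274160f02a443c5001c04a1549f8c31fc458139612863f0358512a23b8ad917118254939460d801c300b925010c370c71e83941a08726a1b48500e11c288b51260761f8b884b0b83349d14807a2d87c00420c0fcb78981065cc268a510a02c1817223c558260e917836cb595d0ea4708592f1943843d02f2664ac008921c00d82f0f925a11ca50d90222a03e13b0cc3004d0592c43b011111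
private theorem e30 : ∀ i : Fin 378, lk t30 i = (wd x30 i : ℕ) := tb_eq (by (first | (rewrite [Cfsg.Agent.KO0b611ff.e20, Cfsg.Agent.KO0b611ff.e21, Cfsg.Agent.KO0b611ff.e24]; decide +kernel) | decide +kernel))
def l30 : List Lv := [⟨163, [], [(3, 1), (2, 1), (1, 0)], [], 32⟩,
  ⟨143, [(303, 1), (28, 1), (251, 1)], [(4, 1), (1, 0)], [], 1⟩,
  ⟨216, [(28, 1), (166, 1), (2, 1), (104, 0)], [(2, 1)], [], 1⟩,
  ⟨26, [(163, 1), (303, 1), (104, 1), (166, 1), (87, 1)], [], [], 1⟩,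
  ⟨290, [(121, 1), (225, 1)], [(4, 1), (1, 1)], [], 1⟩]
theorem b30 : Nat.card ↥(centralizer ({w2 x30} : Set ↥M2)) ≤ 32 :=
  (bndT e30 (l := l30) (m := 8) (by (first | (rewrite [Cfsg.Agent.KO0b611ff.e17, Cfsg.Agent.KO0b611ff.e18, Cfsg.Agent.KO0b611ff.e19]; decide +kernel) | decide +kernel))).trans (by decide)
theorem o30 : orderOf (wd x30) = 8 := orderOf_eq (pv_pt e30) (ps := [2]) (by norm_num) (by norm_num)
  (by decide +kernel) (by norm_num)
theorem f30 : fixN (wd x30) = 0 := by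
  rw [← pow_one (wd x30), fixN_pow (pv_pt e30)]
  decide +kernel
theorem g30 : fixN (wd x30 ^ 2) = 2 := by
  rw [fixN_pow (pv_pt e30)]
  decide +kernel
theorem a30 : adjN R (wd x30) = 126 := by
  rw [adjN_val (f := lk t30) e30]
  decide +kernel

def x31 : List ℕ := [3, 1, 6, 4, 2]
private def t31 : ℕ := nat_lit 0x5a01e1102d41008d16c07c4614e0c22607f00c1d02ac2193802c1d0260a21ea514509431e455c3508e2b01ac451560d22245680d12e534220e71fa1809d1441483d03984d02e280a10f120e154459050a821c8305611e3f0210961581887494f01c4e47994614612c0a87213e504780c419e0188b172076594910352e031c1516f1900a4b70c604a358bc1272c02f48803d0640148a12100e5986883a18a5c41991e2d409c8e96804c47cb482b21e57c5f97925035c1f03100859cb98081864801c9151a00d0661170483388c02c19a464141261aa5dc5f10e2c20f0180030302a44c84f2963ac380fa27a044820e208e2c89a05e2a62403e8df25e3689507525c1e46d8712982680d0fb1d81385513b08c5507185f2044c8080b31221dc6c9291ba4b43c1310f8378280f91361bc540ea0325289e05d16238407955266114818920b01a01110d1785783d0dc25819c11859176574860e02601ec108570cc570858ba2561d86c0a6024270a384a1de3e03713f2b41904315b0ca208ac8630fc02c2d0401c824c9a9002a22bca486d13c3dc098ee14a1209f0b903820c5b81b0fe2e00e8842a02b87f8e612a4dc208090b83d82489d14e1b0769480285008405110042429885214148408b02025482d83f0143944a13624a444010d32c40e0ba0c005a448bb037182348001632480b88d16b1925b06511b196470b68c22460d8b217500244c6a02f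
private theorem e31 : ∀ i : Fin 378, lk t31 i = (wd x31 i : ℕ) := tb_eq (by (first | (rewrite [Cfsg.Agent.KO0b611ff.e20, Cfsg.Agent.KO0b611ff.e21, Cfsg.Agent.KO0b611ff.e24]; decide +kernel) | decide +kernel))
def l31 : List Lv := [⟨295, [], [(1, 1), (2, 1), (3, 0)], [], 16⟩,
  ⟨110, [(262, 1), (295, 0), (269, 0), (369, 0), (317, 0)], [(4, 1), (1, 0), (3, 0)], [], 2⟩,
  ⟨216, [(110, 1), (109, 1), (248, 1), (276, 0)], [(2, 1)], [], 1⟩,
  ⟨26, [(295, 1), (140, 1), (180, 1), (369, 1)], [(3, 1)], [], 1⟩,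
  ⟨272, [(269, 1), (140, 1), (180, 1), (369, 1)], [(1, 0)], [], 1⟩,
  ⟨290, [(276, 1), (79, 1), (110, 0)], [(4, 1)], [], 1⟩]
theorem b31 : Nat.card ↥(centralizer ({w2 x31} : Set ↥M2)) ≤ 32 :=
  (bndT e31 (l := l31) (m := 8) (by (first | (rewrite [Cfsg.Agent.KO0b611ff.e17, Cfsg.Agent.KO0b611ff.e18, Cfsg.Agent.KO0b611ff.e19]; decide +kernel) | decide +kernel))).trans (by decide)
theorem o31 : orderOf (wd x31) = 8 := orderOf_eq (pv_pt e31) (ps := [2]) (by norm_num) (by norm_num)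
  (by decide +kernel) (by norm_num)
theorem f31 : fixN (wd x31) = 2 := by
  rw [← pow_one (wd x31), fixN_pow (pv_pt e31)]
  decide +kernel
theorem g31 : fixN (wd x31 ^ 2) = 6 := by
  rw [fixN_pow (pv_pt e31)]
  decide +kernel
theorem a31 : adjN R (wd x31) = 108 := by
  rw [adjN_val (f := lk t31) e31]
  decide +kernel

def x32 : List ℕ := [4, 3, 2, 6, 1, 5, 0]
private def t32 : ℕ := nat_lit 0x898bd052294310dd0823ec439342482a0758c02aa1d4b690c2603a01d14b2301ccb19000a437cae0ca04807c3288e2d24205c8e30e45249480e1fe2682b10e2a61a49285b2b401c4c07a0223908f9440702d8b389d0ae454110ed19a1749b1770a021441895002138b70f32f01188386b15e3a80b9592661107c07b1b45746582c04018c45168214350048b80763a4969602041509b9271463b86214f0fe5c0830d506e478380e51683f44e0580422ac62818198290000931003409606c2323840516113614ca80b305404c910d92ea12c4587d12e0202516c1ec5c42190b29a08c9f8ce2500b4238f51020bc2f81a27c2b08b0842de4143791d28a2d4078d72cc3f82c8300b4058a10b021e1e4b590d01a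4aca391707c34c820a10a23c01293b1bc4e41a80512223c5b83d2981b4988cf2c827c2a86a18250c5495b0625cc248760684e86d95e0c2484538c90244f4140f117e2c40f0642a444444890006130b50f92ec1008481926a55c330ef15a114410f40e20401b0d628c3987e16513c1a08a14e2ac4982f0860042508d8ba25e348a50e22c440c4c8272242f86e0a60c02201f8fa02a2a86301b1842b80307712c3b08801d2643202e0782e41200a0e0240544130b22e8234268d1176030371482384a81c8e70e802c1e0bc2344b8af901140504aa01c06431c9187c0843dc6c0332703c89e02b008230490a205c560339401865e43f04f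
private theorem e32 : ∀ i : Fin 378, lk t32 i = (wd x32 i : ℕ) := tb_eq (by (first | (rewrite [Cfsg.Agent.KO0b611ff.e20, Cfsg.Agent.KO0b611ff.e21, Cfsg.Agent.KO0b611ff.e24]; decide +kernel) | decide +kernel))
def l32 : List Lv := [⟨361, [], [(2, 1), (4, 1)], [], 27⟩,
  ⟨143, [(361, 1), (343, 1), (155, 1), (339, 0), (235, 0)], [(1, 0)], [], 1⟩,
  ⟨140, [(339, 1), (155, 1), (162, 1), (361, 0), (356, 0), (331, 0)], [], [], 1⟩,
  ⟨216, [(167, 1), (356, 1), (237, 1)], [(4, 1)], [], 1⟩,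
  ⟨26, [(224, 1), (356, 1)], [(1, 1), (4, 1)], [], 1⟩,
  ⟨272, [(361, 1), (114, 1), (52, 1), (235, 0), (331, 0)], [], [], 1⟩]
theorem b32 : Nat.card ↥(centralizer ({w2 x32} : Set ↥M2)) ≤ 27 :=
  (bndT e32 (l := l32) (m := 9) (by (first | (rewrite [Cfsg.Agent.KO0b611ff.e17, Cfsg.Agent.KO0b611ff.e18, Cfsg.Agent.KO0b611ff.e19]; decide +kernel) | decide +kernel))).trans (by decide)
theorem o32 : orderOf (wd x32) = 9 := orderOf_eq (pv_pt e32) (ps := [3]) (by norm_num) (by norm_num)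
  (by decide +kernel) (by norm_num)
theorem f32 : fixN (wd x32) = 0 := by
  rw [← pow_one (wd x32), fixN_pow (pv_pt e32)]
  decide +kernel
theorem g32 : fixN (wd x32 ^ 2) = 0 := by
  rw [fixN_pow (pv_pt e32)]
  decide +kernel
theorem a32 : adjN R (wd x32) = 108 := by
  rw [adjN_val (f := lk t32) e32]
  decide +kernel

def x33 : List ℕ := [1, 7, 0, 2, 3, 1, 2, 6]
private def t33 : ℕ := nat_lit 0x2603b0bc1882803c06e168240160da0ac1a86a016144018420de14c070470d204c1702700c4204b16123a2889f0d91a454cb41572623a4930f915e278608ee2682243c0f226a4e4428ea2ca3785295123e2409e10a1aa528870810ee5248b11211c514ab0f71644906216a1424b472002024024388310881982a82c08a0042c06e02e0a41900d0c806c3004f09608c2d85f09407c4d16c1f4570708c224a2cc978b40f2320648b810c21c668bc2a428c8614212a368af8d62381d8a4115222234a214c22020c940992b43d86192c1c62b8b796722e3507009428229caa9060a81a014005018060230330e60e82e0200420d82e8610380f82181a0ca01c1502d0b21c8051791fc210441711fe40c3d175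1b04608394e27a580688a4122300909701ca4c04f95b1563ec7c0c525c274af1202d63a05689829a46cb30df14c42c68140226330b988f2663b4a31011762dca58fd2f043c658ec1044e09b8f10ea4085b14718e5d08a1622a04fc6e11920a2a84b8d71ce2f4ac8f41385b8918b12564d83d8f01d64e83f88c1de4c8869641244ec5491a1a636caa07d16a3186708b1742e46507e24e2fcb68e61404a8798b02ba1380e83d0701340f0220721241a0140ae1c0020630820401286c0ac03c3381507e020178242e4228800fc2ee2003e1042ec560b49291c43d4910be1362b05414f21250c6e89323c33cb1811080098180520321ac00074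
private theorem e33 : ∀ i : Fin 378, lk t33 i = (wd x33 i : ℕ) := tb_eq (by (first | (rewrite [Cfsg.Agent.KO0b611ff.e20, Cfsg.Agent.KO0b611ff.e21, Cfsg.Agent.KO0b611ff.e24]; decide +kernel) | decide +kernel))
def l33 : List Lv := [⟨253, [], [(2, 1)], [], 81⟩,
  ⟨93, [(253, 1), (143, 1), (92, 0)], [(2, 1)], [], 4⟩,
  ⟨216, [(132, 1), (201, 1), (257, 1)], [(3, 2)], [], 1⟩,
  ⟨26, [(253, 1), (186, 1), (93, 1)], [(2, 1)], [], 1⟩,
  ⟨272, [(253, 1), (257, 1), (132, 0), (186, 0), (216, 0), (26, 0)], [(3, 2)], [], 1⟩,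
  ⟨290, [(143, 1), (136, 1), (92, 1), (186, 0)], [(1, 1)], [], 1⟩]
theorem b33 : Nat.card ↥(centralizer ({w2 x33} : Set ↥M2)) ≤ 324 :=
  (bndT e33 (l := l33) (m := 9) (by (first | (rewrite [Cfsg.Agent.KO0b611ff.e17, Cfsg.Agent.KO0b611ff.e18, Cfsg.Agent.KO0b611ff.e19]; decide +kernel) | decide +kernel))).trans (by decide)
theorem o33 : orderOf (wd x33) = 9 := orderOf_eq (pv_pt e33) (ps := [3]) (by norm_num) (by norm_num)
  (by decide +kernel) (by norm_num)
theorem f33 : fixN (wd x33) = 3 := by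
  rw [← pow_one (wd x33), fixN_pow (pv_pt e33)]
  decide +kernel
theorem g33 : fixN (wd x33 ^ 2) = 3 := by
  rw [fixN_pow (pv_pt e33)]
  decide +kernel
theorem a33 : adjN R (wd x33) = 81 := by
  rw [adjN_val (f := lk t33) e33]
  decide +kernel

def x34 : List ℕ := [2, 1, 7, 2, 6, 2, 1, 4, 3, 0, 2, 1, 7, 2, 6, 2, 1, 4, 3, 0]
private def t34 : ℕ := nat_lit 0x368ab1b8534968140f21287e07617e288880f31b2510951612d44c00d9190f818c640df0a2544b6136110314540710761588b0391965280f13711c1388091a1161ac7c83a15c0689a96710a3a4180721ec338aa8212c851cb701710439c191131621608f07f0ce130740c214a0c4818cc2240f49c1490444084084d14e1f8608590e80f89c9542de4e8b18151081988f83c1663e0b01462522903a8be1b043c7a8de0d82b40914f25e3f83d8480f01948b8db0a43189601c2d00cc468e60a8454580182985b4b315003e0d4450e41921c07d8342002a84386a2363946204f1f41544996b2ca020280ff11830c5488915e3284a02003201ca914b00c1a48e08f2281bc4a82302c010600a61002c8668971ee15c4c1702c400c2590410c1a08e8832221cc4b1532900147182d0fa0d8700922624d00012e2640087082f0f40dc6e8901583d01c05318e3688706e122074b492b2be04c9994e28a0045e8491c43f45182e0c84603b82824e348230a0210030ae93e2ec56ca00250be1086b8a117827c9206027e040bb82b2162e06889b16c4f4ac17320e488760b50b83a82009920c4ecab80a2785c4048eb19e0fc4d1200b45e0ac80d17648c228f11380a47809d05803cae1752121886a8f20863504f1280ba0985c90d2143bc92979286578220240bc34c151261743b830811282568ba00e2844305b82708e358769051a016cb900b2ac1045a121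
private theorem e34 : ∀ i : Fin 378, lk t34 i = (wd x34 i : ℕ) := tb_eq (by (first | (rewrite [Cfsg.Agent.KO0b611ff.e20, Cfsg.Agent.KO0b611ff.e21, Cfsg.Agent.KO0b611ff.e24]; decide +kernel) | decide +kernel))
def l34 : List Lv := [⟨83, [], [(2, 1), (1, 0)], [], 81⟩,
  ⟨206, [(140, 1), (92, 1), (79, 1)], [(1, 1)], [], 4⟩,
  ⟨260, [(67, 1), (43, 1), (297, 1), (91, 1)], [(1, 1)], [], 2⟩,
  ⟨26, [(140, 1), (263, 1), (108, 1), (91, 1), (37, 1)], [], [], 1⟩,
  ⟨272, [(140, 1), (207, 1), (172, 1), (206, 0)], [(4, 1)], [], 1⟩,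
  ⟨290, [(92, 1), (79, 1), (260, 1), (318, 1)], [(1, 1)], [], 1⟩]
theorem b34 : Nat.card ↥(centralizer ({w2 x34} : Set ↥M2)) ≤ 648 :=
  (bndT e34 (l := l34) (m := 9) (by (first | (rewrite [Cfsg.Agent.KO0b611ff.e17, Cfsg.Agent.KO0b611ff.e18, Cfsg.Agent.KO0b611ff.e19]; decide +kernel) | decide +kernel))).trans (by decide)
theorem o34 : orderOf (wd x34) = 9 := orderOf_eq (pv_pt e34) (ps := [3]) (by norm_num) (by norm_num)
  (by decide +kernel) (by norm_num)
theorem f34 : fixN (wd x34) = 6 := by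
  rw [← pow_one (wd x34), fixN_pow (pv_pt e34)]
  decide +kernel
theorem g34 : fixN (wd x34 ^ 2) = 6 := by
  rw [fixN_pow (pv_pt e34)]
  decide +kernel
theorem a34 : adjN R (wd x34) = 162 := by
  rw [adjN_val (f := lk t34) e34]
  decide +kernel

def x35 : List ℕ := [7, 1, 6, 2, 4]
private def t35 : ℕ := nat_lit 0x861111c411c340382e854c958542b637c7f05d26e58c9103023451c3684f1ea5bc9e0281e0110a90e32f24501b10a0d24c4811231b2598ab9360a41801884d1f65a08f1440e24ec158f12e41907090529c0dc2090e25c5802d0dc0b249c9a9002b80c8240f82da464a507227a094791552ec4bc8b1071cc18c2183c2305ac151450a03b8370fa282574900621f8160b383427236035909252534230e52265c41f07309209c8e8f41da520b4942202144b215825017c1993a1bc4402012c0ce5e0721512160f4a58f70481bcb80ef23812ca1959248170818562c20d49c0db1503244c8a2198270528c613e2ec0e08816a0883f8b803e1d83e89800c2184a80011e2480181714e2680d0a413a050550a01a22c0470d715a2146a0b30f81dc4b80710025000889122010640121363380c09e1960545080c18222c078c41040245f07917a0805900b1a62dc3d09601030c118ac0223585a0831260086001d15e038680ba1182400291b1f23ac3a04a058518b713e2b41546d0611fe4cc9316505c434211730724c07494f22a198a484c1d445cb60290e03cc9f925208380af1622681782b82d2a04483283b2543a0830452ee1b0b50ec2983d81311f09c5002d95f1ba484299322ac3f41795421e1a88403f2ea0e8968e71720783d8bc0362345b0211082b8678871623483a8ab1aa1f80b0c715204c650a6032334518c201a2285f80a0f031408081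
private theorem e35 : ∀ i : Fin 378, lk t35 i = (wd x35 i : ℕ) := tb_eq (by decide +kernel)
def l35 : List Lv := [⟨369, [], [(1, 1), (3, 1), (2, 1)], [], 10⟩,
  ⟨111, [(317, 1), (299, 1)], [(5, 2), (2, 0), (1, 0)], [], 2⟩,
  ⟨155, [(369, 1), (262, 1), (230, 1), (65, 1)], [(1, 0)], [], 2⟩,
  ⟨143, [(299, 1), (230, 1), (291, 1), (140, 0)], [(1, 1)], [], 1⟩,
  ⟨216, [(65, 1), (230, 1), (291, 1), (11, 1)], [(2, 0)], [], 1⟩,
  ⟨26, [(270, 1), (316, 1), (44, 1)], [(3, 1)], [], 1⟩,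
  ⟨272, [(21, 1), (369, 1), (230, 1)], [(1, 1)], [], 1⟩,
  ⟨290, [(299, 1), (230, 1), (21, 1), (140, 0)], [(1, 0)], [], 1⟩]
theorem b35 : Nat.card ↥(centralizer ({w2 x35} : Set ↥M2)) ≤ 40 :=
  (bndT e35 (l := l35) (m := 10) (by (first | (rewrite [Cfsg.Agent.KO0b611ff.e17, Cfsg.Agent.KO0b611ff.e18, Cfsg.Agent.KO0b611ff.e19]; decide +kernel) | decide +kernel))).trans (by decide)
theorem o35 : orderOf (wd x35) = 10 := orderOf_eq (pv_pt e35) (ps := [2, 5]) (by norm_num) (by norm_num)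
  (by decide +kernel) (by norm_num)
theorem f35 : fixN (wd x35) = 1 := by
  rw [← pow_one (wd x35), fixN_pow (pv_pt e35)]
  decide +kernel
theorem g35 : fixN (wd x35 ^ 2) = 3 := by
  rw [fixN_pow (pv_pt e35)]
  decide +kernel
theorem a35 : adjN R (wd x35) = 117 := by
  rw [adjN_val (f := lk t35) e35]
  decide +kernel

def x36 : List ℕ := [4, 2, 5, 3, 7, 0]
private def t36 : ℕ := nat_lit 0x2b13c22a23c0c8d020c5281a16905647c488101663f43013a25c0c8790a10f20141e9431b61e85e02221a1a0960581b85784c0c7022410a702a2e03883089a11c01c389572285303512121048c7685106c1b0400c214e3fc8d0e42d64d4a809315c3244e07f0003485301b16e3040915a1ee0e0698860263b8b10640b64049b0b01280287283f2a45243292513c2080106d2b64440f88c16c0d4b29220e03e89e80e1243349c84523253c818281401f00203e284378988311e24a4af94421e3d06c8a40ee2fc120420ba45c7e0e1198258588b41880604c88800c33c5481e1be1d0bc0161ac1f49392f09838caa04601a2b44b91e04e5a8b385020e26c458080aa5cc7c8b903820ca38ef0940dc8917619402c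4a85a1cc5b09b91b080274428010a65d47b1640924243483309c4ecab17118a2a8449532705b81285e0862ac630900e45708703c2823602b9771e64ac180f028c1989316109642c6a8a30422e85f01513e1d80186b2cc3b00d08a1a20e87d9582ba164700230f62ec9810c0ce5bc238fe1902c8060292683a05c08403a4fc7c06e24858c170d41020501790a29044c2914015e32c0485c2a2470b68412003687a91028a580950bd0ea288751052401bc2a03915021c6194d0be474b40442044c8130e70402d4469160765c87594b09e05c6b8782504b4268dd0e65e4560ce01e0b0998e92aa1888c06305a1209f1592e83005287e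
private theorem e36 : ∀ i : Fin 378, lk t36 i = (wd x36 i : ℕ) := tb_eq (by (first | (rewrite [Cfsg.Agent.KO0b611ff.e20, Cfsg.Agent.KO0b611ff.e21, Cfsg.Agent.KO0b611ff.e24]; decide +kernel) | decide +kernel))
def l36 : List Lv := [⟨352, [], [(1, 1), (2, 1), (5, 0)], [], 20⟩,
  ⟨26, [(352, 1), (110, 1), (264, 1)], [(5, 1)], [], 2⟩,
  ⟨60, [(352, 1), (290, 1), (296, 1), (264, 0)], [(1, 1)], [], 2⟩,
  ⟨143, [(58, 1), (244, 1), (32, 1), (290, 1), (60, 1)], [], [], 1⟩,
  ⟨216, [(110, 1), (238, 1), (346, 1), (264, 1), (100, 1)], [], [], 1⟩]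
theorem b36 : Nat.card ↥(centralizer ({w2 x36} : Set ↥M2)) ≤ 80 :=
  (bndT e36 (l := l36) (m := 10) (by (first | (rewrite [Cfsg.Agent.KO0b611ff.e17, Cfsg.Agent.KO0b611ff.e18, Cfsg.Agent.KO0b611ff.e19]; decide +kernel) | decide +kernel))).trans (by decide)
theorem o36 : orderOf (wd x36) = 10 := orderOf_eq (pv_pt e36) (ps := [2, 5]) (by norm_num) (by norm_num)
  (by decide +kernel) (by norm_num)
theorem f36 : fixN (wd x36) = 3 := by
  rw [← pow_one (wd x36), fixN_pow (pv_pt e36)]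
  decide +kernel
theorem g36 : fixN (wd x36 ^ 2) = 3 := by
  rw [fixN_pow (pv_pt e36)]
  decide +kernel
theorem a36 : adjN R (wd x36) = 135 := by
  rw [adjN_val (f := lk t36) e36]
  decide +kernel

def x37 : List ℕ := [2, 1, 0, 4, 6, 3]
private def t37 : ℕ := nat_lit 0x7c0f22320140701d2064906d91f2143780a0040203c47e91322a4709101901207c831001f42ec410c70541643295b2e04c0698b20f41a01c047268578b108a1282683585b0e2560a914c29a4c8b40360d8144520bf0ee580a292a0840902e87f14c304678c9186264498871682b85412520838011802022388861111d84508080a03401c908e51f63dc7f10d026030110ee1d0370668b80f21b81904528653cb188c1a02bc2b05c06a5b49e94a1022445002f0560f8a013a26257ca21290880982f88014e3089a96b2a01bc2a039188220548b7162288690cc17a2704b0751cc4588380b0400208d8eb1f23d8719280020340b90923c3746f8e91de0580781c24e4608908b1942d42805a0765cc9b94b15820c6b02c0941d0aa97625e1e04b89d09a118299792d45909d9712ac1a42703318a2245515c2825dc1806609628c5f0762c25b8ba1462a65649593827c15c21848078094168720bc18c4f8900fc2e8558a51aa3186016626c55c470d11600fc3503a2b45bc960bc10c320148580c8524ae94e13c1ec4c06d0ce1846588f16c4f0b29510e01041a0b31a81f0a41422d20c4300521082844913f25c4e41703d050480751051c84687f81e0300187a9101b43f0709170000480d92321e474840f42043b46c8e71723383e9472665e01b862098214568d72ea5509684904e1cc4689b12a5c8b396c09e154200f0216498870f31b008401815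
private theorem e37 : ∀ i : Fin 378, lk t37 i = (wd x37 i : ℕ) := tb_eq (by decide +kernel)
def l37 : List Lv := [⟨216, [], [(2, 1), (1, 0)], [], 36⟩,
  ⟨143, [(346, 1), (98, 1), (89, 0)], [(6, 1)], [], 1⟩,
  ⟨140, [(203, 1), (107, 1), (335, 1), (100, 1), (329, 0)], [], [], 1⟩,
  ⟨26, [(99, 1), (3, 1), (126, 1), (203, 0)], [(1, 1)], [], 1⟩,
  ⟨272, [(126, 1), (127, 1), (346, 1), (98, 0)], [(1, 1)], [], 1⟩,
  ⟨290, [(143, 1), (28, 1), (3, 0)], [(2, 1)], [], 1⟩]
theorem b37 : Nat.card ↥(centralizer ({w2 x37} : Set ↥M2)) ≤ 36 :=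
  (bndT e37 (l := l37) (m := 12) (by (first | (rewrite [Cfsg.Agent.KO0b611ff.e17, Cfsg.Agent.KO0b611ff.e18, Cfsg.Agent.KO0b611ff.e19]; decide +kernel) | decide +kernel))).trans (by decide)
theorem o37 : orderOf (wd x37) = 12 := orderOf_eq (pv_pt e37) (ps := [2, 3]) (by norm_num) (by norm_num)
  (by decide +kernel) (by norm_num)
theorem f37 : fixN (wd x37) = 0 := by
  rw [← pow_one (wd x37), fixN_pow (pv_pt e37)]
  decide +kernel
theorem g37 : fixN (wd x37 ^ 2) = 0 := by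
  rw [fixN_pow (pv_pt e37)]
  decide +kernel
theorem a37 : adjN R (wd x37) = 108 := by
  rw [adjN_val (f := lk t37) e37]
  decide +kernel

def x38 : List ℕ := [1, 6, 3, 2, 5, 1, 7, 6, 3, 2, 0, 7, 4]
private def t38 : ℕ := nat_lit 0xb585e1c2000548ba2e8368379651ce2f0b88df1585b4770a71b61cc5716c0085805d85b1e00143585d2e42b46c1701e22a0bb0701b85bc2e0e92be1a47696e004598350a51c4380580722f21b458969170198038e61d45a05c8682c4290311781641b0b50062c62dc758600ce3945181a0f03500589819a0784e0be2863ec6602008c0c0a707c2404c80f9470981dc8011519c0d8ad8932265144d1192a82349313508645c090881aa5647a8390942308100c2b44ec1a1181844e05082f2621f81413f1220f0968820480407c10e29810061951252058270861fc3401612327a4482c0131ac23ca203321054c9408b26e3008480d07615c4d8422143cc4a05909240c4394d2441e89a0bf20c0241c0512920c88394222814c0c0d20ec3e44b0520964043d89d08a4140e11d21a5586585625e0a4401581921549502a10a0748f90b2a005c970d124a094280fc1024e8a581b05c3108f09f07e4300893e2ae4401f0ca1ec2482a0c11320846389501c35c450141903d09e1271125541a8440444104704828c08c9b03a18c4448b0972b84843a94f234278a40d30fa0648e0472660dc7d15e17a46c189412ba0287f87909a0ac4212b05a2809c83d1205006284129443c7b80f04c20c9612404e33c7e87f09e054981520b418c008e316a584558dd2e62985a0030e2378ba8f20ca59c578741b23a0550640be3bc5b0b30dc5dc308a22c839076008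
private theorem e38 : ∀ i : Fin 378, lk t38 i = (wd x38 i : ℕ) := tb_eq (by (first | (rewrite [Cfsg.Agent.KO0b611ff.e20, Cfsg.Agent.KO0b611ff.e21, Cfsg.Agent.KO0b611ff.e24]; decide +kernel) | decide +kernel))
def l38 : List Lv := [⟨216, [], [(6, 1)], [], 72⟩,
  ⟨377, [(345, 1), (18, 1), (216, 0), (359, 0)], [(2, 1)], [], 4⟩,
  ⟨140, [(18, 1), (166, 1), (26, 1), (377, 1), (301, 1)], [], [], 1⟩,
  ⟨272, [(359, 1), (257, 1), (323, 1), (166, 1), (377, 1)], [], [], 1⟩,
  ⟨290, [(377, 1), (219, 0), (323, 1), (216, 0)], [(4, 2)], [], 1⟩]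
theorem b38 : Nat.card ↥(centralizer ({w2 x38} : Set ↥M2)) ≤ 288 :=
  (bndT e38 (l := l38) (m := 12) (by (first | (rewrite [Cfsg.Agent.KO0b611ff.e17, Cfsg.Agent.KO0b611ff.e18, Cfsg.Agent.KO0b611ff.e19]; decide +kernel) | decide +kernel))).trans (by decide)
theorem o38 : orderOf (wd x38) = 12 := orderOf_eq (pv_pt e38) (ps := [2, 3]) (by norm_num) (by norm_num)
  (by decide +kernel) (by norm_num)
theorem f38 : fixN (wd x38) = 0 := by
  rw [← pow_one (wd x38), fixN_pow (pv_pt e38)]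
  decide +kernel
theorem g38 : fixN (wd x38 ^ 2) = 12 := by
  rw [fixN_pow (pv_pt e38)]
  decide +kernel
theorem a38 : adjN R (wd x38) = 108 := by
  rw [adjN_val (f := lk t38) e38]
  decide +kernel

def x39 : List ℕ := [7, 2, 6, 5, 4, 0]
private def t39 : ℕ := nat_lit 0x9b94326056ca594f2c65c0b994a2ec4d09e9552c45b49795e274590ac1522625e4b514c2800ac358530e21181784d07c16c238560941a02e0740700d4160320b21682806e0541941d8451c23f08b90e1b03cc829201d43647a10f204474739231da4207a91a1e04407210b1b43fc931662ea5a49b12d28455caa14825c5b0ae9722924e4a713f2ce5bc9e147266568b29512f04b08611b1b63887c9242223ac818fb1fa4248f1212263c46e8e5224418740dc24e4007d0ee2301201686304a178218720ae0f02e8420480c03304b0a80e4378690880d8270260d80cc2f8510320300e01301e07c0b0090440400081a0140100b80d00e0500582300a03810002022074040b911e3205e07d1962d8430ce0f62844a8841362604689e124344428b31a8238568d70f82c05f8a40ee3145508918429c400a91103105307f18228c3b0be19e2c43f0b412c3004c8cc14a3545707517424c5e89f192288690ab10e2dc480c31383185412522c464821071f0380730f21d23dc9110d23837c8a8ef1fc4a0808de21438c8a0ec23e3d8350270a40fc398310741243004c0b0104380620c80a41a0370c2154170280da13c2003d0ce518b092b2dc4e0a993e2b25d0ab1712764c8a69682be4a4a2177254540a09452d6570b01351162e06388216a3343c8bb19425c4d0811282803c09113a2285787a1ac2b0460d316420c68015006084090000360600301e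
private theorem e39 : ∀ i : Fin 378, lk t39 i = (wd x39 i : ℕ) := tb_eq (by (first | (rewrite [Cfsg.Agent.KO0b611ff.e20, Cfsg.Agent.KO0b611ff.e21, Cfsg.Agent.KO0b611ff.e24]; decide +kernel) | decide +kernel))
def l39 : List Lv := [⟨285, [], [(3, 1), (6, 1)], [], 24⟩,
  ⟨16, [(310, 1), (327, 1), (336, 1)], [(4, 0), (2, 1)], [], 2⟩,
  ⟨143, [(293, 1), (233, 1), (93, 1), (276, 0), (140, 0)], [(4, 0)], [], 1⟩,
  ⟨216, [(310, 1), (293, 1), (131, 1)], [(1, 1)], [], 1⟩,
  ⟨26, [(180, 1), (285, 1), (140, 1)], [(4, 2)], [], 1⟩,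
  ⟨272, [(285, 1), (180, 1), (140, 1), (13, 1), (203, 1)], [], [], 1⟩,
  ⟨290, [(276, 1), (180, 1), (200, 1), (131, 1), (10, 1)], [], [], 1⟩]
theorem b39 : Nat.card ↥(centralizer ({w2 x39} : Set ↥M2)) ≤ 48 :=
  (bndT e39 (l := l39) (m := 12) (by (first | (rewrite [Cfsg.Agent.KO0b611ff.e17, Cfsg.Agent.KO0b611ff.e18, Cfsg.Agent.KO0b611ff.e19]; decide +kernel) | decide +kernel))).trans (by decide)
theorem o39 : orderOf (wd x39) = 12 := orderOf_eq (pv_pt e39) (ps := [2, 3]) (by norm_num) (by norm_num)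
  (by decide +kernel) (by norm_num)
theorem f39 : fixN (wd x39) = 1 := by
  rw [← pow_one (wd x39), fixN_pow (pv_pt e39)]
  decide +kernel
theorem g39 : fixN (wd x39 ^ 2) = 5 := by
  rw [fixN_pow (pv_pt e39)]
  decide +kernel
theorem a39 : adjN R (wd x39) = 99 := by
  rw [adjN_val (f := lk t39) e39]
  decide +kernel

def x40 : List ℕ := [6, 5, 3, 7, 4]
private def t40 : ℕ := nat_lit 0x906e09404c368480281b02486303814c29064036074288650b802c1f80a0821682005b0122bca810115c548800b02a23fca48a51ee2987c1471ec520538b82b4424ad90a1724205b9591042143f8840fc2044008310c2504a89326e4d49b0e41ca3984e0ed27c2747713f13c3bca00c422c5948a16618a59c619152ee4a06b17924e354bc1261ae330b711d2de4786691f19c5c0641172d25a0639192305a8630d12e248467972244340b992021e5845e96017e4385f1102be014020030620c01903c07a0f8150270480a01282b04c0b0148330720181a03b00e0d41d0081745748690c178570af10b1762a87c94b1f65285494c1503e88215516654c5890216440caa00f0bc1182e8470201140885f0b019811821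0b21a0338220ae1400d0700321c42786f09c0604d89a1324f09d93d1d43b0759342664c8710e11c6240490910fa4c06f07a25a36c3b92a1b04b86e0782563643a9311be1ec6d0762523803e12f1ba1e49600c0c210c3104201c110068600e805c2587302a1303901609a1a81005603e154358540d20785a15820c41c5a9562ae4145b14d15a3f4a78ac1f8538558fe148514799461e82887a8a32882844f8a0282508a18f11e43c0478891182204588e1142344393812c39c9c8971d04e84c0e918244cb11122c8300b18c2222324b611c23632cb596d234328921751a65d86a1251a448cba02e05a0bc000020020dc1c036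
private theorem e40 : ∀ i : Fin 378, lk t40 i = (wd x40 i : ℕ) := tb_eq (by decide +kernel)
def l40 : List Lv := [⟨125, [], [(4, 2), (2, 0), (1, 0)], [], 24⟩,
  ⟨22, [(218, 1), (125, 0), (143, 0)], [(1, 1), (3, 0)], [], 6⟩,
  ⟨140, [(22, 1), (100, 1), (25, 1), (125, 0)], [(4, 2)], [], 1⟩,
  ⟨216, [(100, 1), (364, 1)], [(4, 0), (1, 0), (2, 1)], [], 1⟩,
  ⟨26, [(140, 1), (135, 1)], [(3, 2)], [], 1⟩,
  ⟨272, [(125, 1), (25, 1), (138, 1), (167, 1)], [(1, 0)], [], 1⟩,
  ⟨290, [(143, 1), (45, 1), (22, 1)], [(6, 2)], [], 1⟩]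
theorem b40 : Nat.card ↥(centralizer ({w2 x40} : Set ↥M2)) ≤ 144 :=
  (bndT e40 (l := l40) (m := 12) (by (first | (rewrite [Cfsg.Agent.KO0b611ff.e17, Cfsg.Agent.KO0b611ff.e18, Cfsg.Agent.KO0b611ff.e19]; decide +kernel) | decide +kernel))).trans (by decide)
theorem o40 : orderOf (wd x40) = 12 := orderOf_eq (pv_pt e40) (ps := [2, 3]) (by norm_num) (by norm_num)
  (by decide +kernel) (by norm_num)
theorem f40 : fixN (wd x40) = 1 := by
  rw [← pow_one (wd x40), fixN_pow (pv_pt e40)]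
  decide +kernel
theorem g40 : fixN (wd x40 ^ 2) = 5 := by
  rw [fixN_pow (pv_pt e40)]
  decide +kernel
theorem a40 : adjN R (wd x40) = 135 := by
  rw [adjN_val (f := lk t40) e40]
  decide +kernel

def x41 : List ℕ := [7, 1, 5, 6, 2, 0, 3]
private def t41 : ℕ := nat_lit 0xb41312ae1f45a8c620c45c700521c6510490a20383cc329342763641b0990ec0007512a05a2240d0b021a1849f16f0604444a0d414e3e4930e90a80a0340a010a01c3a1152b44682e9532105501d16d1e41c8418c30223d8a60260b24d49389604034c4f08b00a338060af0303045d1142043c4648861700ec2605e0d23ec9b0221302941497724a4783015213822001870224578568770283682514f0da3f8958a41223449997328c4887a8e21341f0008eb2600b89e0df0705002711f2b84001900e118300739750d45287c0251ac24c118151882dc5088201032c078b20621c4220bb19823ca813f2c40ac9197915007c4a9491d015c2696621427c3f8062d8114820171662008d8392ca3c0ad8471ae2a84b8660581549b9472e8274470042dc1087f84f2c64302d8dd2be4b88704117a02c3d12126414c708642e4074680900d843cab0ec25a0bcb503f1fa4f46e037232168a70482c0414640091580485f0b41361e4010620a00f05e08719a3b48091322c5ac1a0b1108058a11090be160bb0fa1aa078530e527409c0987b1564bc7e06e29a1246f0c70ea2d86c107230560b492903633c51863240514289711e80d48195923812ca18c51020401e90b2a21bcb80ef01a228611240ce52c2b1781ee4e07202415c0644695d1dc10c1f11d2c82e46507e2aa504b38330e6118108d21523989c82a2501aca405c1b6584961100802fc05078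
private theorem e41 : ∀ i : Fin 378, lk t41 i = (wd x41 i : ℕ) := tb_eq (by (first | (rewrite [Cfsg.Agent.KO0b611ff.e20, Cfsg.Agent.KO0b611ff.e21, Cfsg.Agent.KO0b611ff.e24]; decide +kernel) | decide +kernel))
def l41 : List Lv := [⟨144, [], [(1, 2)], [], 2⟩,
  ⟨181, [(144, 1)], [(2, 1), (1, 1)], [], 12⟩,
  ⟨34, [(144, 1), (373, 1), (347, 1)], [(5, 1), (2, 0)], [], 2⟩,
  ⟨126, [(232, 1), (284, 1), (199, 0)], [(4, 2), (1, 1)], [], 2⟩,
  ⟨143, [(232, 1), (80, 1), (299, 1), (173, 1), (89, 0)], [], [], 1⟩,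
  ⟨140, [(373, 1), (232, 1), (59, 1), (144, 0), (126, 0)], [], [], 1⟩,
  ⟨216, [(373, 1), (19, 1), (202, 1), (311, 1), (126, 1)], [], [], 1⟩,
  ⟨26, [(254, 1), (232, 1), (183, 1)], [(2, 1)], [], 1⟩,
  ⟨272, [(373, 1), (199, 1), (261, 1), (311, 1), (284, 1)], [], [], 1⟩]
theorem b41 : Nat.card ↥(centralizer ({w2 x41} : Set ↥M2)) ≤ 96 :=
  (bndT e41 (l := l41) (m := 12) (by (first | (rewrite [Cfsg.Agent.KO0b611ff.e17, Cfsg.Agent.KO0b611ff.e18, Cfsg.Agent.KO0b611ff.e19]; decide +kernel) | decide +kernel))).trans (by decide)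
theorem o41 : orderOf (wd x41) = 12 := orderOf_eq (pv_pt e41) (ps := [2, 3]) (by norm_num) (by norm_num)
  (by decide +kernel) (by norm_num)
theorem f41 : fixN (wd x41) = 2 := by
  rw [← pow_one (wd x41), fixN_pow (pv_pt e41)]
  decide +kernel
theorem g41 : fixN (wd x41 ^ 2) = 6 := by
  rw [fixN_pow (pv_pt e41)]
  decide +kernel
theorem a41 : adjN R (wd x41) = 144 := by
  rw [adjN_val (f := lk t41) e41]
  decide +kernel

def x42 : List ℕ := [7, 3, 0, 5, 1, 6, 4]
private def t42 : ℕ := nat_lit 0x679222e4344909711a0480b991918e5a0b4917190318b511821c2fcb00bd2c243caf91017c0543984c02e1d0258160e41343100e084030218610881800681f0d6154350560401500f0690fe208428811081f8430801062504a89326e4d49b0e41ca3984e8ee27e278779401383b49f0a628e3e0a48f714a3d853948200548571012a02bc7f9511602e48515b2125685c15916e4205a15820c41c5a9562ae4145b0ad1fa534560fc29e2ac7f14e28a3cc520f4144518519441ea00c028040640c41803e0780f4150270480a01282b04c0b01483407601c1a83a0100cc1c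8060421a02c858046198338570440402385d08c1780785f022114278710321c00d050030138378c12265888916418058c611112d8470648cb2d646c8d0ca2da5d4699241a8494bb1232e83484c89b1344f49e13b1d63a8761342664c8710e11c6240490910f44b46d8772543603e9301bc4ac6c87526237c3d92e1b81e07007c25e3743c92c1b41d8948c422c5948a16618a59c61915250358bb9271aa5e4930d72f04746616e19a5bc8f17023e3380d8640a414c0e0630ca1440e86d026120370120941b00a0490141682085c07e02c200090b627c500a128450ca08f21e03c44608f1122384408b10e2284693812c39c9c8971d04e84c0e91525287d94b1f22a87d0a82982f08615c2ba2e88690b2bc2eca9902162410599551645508182f05c0b4008000040d81b838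
private theorem e42 : ∀ i : Fin 378, lk t42 i = (wd x42 i : ℕ) := tb_eq (by (first | (rewrite [Cfsg.Agent.KO0b611ff.e20, Cfsg.Agent.KO0b611ff.e21, Cfsg.Agent.KO0b611ff.e24]; decide +kernel) | decide +kernel))
def l42 : List Lv := [⟨240, [], [(6, 0), (2, 0), (1, 0)], [], 48⟩,
  ⟨75, [(241, 1), (54, 1), (2, 1)], [(2, 1)], [], 3⟩,
  ⟨143, [(55, 1), (54, 1), (75, 1), (345, 1), (343, 1)], [], [], 1⟩,
  ⟨216, [(55, 1), (1, 1), (54, 1), (345, 1)], [(2, 1)], [], 1⟩,
  ⟨26, [(55, 1), (224, 1)], [(3, 2)], [], 1⟩,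
  ⟨290, [(241, 1), (26, 0), (5, 0)], [(6, 2)], [], 1⟩]
theorem b42 : Nat.card ↥(centralizer ({w2 x42} : Set ↥M2)) ≤ 144 :=
  (bndT e42 (l := l42) (m := 12) (by (first | (rewrite [Cfsg.Agent.KO0b611ff.e17, Cfsg.Agent.KO0b611ff.e18, Cfsg.Agent.KO0b611ff.e19]; decide +kernel) | decide +kernel))).trans (by decide)
theorem o42 : orderOf (wd x42) = 12 := orderOf_eq (pv_pt e42) (ps := [2, 3]) (by norm_num) (by norm_num)
  (by decide +kernel) (by norm_num)
theorem f42 : fixN (wd x42) = 4 := by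
  rw [← pow_one (wd x42), fixN_pow (pv_pt e42)]
  decide +kernel
theorem g42 : fixN (wd x42 ^ 2) = 8 := by
  rw [fixN_pow (pv_pt e42)]
  decide +kernel
theorem a42 : adjN R (wd x42) = 108 := by
  rw [adjN_val (f := lk t42) e42]
  decide +kernel

def x43 : List ℕ := [0, 7, 1, 2, 3, 6]
private def t43 : ℕ := nat_lit 0x320650c60700d81d0a214c290380941700a00a0021001706d0d80fc178120120082405a06e30c5889f22c410791662a85084408d1184748f91e2b8578ae8d712e2a87c9261d24e0a5978286594a98f022a40c500c51664e4bb94a1f639c940d6152260478cc1763345e08717422c670580b215c1001f03c0ac1382607a13c308040340341806f0841181987302a03c0403b0981784c8bd1564387e0ea29a4ecaf87a0ec1ec6c8de1ba4bc9712a1a2244521221c43d4b993328c58ca893e1de4447f8b013a3089a976292394918f612a34c530b710432c430c91703285c87e0520a812821046088350690d60e42585d02001c0b87408e0d418871088060060050c40f0280ae138300891001dc500b215210820c3f908214424b616b2da3504a0a71c83dc921472e84dca793c2c23ac880fe17e2b44d1342e4514908f41c628c490d02ac4b4b51312d055cb49582523808b90623041c6c1051b8464638b60ea2d03c8c80fa3185a95b2b4564428811004708d91a26c5d4a40931a4294731251f0540b113f13c2bc609131da404510cf1205c4991441c23cc900770f01f09613025637c6d0db15826c5f14e27a5807e8ec21e0d02287209a0e82f81102c0181f04e0c00c838043006064070540501a0160660aa19c2b02412c2a06a9792745307d1271d02384488a2de5c0b710b218434590a1188504b39552284087883609216c3704105a02c00013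
private theorem e43 : ∀ i : Fin 378, lk t43 i = (wd x43 i : ℕ) := tb_eq (by (first | (rewrite [Cfsg.Agent.KO0b611ff.e20, Cfsg.Agent.KO0b611ff.e21, Cfsg.Agent.KO0b611ff.e24]; decide +kernel) | decide +kernel))
def l43 : List Lv := [⟨321, [], [(1, 1), (2, 0)], [], 72⟩,
  ⟨197, [(322, 1), (47, 0), (342, 0)], [(1, 1), (2, 0)], [], 4⟩,
  ⟨26, [(321, 1), (3, 1), (197, 1)], [(2, 1), (1, 1)], [], 1⟩,
  ⟨272, [(14, 1), (47, 1), (188, 1)], [(1, 1)], [], 1⟩,
  ⟨290, [(174, 1), (14, 1), (143, 1), (197, 1)], [(3, 1)], [], 1⟩]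
theorem b43 : Nat.card ↥(centralizer ({w2 x43} : Set ↥M2)) ≤ 288 :=
  (bndT e43 (l := l43) (m := 12) (by (first | (rewrite [Cfsg.Agent.KO0b611ff.e17, Cfsg.Agent.KO0b611ff.e18, Cfsg.Agent.KO0b611ff.e19]; decide +kernel) | decide +kernel))).trans (by decide)
theorem o43 : orderOf (wd x43) = 12 := orderOf_eq (pv_pt e43) (ps := [2, 3]) (by norm_num) (by norm_num)
  (by decide +kernel) (by norm_num)
theorem f43 : fixN (wd x43) = 6 := by
  rw [← pow_one (wd x43), fixN_pow (pv_pt e43)]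
  decide +kernel
theorem g43 : fixN (wd x43 ^ 2) = 6 := by
  rw [fixN_pow (pv_pt e43)]
  decide +kernel
theorem a43 : adjN R (wd x43) = 108 := by
  rw [adjN_val (f := lk t43) e43]
  decide +kernel

def x44 : List ℕ := [0, 4, 3, 7, 6, 2, 1, 5]
private def t44 : ℕ := nat_lit 0x660c819407c1081d0f0238400d12380e49494901c3f44e05821c310131370285682689820c2f4898290324d4ab89709442c9212224c540a715510c1d4459191ac0e8a592c020278800531a40ec8f8092884bc4e9030a80b08a8c202a5749b05012c428220881e620c7c03f1f41183d92724a480a995129e2343f87a06e3548f1480184a87f89a0ac090880c5030570990481264208902717c5640b93312a138838cd18c32c100220361dc450851a80e08d8112944b44c9020ae4606803628c4c00509b1f81488a0c00544d009956096250860411043d83e8fb08a3d02188705c0c01a9402844ec3f07911e45c1f0d301a4aca39041421446182521e5609c81609e2448682817e4449d15e024240261090660bc1893c27c50c460840ec0f08e8cf25c03ca60a01fc1541e91a1ae4c40594513e4042c8c1056458ad9380341244910519c0c89083425031c918c905a534a081e27a08caa01c2a44fc2387c1f22247a8421ee100408ba1702d8748e41c459cb116015e1ac750a61b81800096e2f0174550da0c63b4570062d05dc528621ba3bc330ad2d8020b88730e21b0708e81cc594b09630d02cc758d9150178b68022ea2ac760651be2902e1722d20007005b1461a4770b22e05d00386e1ca2e4718bb0e02d0390e70c236c538b11e2190b50032ec2f05b8b50e81b43795f2c8598560f20d417c6c0a92de010b985a144378580671e05acbc805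
private theorem e44 : ∀ i : Fin 378, lk t44 i = (wd x44 i : ℕ) := tb_eq (by (first | (rewrite [Cfsg.Agent.KO0b611ff.e20, Cfsg.Agent.KO0b611ff.e21, Cfsg.Agent.KO0b611ff.e24]; decide +kernel) | decide +kernel))
def l44 : List Lv := [⟨158, [], [(6, 1), (1, 0), (2, 0), (3, 0)], [], 26⟩,
  ⟨140, [(158, 1), (206, 1), (168, 1), (67, 1), (326, 0)], [], [], 1⟩,
  ⟨216, [(158, 1), (239, 1), (91, 1)], [(2, 1)], [], 1⟩,
  ⟨26, [(158, 1), (239, 1), (68, 1)], [(4, 1)], [], 1⟩,
  ⟨272, [(86, 1), (207, 1), (305, 1)], [(3, 1)], [], 1⟩,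
  ⟨290, [(158, 1), (143, 1), (210, 1), (168, 1), (323, 1)], [], [], 1⟩]
theorem b44 : Nat.card ↥(centralizer ({w2 x44} : Set ↥M2)) ≤ 26 :=
  (bndT e44 (l := l44) (m := 13) (by (first | (rewrite [Cfsg.Agent.KO0b611ff.e17, Cfsg.Agent.KO0b611ff.e18, Cfsg.Agent.KO0b611ff.e19]; decide +kernel) | decide +kernel))).trans (by decide)
theorem o44 : orderOf (wd x44) = 13 := orderOf_eq (pv_pt e44) (ps := [13]) (by norm_num) (by norm_num)
  (by decide +kernel) (by norm_num)
theorem f44 : fixN (wd x44) = 1 := by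
  rw [← pow_one (wd x44), fixN_pow (pv_pt e44)]
  decide +kernel
theorem g44 : fixN (wd x44 ^ 2) = 1 := by
  rw [fixN_pow (pv_pt e44)]
  decide +kernel
theorem a44 : adjN R (wd x44) = 117 := by
  rw [adjN_val (f := lk t44) e44]
  decide +kernel

def x45 : List ℕ := [0, 4, 3, 7, 6, 2, 1, 5, 0, 4, 3, 7, 6, 2, 1, 5]
private def t45 : ℕ := nat_lit 0x699042563c45396a0840c80e07e2901703d94b0be228a28622100945a0152be4d4708c109c4340c0e316e4d82502b2ca2f8a888d2405543a92429a204940ff0602906b03f1e44c41116c27637c1b9730a63cc058c615a1b8881580de44cae87322c5646c8c90ae4f4089750702cc7c9252a61e89314e10c484a90892d20d46a92c1521180d9011de39c240c316a0a4851630344ccae07012255c3a0962b61b04a83e0a2034588db2ec3dc639412805c8060ac0743e02c8cb1ba2683c80013c2200209f10a02062816172140b210b1cc4e01396d0464b4238d41d64085402d2e82c8700090761509f8f519c158559421b03e8080cd07a5c48787212625c8a86d0e2248890bb09e4c8160bd2cc414740171465c07710325e3481a01e0801948f08f1061a88c91a0ee1987612a05c110b79001ae080529391ca0900c8c21785842490722e1a43f85b24e284a794700e22c8f86413a184910032a05103407c23648c4c85e294008aa1112bc2408a156128438ad09827c2bc2900f1f6368bc8391902b81e0f42f0028a18de0b0328a605d0fa5183008c292168400b81d2580860c02680982681414c0cc7e04319e3b49496b0421d84d8011042800308e138014209681fc3a89802f1a2074511670264e8258bf1c84245b02a154114970311a05b87e8f003e0a00904c1745887110626e310421180d618c4391d23819c3c1770aa3d89e0dc06c038660b0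
private theorem e45 : ∀ i : Fin 378, lk t45 i = (wd x45 i : ℕ) := tb_eq (by (first | (rewrite [Cfsg.Agent.KO0b611ff.e20, Cfsg.Agent.KO0b611ff.e21, Cfsg.Agent.KO0b611ff.e24]; decide +kernel) | decide +kernel))
def l45 : List Lv := [⟨349, [], [(1, 1), (2, 1), (3, 1)], [], 13⟩,
  ⟨216, [(309, 1), (310, 1), (192, 1)], [(1, 1)], [], 2⟩,
  ⟨143, [(244, 1), (232, 1), (76, 1)], [(3, 1), (2, 0)], [], 1⟩,
  ⟨140, [(22, 1), (232, 1), (203, 1), (354, 0)], [(1, 0)], [], 1⟩,
  ⟨26, [(232, 1), (109, 1), (86, 1)], [(2, 1)], [], 1⟩,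
  ⟨272, [(346, 1), (109, 1), (258, 1)], [(5, 1)], [], 1⟩,
  ⟨290, [(309, 1), (22, 1), (244, 1), (346, 1), (216, 0)], [], [], 1⟩]
theorem b45 : Nat.card ↥(centralizer ({w2 x45} : Set ↥M2)) ≤ 26 :=
  (bndT e45 (l := l45) (m := 13) (by (first | (rewrite [Cfsg.Agent.KO0b611ff.e17, Cfsg.Agent.KO0b611ff.e18, Cfsg.Agent.KO0b611ff.e19]; decide +kernel) | decide +kernel))).trans (by decide)
theorem o45 : orderOf (wd x45) = 13 := orderOf_eq (pv_pt e45) (ps := [13]) (by norm_num) (by norm_num)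
  (by decide +kernel) (by norm_num)
theorem f45 : fixN (wd x45) = 1 := by
  rw [← pow_one (wd x45), fixN_pow (pv_pt e45)]
  decide +kernel
theorem g45 : fixN (wd x45 ^ 2) = 1 := by
  rw [fixN_pow (pv_pt e45)]
  decide +kernel
theorem a45 : adjN R (wd x45) = 117 := by
  rw [adjN_val (f := lk t45) e45]
  decide +kernel

def x46 : List ℕ := [3, 2, 4, 0, 5, 7, 1]
private def t46 : ℕ := nat_lit 0xa90551861b45116a0fc4e81e84c17a3944391e0c83f41a0a507e56c770272e649c3014320c108688ef16a0a8841422ee0246404a2884507f8200782049c85328e3980b88d1580cc8716e19c390a715f1ec2281a81d0e43b4ab8d70b4030120b8282488349381e60f88c9650282bc4215a1ac1100512020e4f8158a1010534a49100e82508f88f0c639c2a14516004c41169064454620e80924603507f06228c8015808033c308b72f227ca002817e018660a703624c44815156134288071f8254b788c1f0584a80c71d2214b30f40dc0c00f97104a4985000e16c4282e13f00438c6d0382641f41689125c118750d30be26c928102785d0aa0df0a04089506f1661e40c8d90b2328968222d61f03311c1c0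0047087a06c4cc9582f1243b0ae8471342f00893b216178758d22bc264bb10c27a4905d0c11b852c8913015258c3b0fa2983882c0dd2aa13c610c90003ec9a0670ee2c40c1642360dc550900424c4818702265b41701c21e3f89a83b11c5206684b22e1ac419161301b0021462a22e40589d2e40b0940f0086558908621380a45a1091aa3c42087314c5c04413707453c290be15c0484009603c2906300318a3d44316712e404b40560900144f17820a16c1300d2b2340791600724744581615a3dc329360d01e08d0232525b02b8de19603c9190d0ba5d45d8451a85708212c0e22c83d81a2a6360271621f21d4888a825e300a50db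
private theorem e46 : ∀ i : Fin 378, lk t46 i = (wd x46 i : ℕ) := tb_eq (by (first | (rewrite [Cfsg.Agent.KO0b611ff.e20, Cfsg.Agent.KO0b611ff.e21, Cfsg.Agent.KO0b611ff.e24]; decide +kernel) | decide +kernel))
def l46 : List Lv := [⟨361, [], [(1, 1), (2, 1), (3, 0)], [], 14⟩,
  ⟨92, [(180, 1), (376, 1), (52, 1)], [(3, 1), (1, 1)], [], 2⟩,
  ⟨143, [(361, 1), (92, 1), (249, 1), (180, 0)], [(7, 2)], [], 1⟩,
  ⟨140, [(272, 1), (376, 1), (166, 1)], [(5, 1), (1, 0)], [], 1⟩,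
  ⟨216, [(284, 1), (92, 1), (83, 1), (272, 0)], [(3, 1)], [], 1⟩,
  ⟨26, [(361, 1), (180, 1), (140, 1), (217, 1), (166, 1)], [], [], 1⟩]
theorem b46 : Nat.card ↥(centralizer ({w2 x46} : Set ↥M2)) ≤ 28 :=
  (bndT e46 (l := l46) (m := 14) (by (first | (rewrite [Cfsg.Agent.KO0b611ff.e17, Cfsg.Agent.KO0b611ff.e18, Cfsg.Agent.KO0b611ff.e19]; decide +kernel) | decide +kernel))).trans (by decide)
theorem o46 : orderOf (wd x46) = 14 := orderOf_eq (pv_pt e46) (ps := [2, 7]) (by norm_num) (by norm_num)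
  (by decide +kernel) (by norm_num)
theorem f46 : fixN (wd x46) = 0 := by
  rw [← pow_one (wd x46), fixN_pow (pv_pt e46)]
  decide +kernel
theorem g46 : fixN (wd x46 ^ 2) = 0 := by
  rw [fixN_pow (pv_pt e46)]
  decide +kernel
theorem a46 : adjN R (wd x46) = 126 := by
  rw [adjN_val (f := lk t46) e46]
  decide +kernel

def x47 : List ℕ := [1, 0, 4, 6, 5, 2]
private def t47 : ℕ := nat_lit 0x8610f1cc5e4a812c0821981f1680e83b87a94904e1208f943242184af1661fc164199381b05c8350e408e4489490a29e0f07d9171de13c3602a2da518a11602041509285b2b40d09d0db088550729050ca4bcba11507a134a60ed2de46c120f80e0504b19000a44982f15606a4e46f06b0840dc8b1081c4544bb9312401549b05f2c437cac8fd0641cc8c14b1ec5b02513b04a3c0aa90d06c19cba8e12261149595d2be4dc940ff1b81702b8311f25a82606f23a5149e02b1e4440b983829a0fc7186320c4b83110426a560298d92485941806e2385207996e09c4f4140f11902a44e8ce14c268658a31402f406882186028458c00201e4400930001dc4b0061122400181718e2700d0ca1320506689f16433c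428ac1a4238578d50f82184a0020fa25c0408f1220145401613c2880989b14a064508201781fc118b91100745b0761760306881e1622fc418950022d4078d70362b86107a13001c5c0091a8084558c511824802127202368ad9672641802b02d0e25ac759471e80a48c84b280424bb04025a0ec7486921c54c2e9641c048c2c1332b840c1791e1ee3a83685004c528b493e0d0450a71300743a08597108655c288dd0b43f09a1222c20b8a20491d8468b802c0e43e89f8642225488397808c4a81c8e718802c450c10221e05f00e102358580751a62b4438d01661f8090a7192060520cc02a2a8630b40381ec5b82211a2e80f884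
private theorem e47 : ∀ i : Fin 378, lk t47 i = (wd x47 i : ℕ) := tb_eq (by decide +kernel)
def l47 : List Lv := [⟨240, [], [(3, 1), (6, 1), (1, 0)], [], 30⟩,
  ⟨143, [(91, 1), (345, 1), (297, 1), (101, 0)], [(5, 0)], [], 1⟩,
  ⟨140, [(164, 1), (270, 1), (297, 1), (281, 0)], [(5, 0)], [], 1⟩,
  ⟨216, [(91, 1), (328, 1), (101, 1), (345, 1), (222, 0)], [], [], 1⟩,
  ⟨26, [(140, 1), (270, 1), (194, 1)], [(5, 2)], [], 1⟩,
  ⟨272, [(140, 1), (222, 1), (101, 1)], [(1, 1)], [], 1⟩]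
theorem b47 : Nat.card ↥(centralizer ({w2 x47} : Set ↥M2)) ≤ 30 :=
  (bndT e47 (l := l47) (m := 15) (by (first | (rewrite [Cfsg.Agent.KO0b611ff.e17, Cfsg.Agent.KO0b611ff.e18, Cfsg.Agent.KO0b611ff.e19]; decide +kernel) | decide +kernel))).trans (by decide)
theorem o47 : orderOf (wd x47) = 15 := orderOf_eq (pv_pt e47) (ps := [3, 5]) (by norm_num) (by norm_num)
  (by decide +kernel) (by norm_num)
theorem f47 : fixN (wd x47) = 0 := by
  rw [← pow_one (wd x47), fixN_pow (pv_pt e47)]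
  decide +kernel
theorem g47 : fixN (wd x47 ^ 2) = 0 := by
  rw [fixN_pow (pv_pt e47)]
  decide +kernel
theorem a47 : adjN R (wd x47) = 108 := by
  rw [adjN_val (f := lk t47) e47]
  decide +kernel

def x48 : List ℕ := [2, 1, 3, 2, 6, 5, 7, 1, 2, 4, 6, 3, 2, 1, 7, 0, 1, 4]
private def t48 : ℕ := nat_lit 0x4c1590e2250ae872120560368d82e42b41f05402250c7d8cc1962c807836276364bb0581f45444312329a1e89115511249c118f020235c1916b1444c42004820a580121381c8060608ba22e1943c11f0cc2108d86a10e4345c8262be04c9984c1843a00d8cf1465a81f8fd2603ac1700b1ea37858059282324bc83d2b84584b957220248ad9131263dc2b17819c0305793d06e3701601609c39c5e1652682fc8307b28c16c451490bc1f8a6061208114b60ec25a0bc108a91a410c790d42d24ac0e9030622943408323a1a44791c0c81dc8c01516e3109d0271ca58c8604f19a0e4ba80a1c03cc589400aa15c1d80d1ec4f8651731ba2ac3610f2ac454ad0742bc1c0890fe1a04a42202206a5b4538ee17612c9b01420e384619640502384e804142020410000ec2649a9670340ac858b81c41245e92c0385a0768d608e0d05510013c22c0285d23454c9406b2901f00089a2325382d06328a4800309f0fe5483011e296490339081d20642513216c588148c52a823493150102494a78752423a89502d2dc3fc210a61aa078688fc25c080230301505c07885f28e2302e1440fa188a508009a598851390543985a0be024508071740782cc7c0db18c1484890e0dc2548a06f12c4443993c07037cb88f40a2024560c802e094280b51c6584601372124087781f2de0cc6984125e2903c80213601c50085138220018102ee4fc638531b42b87c83a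
private theorem e48 : ∀ i : Fin 378, lk t48 i = (wd x48 i : ℕ) := tb_eq (by (first | (rewrite [Cfsg.Agent.KO0b611ff.e20, Cfsg.Agent.KO0b611ff.e21, Cfsg.Agent.KO0b611ff.e24]; decide +kernel) | decide +kernel))
def l48 : List Lv := [⟨134, [], [(3, 0), (1, 0), (2, 1)], [], 27⟩,
  ⟨271, [(213, 1), (159, 1), (124, 1)], [(5, 0), (3, 1)], [], 2⟩,
  ⟨202, [(213, 1), (258, 1), (271, 1), (294, 1), (134, 0)], [], [], 2⟩,
  ⟨143, [(349, 1), (345, 1), (196, 1)], [(6, 2)], [], 1⟩,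
  ⟨216, [(134, 1), (373, 1), (91, 1), (230, 1), (202, 1)], [], [], 1⟩,
  ⟨272, [(373, 1), (222, 1), (202, 0)], [(3, 2)], [], 1⟩]
theorem b48 : Nat.card ↥(centralizer ({w2 x48} : Set ↥M2)) ≤ 108 :=
  (bndT e48 (l := l48) (m := 18) (by (first | (rewrite [Cfsg.Agent.KO0b611ff.e17, Cfsg.Agent.KO0b611ff.e18, Cfsg.Agent.KO0b611ff.e19]; decide +kernel) | decide +kernel))).trans (by decide)
theorem o48 : orderOf (wd x48) = 18 := orderOf_eq (pv_pt e48) (ps := [2, 3]) (by norm_num) (by norm_num)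
  (by decide +kernel) (by norm_num)
theorem f48 : fixN (wd x48) = 0 := by
  rw [← pow_one (wd x48), fixN_pow (pv_pt e48)]
  decide +kernel
theorem g48 : fixN (wd x48 ^ 2) = 6 := by
  rw [fixN_pow (pv_pt e48)]
  decide +kernel
theorem a48 : adjN R (wd x48) = 144 := by
  rw [adjN_val (f := lk t48) e48]
  decide +kernel

def x49 : List ℕ := [2, 1, 7, 2, 6, 2, 1, 4, 3, 0]
private def t49 : ℕ := nat_lit 0x9d10b0dc0545c0912c60ac870452943606800319a3c0a785606a0c81788c0f22049e9432802785701c0ba3e4961280745a0100b01325bc1b1272543d8308c31822fcad1572ba38c748e61be5141f85129c3ac6400119e1b483932224090b309317805c0580f01a290530a80f62384307126e4144b81217643cb102c1b411ca58c71ac018298ed2a45e4b99760f4208450ff2043f00f8a11564b82f0fa2dc4881e89f03a2cc92169078180958f81802f862848096138ac95c2ac100701441dc150aa0d219c01c9a87321a59c888260342585c88d10a1f40880c01429c548a22101d09a0b5128060151102c85306c846000328699550b23a88b91d23420c458780d6194340b104426c7d92d0be0d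cb592515a270118392425b07b8622522f4620c21ca3a07104c09213ca30411bc544788570083546590a2701c0129652262d80a09005c0c41a11923847cb89772e840c800fd0d21983193f2844f0550a314a2103e08f01c024080552a03b0660021ae370a384422809caf89516e04c3790c266410808fe1001d4441722f05d40c8ba12458414115272418390d400a318791530a410ca40db0fc2243b13e2765041683306016c7a92f2460ecb809d164078b50382404c07a05a0362b04d04d094140af1582b6390708e71300585a1162c00a436136212324688080b03bca68dd084524438770fe1903386a23c46c8c1262da0f82e1311e6280108af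
private theorem e49 : ∀ i : Fin 378, lk t49 i = (wd x49 i : ℕ) := tb_eq (by (first | (rewrite [Cfsg.Agent.KO0b611ff.e20, Cfsg.Agent.KO0b611ff.e21, Cfsg.Agent.KO0b611ff.e24]; decide +kernel) | decide +kernel))
def l49 : List Lv := [⟨234, [], [(2, 1), (3, 1), (4, 1)], [], 36⟩,
  ⟨98, [(234, 1), (334, 1), (103, 1), (183, 1)], [(3, 1)], [], 2⟩,
  ⟨140, [(198, 1), (334, 1), (103, 1), (303, 1), (46, 0)], [], [], 1⟩,
  ⟨26, [(234, 1), (198, 1), (246, 1)], [(1, 1)], [], 1⟩,
  ⟨290, [(356, 1), (78, 1)], [(9, 2), (4, 0)], [], 1⟩]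
theorem b49 : Nat.card ↥(centralizer ({w2 x49} : Set ↥M2)) ≤ 72 :=
  (bndT e49 (l := l49) (m := 18) (by (first | (rewrite [Cfsg.Agent.KO0b611ff.e17, Cfsg.Agent.KO0b611ff.e18, Cfsg.Agent.KO0b611ff.e19]; decide +kernel) | decide +kernel))).trans (by decide)
theorem o49 : orderOf (wd x49) = 18 := orderOf_eq (pv_pt e49) (ps := [2, 3]) (by norm_num) (by norm_num)
  (by decide +kernel) (by norm_num)
theorem f49 : fixN (wd x49) = 2 := by
  rw [← pow_one (wd x49), fixN_pow (pv_pt e49)]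
  decide +kernel
theorem g49 : fixN (wd x49 ^ 2) = 6 := by
  rw [fixN_pow (pv_pt e49)]
  decide +kernel
theorem a49 : adjN R (wd x49) = 126 := by
  rw [adjN_val (f := lk t49) e49]
  decide +kernel

def x50 : List ℕ := [0, 2, 3, 4, 1, 7, 6]
private def t50 : ℕ := nat_lit 0x3d0652b0070838dd16c4b82905b18e4d08c0e301624820969070268980011d637c1713c0f8234ba84c046450770b807c528b60ce04e03072904274114578d728e1548691103450c408350fe2986081e0300185d09f1aa2b86489320439c8e8250861786284b2b22a8331741120c09f0820d6578941120101c0509482e011c4a11b1d20341415116634ca60592124580b13f11e0c43e972092484098e00dc4c4680ad0804cc050e21fc244a785c25a0dc4d8dc0043b03c82f27a21c540c32464207687207815c2e8420483fc7211a27054cb704e2b83003497714a0cca087e1141a0ad8f902e3bcb283d1a82c8a902a23c39807939196180b10711763d8101271080d0a10852f013c7b90c00e58c500560c45504a8111d0404158cd2da1cc5c9670444947d8322802303b8a417e3d4880da2c24aca316829a4c87e0e122e240630ab19e514288992540d85a1600d83a86c80020a43c091201e806cab0be0905c4518632761d81688e2b419c3a14b13a490021152922f01d0501065e47901f2264d84c0291945542310023e0383c04a2e61b46892c24436c0a05316a4bcab87b0c83780e906158168b514e07e3207e809232200610a70de1501c9261e042c690b7138310440a90060840a82612c4d42f8b12d611066150116134bb1660b02787d005214358b203b2ba218350f11f00641613712e1845816f020470819442be4a45e8751443607990e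
private theorem e50 : ∀ i : Fin 378, lk t50 i = (wd x50 i : ℕ) := tb_eq (by (first | (rewrite [Cfsg.Agent.KO0b611ff.e20, Cfsg.Agent.KO0b611ff.e21, Cfsg.Agent.KO0b611ff.e24]; decide +kernel) | decide +kernel))
def l50 : List Lv := [⟨247, [], [(2, 1), (1, 1)], [], 54⟩,
  ⟨33, [(247, 1), (139, 1), (298, 1)], [(4, 1)], [], 2⟩,
  ⟨140, [(169, 1), (298, 1), (155, 1)], [(8, 1), (1, 1)], [], 1⟩,
  ⟨26, [(169, 1), (126, 1), (247, 0), (155, 1)], [(2, 1)], [], 1⟩,
  ⟨272, [(48, 1), (140, 1), (139, 1)], [(6, 2)], [], 1⟩]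
theorem b50 : Nat.card ↥(centralizer ({w2 x50} : Set ↥M2)) ≤ 108 :=
  (bndT e50 (l := l50) (m := 18) (by (first | (rewrite [Cfsg.Agent.KO0b611ff.e17, Cfsg.Agent.KO0b611ff.e18, Cfsg.Agent.KO0b611ff.e19]; decide +kernel) | decide +kernel))).trans (by decide)
theorem o50 : orderOf (wd x50) = 18 := orderOf_eq (pv_pt e50) (ps := [2, 3]) (by norm_num) (by norm_num)
  (by decide +kernel) (by norm_num)
theorem f50 : fixN (wd x50) = 3 := by
  rw [← pow_one (wd x50), fixN_pow (pv_pt e50)]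
  decide +kernel
theorem g50 : fixN (wd x50 ^ 2) = 3 := by
  rw [fixN_pow (pv_pt e50)]
  decide +kernel
theorem a50 : adjN R (wd x50) = 117 := by
  rw [adjN_val (f := lk t50) e50]
  decide +kernel

def x51 : List ℕ := [1, 0, 2, 3, 7, 4, 2, 5, 6, 2]
private def t51 : ℕ := nat_lit 0xb20d6076258a805f20c3780e96f1900a44f1490da3cc780151882f46108b1061e00480e020250a905b21a370111611aa0f04c9450d83e4778172da334158850fa234708e41ce0d01882e2103680f1671ae0dc491510c03d8758162d0324120a02941b83b0890fc564ae1560d218c330b50a64bc9a844162454021241600fc9b12c0b02f09300321c288538a909a1402511c23247c9a0471644440112517415c9592a0a22d0940082242bc2293a09e1242611a23a45c9e14227e44003123172154969390822cc9380122c2b8211322621585c1412764f82404b09c2a8528a30e852c4e8261985ac0c8f11f0184a7098074344b30211b042c400880ea5d8bc97320040c7e82a18e5c00d0ec1f61c8a309f06c33cb001c1ba41c2e14f1225e0b91752043f07f88f0f82100c0ed1ea1cca389b05032cb48201be4242e94d1260f868163022030050e51c43a07f1012081ac340652b6560af07a1042281803305a3005f0c52e25d0bb86212a5500d9051b20f4b28d40e2268a60131ee3b81296e18c1fc3b8871c6398748350640bc1190c1c00e0b10d30bc240a98121e83a81396c19c1c05094801e02c068c11862fc3c88c1020e4af8d20b425caa81f21436c1616a1941bc4e1440283e8790640ce1a8470860f6574ab95a242450039301761645593808643c900002662b4200b625c1488f1182362a0520a62864f4a01371581185b9290a844c91005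
private theorem e51 : ∀ i : Fin 378, lk t51 i = (wd x51 i : ℕ) := tb_eq (by (first | (rewrite [Cfsg.Agent.KO0b611ff.e20, Cfsg.Agent.KO0b611ff.e21, Cfsg.Agent.KO0b611ff.e24]; decide +kernel) | decide +kernel))
def l51 : List Lv := [⟨245, [], [(3, 1), (5, 1), (1, 0)], [], 40⟩,
  ⟨143, [(245, 1), (159, 1), (294, 1), (290, 1), (232, 1)], [], [], 1⟩,
  ⟨140, [(159, 1), (277, 1), (167, 1)], [(10, 2)], [], 1⟩,
  ⟨216, [(167, 1), (1, 1), (126, 1), (245, 0)], [(2, 0)], [], 1⟩,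
  ⟨272, [(13, 1), (69, 1), (258, 1), (159, 0)], [(1, 1)], [], 1⟩]
theorem b51 : Nat.card ↥(centralizer ({w2 x51} : Set ↥M2)) ≤ 40 :=
  (bndT e51 (l := l51) (m := 20) (by (first | (rewrite [Cfsg.Agent.KO0b611ff.e17, Cfsg.Agent.KO0b611ff.e18, Cfsg.Agent.KO0b611ff.e19]; decide +kernel) | decide +kernel))).trans (by decide)
theorem o51 : orderOf (wd x51) = 20 := orderOf_eq (pv_pt e51) (ps := [2, 5]) (by norm_num) (by norm_num)
  (by decide +kernel) (by norm_num)
theorem f51 : fixN (wd x51) = 1 := by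
  rw [← pow_one (wd x51), fixN_pow (pv_pt e51)]
  decide +kernel
theorem g51 : fixN (wd x51 ^ 2) = 3 := by
  rw [fixN_pow (pv_pt e51)]
  decide +kernel
theorem a51 : adjN R (wd x51) = 117 := by
  rw [adjN_val (f := lk t51) e51]
  decide +kernel

end Cfsg.Agent.H235.QS.O7C
end

-- part: H264/QS/CoSieve
section
prune_inst 0x4f5206d607562020000000514a0203c26ee000592006b0c00fce10d420d8ffb0289c20740eeb01d13524a828100050420000000b0400000000a00000000040100182812049048ad00300098003084000000000000000000000000000000051004000000000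
set_option linter.all false
open scoped Cfsg.Agent.FastGrp

-- part: H264/QS/Signed
section
/-!
# The sieve in a double cover with one character split off (helper264, for S2491, S2492)

* `prd_signed` : `|ker π| = 2`, `ν` is a function with `ν(1) = m`, `ν(x) = 1`, `ν(g) = r`, and every irreducible character of `L`
  which is nontrivial on the kernel and of degree prime to `p` is `ν` or of degree at least `d₂`: then
  `A / d₁ + B / d₂ < 1 + t / m` (`t ≤ 0`, `t ≤ r`, `(S - 1) (c - 1) ≤ A²`, `S c ≤ B²`, `|C_K(π g)| ≤ c`) gives `Prd x x⁻¹ g`.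
-/

set_option autoImplicit false
set_option linter.unusedSectionVars false

namespace Cfsg.Agent.H264.QS

open Cfsg Cfsg.Agent.Characters Subgroup Cfsg.Agent.H65.Ore Cfsg.Agent.H113.QS
open scoped ComplexConjugate

universe u v

variable {L : Type u} [Group L] [Finite L] {K : Type v} [Group K] [Finite K] {π : L →* K}

theorem irr_inv (χ : IrrCharacter L) (x : L) : (χ : L → ℂ) x⁻¹ = conj ((χ : L → ℂ) x) :=
  Core.isCharacter_apply_inv (Core.isIrr_isCharacter χ.2) x

/-- **The signed sieve.** -/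
theorem prd_signed {p S : ℕ} (h : SZ L π.ker p S) (hs : Function.Surjective π) (hc : π.ker ≤ center L)
    (hk : Nat.card π.ker = 2) {x g : L} (hx : orderOf x = p) {ν : L → ℂ} {m : ℕ} (hm : 0 < m) (hν1 : ν 1 = m)
    (hνx : ν x = 1) {r t : ℝ} (hνg : ν g = (r : ℂ)) (ht0 : t ≤ 0) (htr : t ≤ r) {d₁ d₂ : ℕ} (hd₁ : 0 < d₁) (hd₂ : 0 < d₂)
    (H1 : ∀ ψ : IrrCharacter K, (ψ : K → ℂ) ≠ 1 → ¬ p ∣ charDegree (ψ : K → ℂ) → d₁ ≤ charDegree (ψ : K → ℂ))
    (H2 : ∀ χ : IrrCharacter L, (∃ z ∈ π.ker, (χ : L → ℂ) z ≠ (χ : L → ℂ) 1) → ¬ p ∣ charDegree (χ : L → ℂ) →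
      (χ : L → ℂ) = ν ∨ d₂ ≤ charDegree (χ : L → ℂ))
    {c : ℕ} (hcard : Nat.card (centralizer ({π g} : Set K)) ≤ c) {A B : ℝ} (hA0 : 0 ≤ A)
    (hA : ((S : ℝ) - 1) * ((c : ℝ) - 1) ≤ A ^ 2) (hB0 : 0 ≤ B) (hB : (S : ℝ) * c ≤ B ^ 2)
    (hsum : A / d₁ + B / d₂ < 1 + t / m) : Prd x x⁻¹ g := by
  classical
  have : Finite (IrrCharacter L) := Core.finite_irr
  have := Fintype.ofFinite (IrrCharacter L)
  have : Finite (IrrCharacter π.ker) := Core.finite_irr
  have := Fintype.ofFinite (IrrCharacter π.ker)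
  have hmR : (0 : ℝ) < m := by exact_mod_cast hm
  have hd₁R : (0 : ℝ) < d₁ := by exact_mod_cast hd₁
  have hd₂R : (0 : ℝ) < d₂ := by exact_mod_cast hd₂
  have hx' : orderOf x⁻¹ = p := by rw [orderOf_inv, hx]
  -- the central characters
  have h2 : Fintype.card (IrrCharacter π.ker) = 2 := by
    rw [← Nat.card_eq_fintype_card, card_irr_ker hc, hk]
  obtain ⟨θ, hθ⟩ := Finset.card_eq_one.1 (show (Finset.univ.erase (one1 π.ker)).card = 1 by
    rw [Finset.card_erase_of_mem (Finset.mem_univ _), Finset.card_univ, h2])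
  have hθ1 : θ ≠ one1 π.ker := by
    have : θ ∈ Finset.univ.erase (one1 π.ker) := by rw [hθ]; exact Finset.mem_singleton_self _
    exact Finset.ne_of_mem_erase this
  apply prd_of_ne_zero
  set f : IrrCharacter L → ℂ := fun χ => (χ : L → ℂ) x * (χ : L → ℂ) x⁻¹ * conj ((χ : L → ℂ) g) / (χ : L → ℂ) 1 with hf
  intro h0
  have hnf : ∀ χ : IrrCharacter L, ‖f χ‖ = ‖(χ : L → ℂ) x‖ * ‖(χ : L → ℂ) x⁻¹‖ * ‖(χ : L → ℂ) g‖ / ‖(χ : L → ℂ) 1‖ := by
    intro χ
    rw [hf]
    simp only [norm_div, norm_mul, Complex.norm_conj]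
  have ht1 : one1 L ∈ ov π.ker (one1 π.ker : π.ker → ℂ) := mem_ov.2 one_lies
  have hsplit : f (one1 L) + ∑ χ ∈ (ov π.ker (one1 π.ker : π.ker → ℂ)).erase (one1 L), f χ +
      ∑ χ ∈ ov π.ker (θ : π.ker → ℂ), f χ = 0 := by
    rw [← h0, sum_split hc f, ← Finset.add_sum_erase Finset.univ _ (Finset.mem_univ (one1 π.ker)), hθ,
      Finset.sum_singleton, Finset.add_sum_erase _ _ ht1]
  have hf1 : f (one1 L) = 1 := by
    rw [hf]
    simp [one1_apply]
  have hcR : (Nat.card (centralizer ({π g} : Set K)) : ℝ) ≤ c := by exact_mod_cast hcard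
  -- the trivial central character
  have e4 : ∀ z : L, orderOf z = p →
      ∑ χ ∈ (ov π.ker (one1 π.ker : π.ker → ℂ)).erase (one1 L), ‖(χ : L → ℂ) z‖ ^ 4 ≤ (S : ℝ) - 1 := by
    intro z hz
    have h1 := h.four z hz (one1 π.ker)
    rw [← Finset.add_sum_erase _ _ ht1] at h1
    simp only [one1_apply, norm_one, one_pow] at h1
    linarith only [h1]
  have e2 : ∑ χ ∈ (ov π.ker (one1 π.ker : π.ker → ℂ)).erase (one1 L), ‖(χ : L → ℂ) g‖ ^ 2 ≤ (c : ℝ) - 1 := by
    have h1 := sum_lies_sq_le hs hc (one1 π.ker) g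
    rw [← Finset.add_sum_erase _ _ ht1] at h1
    simp only [one1_apply, norm_one, one_pow] at h1
    linarith only [hcR, h1]
  have b1 : ‖∑ χ ∈ (ov π.ker (one1 π.ker : π.ker → ℂ)).erase (one1 L), f χ‖ ≤ A / d₁ := by
    refine (norm_sum_le _ _).trans ?_
    simp only [hnf]
    refine (block_le hd₁R (fun χ hχ h1 _ => ?_) (e4 x hx) (e4 x⁻¹ hx') e2).trans ?_
    · rw [cast_deg, Complex.norm_natCast]
      exact_mod_cast deg_base_le hs H1 χ (mem_ov.1 (Finset.mem_of_mem_erase hχ))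
        (coe_ne_one (Finset.ne_of_mem_erase hχ)) (h.ndvd x hx χ h1)
    · gcongr
      exact Real.sqrt_le_iff.2 ⟨hA0, hA⟩
  -- the other one
  have hnl : ∀ χ ∈ ov π.ker (θ : π.ker → ℂ), ∃ z ∈ π.ker, (χ : L → ℂ) z ≠ (χ : L → ℂ) 1 :=
    fun χ hχ => exists_ne_of_lies hθ1 (mem_ov.1 hχ)
  have b2 : ∀ s : Finset (IrrCharacter L), s ⊆ ov π.ker (θ : π.ker → ℂ) → (∀ χ ∈ s, (χ : L → ℂ) ≠ ν) →
      ‖∑ χ ∈ s, f χ‖ ≤ B / d₂ := by
    intro s hs' hν
    refine (norm_sum_le _ _).trans ?_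
    simp only [hnf]
    have m4 : ∀ z : L, orderOf z = p → ∑ χ ∈ s, ‖(χ : L → ℂ) z‖ ^ 4 ≤ (S : ℝ) := fun z hz =>
      (Finset.sum_le_sum_of_subset_of_nonneg hs' fun _ _ _ => by (clear * -; positivity)).trans (h.four z hz θ)
    have m2 : ∑ χ ∈ s, ‖(χ : L → ℂ) g‖ ^ 2 ≤ (c : ℝ) :=
      (Finset.sum_le_sum_of_subset_of_nonneg hs' fun _ _ _ => by (clear * -; positivity)).trans
        ((sum_lies_sq_le hs hc θ g).trans hcR)
    refine (block_le hd₂R (fun χ hχ h1 _ => ?_) (m4 x hx) (m4 x⁻¹ hx') m2).trans ?_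
    · rw [cast_deg, Complex.norm_natCast]
      have h3 := H2 χ (hnl χ (hs' hχ)) (h.ndvd x hx χ h1)
      exact_mod_cast h3.resolve_left (hν χ hχ)
    · gcongr
      exact Real.sqrt_le_iff.2 ⟨hB0, hB⟩
  -- the two cases
  have main : ∀ (w : ℝ) (R₁ R₂ : ℂ), t ≤ w → ‖R₁‖ ≤ A / d₁ → ‖R₂‖ ≤ B / d₂ →
      1 + R₁ + (((w / m : ℝ) : ℂ) + R₂) = 0 → False := by
    intro w R₁ R₂ hw h1 h2 h3
    have h4 := congrArg Complex.re h3
    simp only [Complex.add_re, Complex.one_re, Complex.ofReal_re, Complex.zero_re] at h4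
    have h5 := (abs_le.1 ((Complex.abs_re_le_norm R₁).trans h1)).1
    have h6 := (abs_le.1 ((Complex.abs_re_le_norm R₂).trans h2)).1
    have h7 : t / m ≤ w / m := by gcongr
    linarith only [hsum, h4, h5, h6, h7]
  rw [hf1] at hsplit
  by_cases hex : ∃ χ ∈ ov π.ker (θ : π.ker → ℂ), (χ : L → ℂ) = ν
  · obtain ⟨χ, hχ, hχν⟩ := hex
    rw [← Finset.add_sum_erase _ _ hχ] at hsplit
    refine main r _ _ htr b1 (b2 _ (Finset.erase_subset χ _) fun ψ hψ h1 =>
      Finset.ne_of_mem_erase hψ (Subtype.ext (h1.trans hχν.symm))) ?_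
    · have h3 : f χ = ((r / m : ℝ) : ℂ) := by
        rw [hf]
        simp only
        rw [irr_inv, hχν, hνx, hνg, hν1, map_one, one_mul, one_mul, Complex.conj_ofReal]
        push_cast
        rfl
      rw [← h3]
      exact hsplit
  · push Not at hex
    refine main 0 _ _ ht0 b1 (b2 _ (Finset.Subset.refl _) hex) ?_
    rw [zero_div, Complex.ofReal_zero, zero_add]
    exact hsplit

end Cfsg.Agent.H264.QS
end

-- part: H264/QS/CoSieve
section
/-!
# E8c: the sieve in `Co0` at `p = 23` (helper264, for S2491, S2492)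

* `nu x = tr8 x / 8` : the trace on the 24-dimensional space;
* `Deg1 d` : the nontrivial irreducible characters of `Co1` of degree prime to 23 have degree at least `d`;
* `Deg2 d` : the faithful irreducible characters of `Co0` of degree prime to 23 are `nu` or have degree at least `d`;
* `isC_of_sieve` : the criterion; `isC_of_bd` : for `d₁ = 1782`, `d₂ = 2048` with a table of bounds for `|C_Co1(mk x)|`:
  `t = 0 : 11007`, `-1 : 10099`, `-2 : 9245`, `-3 : 8420`, `-4 : 7633`, `-5 : 6897`, `-6 : 6183`, `-7 : 5522`, `-8 : 4887`,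
  `-9 : 4294`, `-10 : 3737`, `-11 : 3222`, `-12 : 2752`, `-13 : 2308`, `-14 : 1908`, `-15 : 1544`, `-16 : 1218`,
  where `8 t ≤ tr8 x`.
-/

set_option autoImplicit false

namespace Cfsg.Agent.H264.QS.CoSieve

open Cfsg Cfsg.Agent.Characters Subgroup Cfsg.Agent.H65.Ore Cfsg.Agent.H113.QS
open Cfsg.Agent.H777.Ore (IsC)
open Cfsg.Agent.Co2Type.Mono (tr8)
open Cfsg.Agent.H604.Cop.Conway (r23 s23 pi23 isPerm_r23 fix_iff orderOf_r23 orderOf_s23 card_cent_s23 card_eq not_comm_of_card)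
open Cfsg.Agent.CoOneType.ClosingFacts (mk)
open Cfsg.Agent.SporadicStructure.Co0Base (e8 e8_coe)
open Cfsg.Agent.SporadicA.GolayBase (idx pt)
open Cfsg.Spor (Co1)
open scoped ComplexConjugate

/-- the trace on the 24-dimensional space -/
noncomputable def nu (x : Co0) : ℂ := (tr8 x : ℂ) / 8

/-- the degrees of `Co1` -/
def Deg1 (d : ℕ) : Prop :=
  ∀ ψ : IrrCharacter Co1, (ψ : Co1 → ℂ) ≠ 1 → ¬ 23 ∣ charDegree (ψ : Co1 → ℂ) → d ≤ charDegree (ψ : Co1 → ℂ)

/-- the faithful degrees of `Co0` -/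
def Deg2 (d : ℕ) : Prop :=
  ∀ χ : IrrCharacter Co0, (∃ z ∈ center Co0, (χ : Co0 → ℂ) z ≠ (χ : Co0 → ℂ) 1) → ¬ 23 ∣ charDegree (χ : Co0 → ℂ) →
    (χ : Co0 → ℂ) = nu ∨ d ≤ charDegree (χ : Co0 → ℂ)

theorem nu_one : nu 1 = (24 : ℕ) := by
  rw [nu, SigZeroCo2.Lin.tr8_one]
  norm_num

theorem tr8_r23 : tr8 r23 = 8 := by
  have h1 : ∀ i : GolayPt, ((r23 • e8 i : leechLattice) : GolayPt → ℤ) i = if i = pt 23 then 8 else 0 := by
    intro i
    rw [isPerm_r23 (e8 i) i, e8_coe, Pi.single_apply]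
    have h2 : pi23.symm i = i ↔ i = pt 23 := by
      rw [Equiv.symm_apply_eq]
      constructor
      · intro h
        have h3 := (fix_iff i).1 h.symm
        have h4 : idx (pt 23) = 23 := SporadicA.GolayBase.idx_pt (by norm_num)
        exact SporadicA.GolayBase.idx_injective (h3.trans h4.symm)
      · rintro rfl
        exact H604.Cop.Conway.pi23_fix.symm
    by_cases h : i = pt 23
    · rw [if_pos h, if_pos (h2.2 h)]
    · rw [if_neg h, if_neg fun h' => h (h2.1 h')]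
  unfold tr8
  rw [Finset.sum_congr rfl fun i _ => h1 i, Finset.sum_ite_eq' Finset.univ (pt 23) fun _ => (8 : ℤ),
    if_pos (Finset.mem_univ _)]

theorem nu_r23 : nu r23 = 1 := by
  rw [nu, tr8_r23]
  norm_num

theorem chk : chkSC 4157776806543360000 23 11 2 83 = true := by decide +kernel

theorem finite_co1 : Finite Co1 := by
  have := CpAutBig.CoZero.finite_co0
  exact Quotient.finite _

/-- **The moments.** -/
theorem sz : SZ Co0 (QuotientGroup.mk' (center Co0)).ker 23 83 := by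
  have := CpAutBig.CoZero.finite_co0
  have := finite_co1
  have hs : IsSimpleGroup Co1 := Cfsg.Agent.S0399.result.1
  have hcard : Nat.card Co1 = 4157776806543360000 := Cfsg.Agent.S0399.result.2
  refine (SZ.lift (K := Co1) (π := QuotientGroup.mk' (center Co0)) (x₀ := s23) (not_comm_of_card (by rw [hcard]; norm_num))
    (QuotientGroup.mk'_surjective _) (by rw [QuotientGroup.ker_mk']) (by norm_num) hcard orderOf_s23
    ((card_eq orderOf_s23 card_cent_s23).trans orderOf_s23) ?_ 11 2 83 chk).1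
  rw [QuotientGroup.ker_mk', show Nat.card (center Co0) = 2 from Cfsg.Agent.S0398.result]
  norm_num

/-- **The sieve.** -/
theorem isC_of_sieve {d₁ d₂ : ℕ} (H1 : Deg1 d₁) (H2 : Deg2 d₂) {x : Co0} {c : ℕ}
    (hc : Nat.card (centralizer ({_root_.Cfsg.Agent.CoOneType.ClosingFacts.mk x} : Set Co1)) ≤ c) {t : ℤ} (ht0 : t ≤ 0) (htx : 8 * t ≤ tr8 x) (A B : ℕ)
    (hA : 82 * (c - 1) ≤ A ^ 2) (hB : 83 * c ≤ B ^ 2)
    (hnum : 24 * ((A * d₂ + B * d₁ : ℕ) : ℤ) < (24 + t) * ((d₁ * d₂ : ℕ) : ℤ)) : IsC x := by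
  have := CpAutBig.CoZero.finite_co0
  have := finite_co1
  have hpos : 0 < d₁ ∧ 0 < d₂ := by
    have h1 : (0 : ℤ) ≤ 24 * ((A * d₂ + B * d₁ : ℕ) : ℤ) := by (clear * -; positivity)
    rcases Nat.eq_zero_or_pos d₁ with h2 | h2
    · rw [h2, zero_mul, Nat.cast_zero, mul_zero, mul_zero, add_zero] at hnum
      have : (0 : ℤ) ≤ ((A * d₂ : ℕ) : ℤ) := by positivity
      omega
    · rcases Nat.eq_zero_or_pos d₂ with h3 | h3
      · rw [h3, mul_zero, mul_zero, Nat.cast_zero, mul_zero, zero_add] at hnum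
        have : (0 : ℤ) ≤ ((B * d₁ : ℕ) : ℤ) := by positivity
        omega
      · exact ⟨h2, h3⟩
  have hc1 : 1 ≤ c := le_trans (Nat.card_pos (α := centralizer ({_root_.Cfsg.Agent.CoOneType.ClosingFacts.mk x} : Set Co1))) hc
  refine (prd_signed (K := Co1) (π := QuotientGroup.mk' (center Co0)) (x := r23) (g := x) (ν := nu) (m := 24)
    (r := (tr8 x : ℝ) / 8) (t := (t : ℝ)) (d₁ := d₁) (d₂ := d₂) (c := c) (A := (A : ℝ)) (B := (B : ℝ)) sz
    (QuotientGroup.mk'_surjective _) (by rw [QuotientGroup.ker_mk'])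
    (by rw [QuotientGroup.ker_mk']; exact Cfsg.Agent.S0398.result) orderOf_r23 (by norm_num) nu_one nu_r23
    (by rw [nu]; push_cast; rfl) (by exact_mod_cast ht0) ?_ hpos.1 hpos.2 H1 ?_ hc (by positivity) ?_ (by positivity) ?_ ?_).comm
  · have h1 : ((8 * t : ℤ) : ℝ) ≤ (tr8 x : ℝ) := by exact_mod_cast htx
    push_cast at h1
    linarith only [h1]
  · intro χ h1 h2
    rw [QuotientGroup.ker_mk'] at h1
    exact H2 χ h1 h2
  · have h1 : ((82 * (c - 1) : ℕ) : ℝ) ≤ ((A ^ 2 : ℕ) : ℝ) := by exact_mod_cast hA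
    rw [Nat.cast_mul, Nat.cast_sub hc1] at h1
    push_cast at h1
    norm_num
    linarith only [h1]
  · have h1 : ((83 * c : ℕ) : ℝ) ≤ ((B ^ 2 : ℕ) : ℝ) := by exact_mod_cast hB
    push_cast at h1
    exact_mod_cast h1
  · have h1 : (0 : ℝ) < d₁ := by exact_mod_cast hpos.1
    have h2 : (0 : ℝ) < d₂ := by exact_mod_cast hpos.2
    have h3 : ((24 * ((A * d₂ + B * d₁ : ℕ) : ℤ) : ℤ) : ℝ) < (((24 + t) * ((d₁ * d₂ : ℕ) : ℤ) : ℤ) : ℝ) := by
      exact_mod_cast hnum
    push_cast at h3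
    rw [div_add_div _ _ h1.ne' h2.ne', div_lt_iff₀ (mul_pos h1 h2)]
    push_cast
    linarith only [h3]

/-- the table of `(t, c, A, B)` for the bounds `1782`, `2048` -/
theorem isC_of_bd (H1 : Deg1 1782) (H2 : Deg2 2048) {x : Co0} {c : ℕ}
    (hc : Nat.card (centralizer ({_root_.Cfsg.Agent.CoOneType.ClosingFacts.mk x} : Set Co1)) ≤ c) {t : ℤ} (htx : 8 * t ≤ tr8 x)
    (h : (t = 0 ∧ c = 11007) ∨ (t = -1 ∧ c = 10099) ∨ (t = -2 ∧ c = 9245) ∨ (t = -3 ∧ c = 8420) ∨ (t = -4 ∧ c = 7633) ∨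
      (t = -5 ∧ c = 6897) ∨ (t = -6 ∧ c = 6183) ∨ (t = -7 ∧ c = 5522) ∨ (t = -8 ∧ c = 4887) ∨ (t = -9 ∧ c = 4294) ∨
      (t = -10 ∧ c = 3737) ∨ (t = -11 ∧ c = 3222) ∨ (t = -12 ∧ c = 2752) ∨ (t = -13 ∧ c = 2308) ∨
      (t = -14 ∧ c = 1908) ∨ (t = -15 ∧ c = 1544) ∨ (t = -16 ∧ c = 1218)) : IsC x := by
  rcases h with ⟨rfl, rfl⟩ | ⟨rfl, rfl⟩ | ⟨rfl, rfl⟩ | ⟨rfl, rfl⟩ | ⟨rfl, rfl⟩ | ⟨rfl, rfl⟩ | ⟨rfl, rfl⟩ | ⟨rfl, rfl⟩ |
    ⟨rfl, rfl⟩ | ⟨rfl, rfl⟩ | ⟨rfl, rfl⟩ | ⟨rfl, rfl⟩ | ⟨rfl, rfl⟩ | ⟨rfl, rfl⟩ | ⟨rfl, rfl⟩ | ⟨rfl, rfl⟩ | ⟨rfl, rfl⟩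
  · exact isC_of_sieve H1 H2 hc (by norm_num) htx 950 956 (by norm_num) (by norm_num) (by norm_num)
  · exact isC_of_sieve H1 H2 hc (by norm_num) htx 910 916 (by norm_num) (by norm_num) (by norm_num)
  · exact isC_of_sieve H1 H2 hc (by norm_num) htx 871 876 (by norm_num) (by norm_num) (by norm_num)
  · exact isC_of_sieve H1 H2 hc (by norm_num) htx 831 836 (by norm_num) (by norm_num) (by norm_num)
  · exact isC_of_sieve H1 H2 hc (by norm_num) htx 792 796 (by norm_num) (by norm_num) (by norm_num)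
  · exact isC_of_sieve H1 H2 hc (by norm_num) htx 752 757 (by norm_num) (by norm_num) (by norm_num)
  · exact isC_of_sieve H1 H2 hc (by norm_num) htx 712 717 (by norm_num) (by norm_num) (by norm_num)
  · exact isC_of_sieve H1 H2 hc (by norm_num) htx 673 677 (by norm_num) (by norm_num) (by norm_num)
  · exact isC_of_sieve H1 H2 hc (by norm_num) htx 633 637 (by norm_num) (by norm_num) (by norm_num)
  · exact isC_of_sieve H1 H2 hc (by norm_num) htx 594 597 (by norm_num) (by norm_num) (by norm_num)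
  · exact isC_of_sieve H1 H2 hc (by norm_num) htx 554 557 (by norm_num) (by norm_num) (by norm_num)
  · exact isC_of_sieve H1 H2 hc (by norm_num) htx 514 518 (by norm_num) (by norm_num) (by norm_num)
  · exact isC_of_sieve H1 H2 hc (by norm_num) htx 475 478 (by norm_num) (by norm_num) (by norm_num)
  · exact isC_of_sieve H1 H2 hc (by norm_num) htx 435 438 (by norm_num) (by norm_num) (by norm_num)
  · exact isC_of_sieve H1 H2 hc (by norm_num) htx 396 398 (by norm_num) (by norm_num) (by norm_num)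
  · exact isC_of_sieve H1 H2 hc (by norm_num) htx 356 358 (by norm_num) (by norm_num) (by norm_num)
  · exact isC_of_sieve H1 H2 hc (by norm_num) htx 316 318 (by norm_num) (by norm_num) (by norm_num)

end Cfsg.Agent.H264.QS.CoSieve
end

private theorem dce_fe075fa5cac1 : _root_.True := by
  try have : _root_.True := by simp only [_root_.Cfsg.Agent.H264.QS.CoSieve.nu.eq_1]
  exact _root_.True.intro
end

-- part: H180/R7/Fam
section
prune_inst 0x100800000000000000000000010000010000000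
set_option linter.all false
open scoped Cfsg.Agent.FastGrp

/-!
# Central products of five extraspecial groups of order 27 (helper180, for the elements of order 9 of `Fi24'`)

`Fam Z Q R` : `Q` is the central product of the groups `R i` of order 27 with centre `Z`.
`s` acts on every `R i`, nontrivially modulo `Z`, and commutes with the involutions `t i`, `t i` inverts `R i` modulo `Z` and
commutes with the other `R j`. Then
* `Act.card_le` : for `g = q s`, `q ∈ Q`, with `g ^ 3 ≠ 1`, `s ^ 3 = 1`: `|C_Q(g)| ≤ 3 ^ 5`;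
* `Inv.mem_Z` : the elements of `Q` commuting with all `t i * t j` belong to `Z`.
-/

set_option autoImplicit false

namespace Cfsg.Agent.H180.R7

open Subgroup Cfsg.Agent.H841.Ext

variable {X : Type*} [Group X]

/-- central product of five groups of order 27 -/
structure Fam (Z Q : Subgroup X) (R : Fin 5 → Subgroup X) : Prop where
  es : ∀ i, ES Z (R i)
  c27 : ∀ i, Nat.card (R i) = 27
  com : Pairwise fun i j : Fin 5 => ∀ x y : X, x ∈ R i → y ∈ R j → Commute x y
  sup : ⨆ i, R i = Q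
  esQ : ES Z Q
  cQ : Nat.card Q = 3 ^ 11

namespace Fam

variable {Z Q : Subgroup X} {R : Fin 5 → Subgroup X}

/-- the product map -/
noncomputable def Phi (F : Fam Z Q R) : (∀ i, ↥(R i)) →* X := Subgroup.noncommPiCoprod F.com

variable (F : Fam Z Q R)

include F

theorem range_Phi : F.Phi.range = Q := by
  rw [show F.Phi.range = (Subgroup.noncommPiCoprod F.com).range from rfl, Subgroup.noncommPiCoprod_range, F.sup]

theorem Phi_apply (v : ∀ i, ↥(R i)) : F.Phi v = Finset.noncommProd Finset.univ (fun i => ((v i : ↥(R i)) : X))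
      (fun i _ j _ hij => F.com hij _ _ (v i).2 (v j).2) :=
  MonoidHom.noncommPiCoprod_apply (hcomm := Subgroup.commute_subtype_of_commute F.com) _ _

theorem Phi_single (i : Fin 5) (y : ↥(R i)) : F.Phi (Pi.mulSingle i y) = y :=
  Subgroup.noncommPiCoprod_mulSingle i y

theorem commute_Phi {y : X} {v : ∀ i, ↥(R i)} (h : ∀ i, Commute y (v i : X)) : Commute y (F.Phi v) := by
  rw [F.Phi_apply]
  exact Finset.noncommProd_commute _ _ _ _ fun i _ => h i

/-- splitting off a coordinate -/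
theorem Phi_split (v : ∀ i, ↥(R i)) (i : Fin 5) : ∃ w : ∀ i, ↥(R i), w i = 1 ∧ (∀ j, j ≠ i → w j = v j) ∧
    F.Phi v = (v i : X) * F.Phi w := by
  refine ⟨(Pi.mulSingle i (v i))⁻¹ * v, ?_, ?_, ?_⟩
  · rw [Pi.mul_apply, Pi.inv_apply, Pi.mulSingle_eq_same, inv_mul_cancel]
  · intro j hj
    rw [Pi.mul_apply, Pi.inv_apply, Pi.mulSingle_eq_of_ne hj, inv_one, one_mul]
  · rw [map_mul, map_inv, F.Phi_single, mul_inv_cancel_left]

/-- commuting with a member of `R i` -/
theorem commute_iff {v : ∀ i, ↥(R i)} {i : Fin 5} {y : X} (hy : y ∈ R i) :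
    Commute y (F.Phi v) ↔ Commute y (v i : X) := by
  obtain ⟨w, hw, hw', e⟩ := F.Phi_split v i
  have h1 : Commute y (F.Phi w) := by
    apply F.commute_Phi
    intro j
    by_cases hj : j = i
    · subst hj; rw [hw]; exact Commute.one_right _
    · exact F.com (Ne.symm hj) _ _ hy (w j).2
  rw [e]
  constructor
  · intro h
    have h2 := h.mul_right h1.inv_right
    rwa [mul_inv_cancel_right] at h2
  · intro h
    exact h.mul_right h1

theorem mem_range {q : X} : q ∈ Q ↔ ∃ v, F.Phi v = q := by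
  have h : q ∈ Q ↔ q ∈ F.Phi.range := by rw [F.range_Phi]
  rw [h]
  rfl

/-- `Phi v ∈ Z` -/
theorem mem_Z {v : ∀ i, ↥(R i)} (h : F.Phi v ∈ Z) (i : Fin 5) : (v i : X) ∈ Z := by
  apply (F.es i).nd _ (v i).2
  intro y hy
  exact ((F.commute_iff hy).1 ((F.es i).cen _ h y hy).symm).symm

theorem Phi_mem_Z {v : ∀ i, ↥(R i)} (h : ∀ i, (v i : X) ∈ Z) : F.Phi v ∈ Z := by
  rw [F.Phi_apply]
  exact Subgroup.noncommProd_mem _ _ fun i _ => h i

theorem cen {ζ q : X} (h : ζ ∈ Z) (hq : q ∈ Q) : Commute ζ q := by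
  obtain ⟨v, rfl⟩ := F.mem_range.1 hq
  exact F.commute_Phi fun i => (F.es i).cen _ h _ (v i).2

theorem finite (i : Fin 5) : Finite (R i) := Nat.finite_of_card_ne_zero (by rw [F.c27 i]; norm_num)

theorem card_pi : Nat.card (∀ i, ↥(R i)) = 3 ^ 15 := by
  have := fun i => F.finite i
  rw [Nat.card_pi]
  simp only [F.c27]
  norm_num

theorem card_ker : Nat.card F.Phi.ker = 3 ^ 4 := by
  have h1 := Subgroup.card_eq_card_quotient_mul_card_subgroup F.Phi.ker
  have h2 := F.range_Phi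
  rw [Nat.card_congr (QuotientGroup.quotientKerEquivRange F.Phi).toEquiv, h2, F.cQ, F.card_pi] at h1
  have h3 : (3 : ℕ) ^ 15 = 3 ^ 11 * 3 ^ 4 := by norm_num
  rw [h3] at h1
  exact (Nat.eq_of_mul_eq_mul_left (by positivity) h1).symm

/-- the preimage of a subgroup of `Q` -/
theorem card_comap {C : Subgroup X} (hC : C ≤ Q) : Nat.card (C.comap F.Phi) = Nat.card C * 3 ^ 4 := by
  have h2 := F.range_Phi
  let f : ↥(C.comap F.Phi) →* ↥C := (F.Phi.comp (C.comap F.Phi).subtype).codRestrict C fun a => a.2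
  have hf : Function.Surjective f := by
    rintro ⟨c, hc⟩
    obtain ⟨v, hv⟩ := F.mem_range.1 (hC hc)
    have hm : v ∈ C.comap F.Phi := by rw [Subgroup.mem_comap, hv]; exact hc
    exact ⟨⟨v, hm⟩, Subtype.ext (show F.Phi v = c from hv)⟩
  have h1 := Subgroup.card_eq_card_quotient_mul_card_subgroup f.ker
  rw [Nat.card_congr (QuotientGroup.quotientKerEquivOfSurjective f hf).toEquiv] at h1
  rw [h1, ← F.card_ker]
  congr 1
  have hm : ∀ a : ↥F.Phi.ker, (a : ∀ i, ↥(R i)) ∈ C.comap F.Phi := by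
    intro a
    have h : F.Phi (a : ∀ i, ↥(R i)) = 1 := a.2
    rw [Subgroup.mem_comap, h]; exact one_mem _
  have hk : ∀ a : ↥F.Phi.ker, (⟨a, hm a⟩ : ↥(C.comap F.Phi)) ∈ f.ker := fun a => Subtype.ext (a.2 : F.Phi a = 1)
  exact Nat.card_congr
    { toFun := fun a => ⟨((a : ↥(C.comap F.Phi)) : ∀ i, ↥(R i)), congrArg Subtype.val (a.2 : f a = 1)⟩
      invFun := fun a => ⟨⟨a, hm a⟩, hk a⟩
      left_inv := fun a => rfl
      right_inv := fun a => rfl }

theorem conj_Phi {s : X} (h : ∀ i, ∀ u ∈ R i, s * u * s⁻¹ ∈ R i) (v : ∀ i, ↥(R i)) :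
    s * F.Phi v * s⁻¹ = F.Phi (fun i => ⟨s * (v i : X) * s⁻¹, h i _ (v i).2⟩) := by
  rw [F.Phi_apply, F.Phi_apply]
  exact Finset.map_noncommProd Finset.univ _ _ (MulAut.conj s).toMonoidHom

end Fam

/-- the action of `s` -/
structure Act (Z : Subgroup X) (R : Fin 5 → Subgroup X) (t : Fin 5 → X) (s : X) : Prop where
  st : ∀ i, Commute s (t i)
  nrm : ∀ i, ∀ u ∈ R i, s * u * s⁻¹ ∈ R i
  cz : ∀ ζ ∈ Z, Commute s ζ
  non : ∀ i, ∃ u ∈ R i, u⁻¹ * (s * u * s⁻¹) ∉ Z

/-- the action of the involutions `t i` -/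
structure Inv (Z : Subgroup X) (R : Fin 5 → Subgroup X) (t : Fin 5 → X) : Prop where
  tz : ∀ i, ∀ ζ ∈ Z, Commute (t i) ζ
  tR : ∀ i j, i ≠ j → ∀ u ∈ R i, Commute (t j) u
  inv : ∀ i, ∀ u ∈ R i, t i * u * (t i)⁻¹ * u ∈ Z

section

variable {Z Q : Subgroup X} {R : Fin 5 → Subgroup X} {t : Fin 5 → X} {s : X}

/-- the elements of `R i` fixed by `s` modulo `Z` -/
def Wi (F : Fam Z Q R) (s : X) (i : Fin 5) : Subgroup ↥(R i) where
  carrier := {u | (u : X)⁻¹ * (s * (u : X) * s⁻¹) ∈ Z}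
  one_mem' := by
    show ((1 : ↥(R i)) : X)⁻¹ * (s * ((1 : ↥(R i)) : X) * s⁻¹) ∈ Z
    rw [Subgroup.coe_one, inv_one, one_mul, mul_one, mul_inv_cancel]
    exact one_mem _
  mul_mem' := by
    intro a b ha hb
    show ((a * b : ↥(R i)) : X)⁻¹ * (s * ((a * b : ↥(R i)) : X) * s⁻¹) ∈ Z
    have h1 := (F.es i).cen _ ha (b : X)⁻¹ (inv_mem b.2)
    have e : ((a * b : ↥(R i)) : X)⁻¹ * (s * ((a * b : ↥(R i)) : X) * s⁻¹) =
        ((a : X)⁻¹ * (s * (a : X) * s⁻¹)) * ((b : X)⁻¹ * (s * (b : X) * s⁻¹)) := by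
      rw [Subgroup.coe_mul]
      calc ((a : X) * b)⁻¹ * (s * ((a : X) * b) * s⁻¹)
          = (b : X)⁻¹ * ((a : X)⁻¹ * (s * (a : X) * s⁻¹)) * (s * (b : X) * s⁻¹) := by group
        _ = ((a : X)⁻¹ * (s * (a : X) * s⁻¹)) * (b : X)⁻¹ * (s * (b : X) * s⁻¹) := by rw [h1.eq]
        _ = _ := by simp only [mul_assoc]
    rw [e]
    exact mul_mem ha hb
  inv_mem' := by
    intro a ha
    show ((a⁻¹ : ↥(R i)) : X)⁻¹ * (s * ((a⁻¹ : ↥(R i)) : X) * s⁻¹) ∈ Z
    have h1 := (F.es i).cen _ ha (a : X) a.2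
    have h2 : s * (a : X) * s⁻¹ = (a : X) * ((a : X)⁻¹ * (s * (a : X) * s⁻¹)) := by group
    have e : ((a⁻¹ : ↥(R i)) : X)⁻¹ * (s * ((a⁻¹ : ↥(R i)) : X) * s⁻¹) = ((a : X)⁻¹ * (s * (a : X) * s⁻¹))⁻¹ := by
      rw [Subgroup.coe_inv, inv_inv]
      calc (a : X) * (s * (a : X)⁻¹ * s⁻¹) = (a : X) * (s * (a : X) * s⁻¹)⁻¹ := by group
        _ = (a : X) * (((a : X)⁻¹ * (s * (a : X) * s⁻¹)) * (a : X))⁻¹ := by rw [h1.eq, ← h2]
        _ = _ := by group
    rw [e]
    exact inv_mem ha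

theorem mem_Wi {F : Fam Z Q R} {i : Fin 5} {u : ↥(R i)} :
    u ∈ Wi F s i ↔ (u : X)⁻¹ * (s * (u : X) * s⁻¹) ∈ Z := Iff.rfl

variable (F : Fam Z Q R) (A : Act Z R t s)

include F A

theorem card_Wi_le (i : Fin 5) : Nat.card (Wi F s i) ≤ 9 := by
  have := F.finite i
  have h1 : Nat.card (Wi F s i) ∣ 27 := by rw [← F.c27 i]; exact Subgroup.card_subgroup_dvd_card _
  have h2 : Nat.card (Wi F s i) ≠ 27 := by
    intro h
    have h3 : Wi F s i = ⊤ := Subgroup.eq_top_of_card_eq _ (by rw [h, F.c27 i])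
    obtain ⟨u, hu, hn⟩ := A.non i
    apply hn
    have h4 : (⟨u, hu⟩ : ↥(R i)) ∈ Wi F s i := by rw [h3]; exact Subgroup.mem_top _
    exact mem_Wi.1 h4
  obtain ⟨c, hc⟩ := h1
  rcases Nat.lt_or_ge c 3 with h | h
  · interval_cases c
    · omega
    · omega
    · omega
  · nlinarith

/-- the centralizer of `g = q s` -/
theorem mem_Wi_of_comm {q : X} (hq : q ∈ Q) {v : ∀ i, ↥(R i)} (hv : Commute (q * s) (F.Phi v)) (i : Fin 5) :
    v i ∈ Wi F s i := by
  have h1 := F.conj_Phi A.nrm v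
  have hu : F.Phi v ∈ Q := F.mem_range.2 ⟨v, rfl⟩
  have hu' : s * F.Phi v * s⁻¹ ∈ Q := by rw [h1]; exact F.mem_range.2 ⟨_, rfl⟩
  have h2 : (F.Phi v)⁻¹ * (s * F.Phi v * s⁻¹) ∈ Z := by
    have h3 : F.Phi v = q * (s * F.Phi v * s⁻¹) * q⁻¹ := by
      calc F.Phi v = (F.Phi v * (q * s)) * (q * s)⁻¹ := by group
        _ = ((q * s) * F.Phi v) * (q * s)⁻¹ := by rw [hv.eq]
        _ = _ := by group
    have h4 := F.esQ.com q hq _ (inv_mem hu')
    have e : (F.Phi v)⁻¹ * (s * F.Phi v * s⁻¹) = q * (s * F.Phi v * s⁻¹)⁻¹ * q⁻¹ * (s * F.Phi v * s⁻¹)⁻¹⁻¹ := by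
      nth_rewrite 1 [h3]
      group
    rw [e]
    exact h4
  rw [h1, ← map_inv, ← map_mul] at h2
  exact F.mem_Z h2 i

/-- `s` centralizes the groups `Wi` -/
theorem comm_Wi (T : Inv Z R t) {i : Fin 5} {w : ↥(R i)} (hw : w ∈ Wi F s i) : Commute s (w : X) := by
  have hz := mem_Wi.1 hw
  have hz' := T.inv i w w.2
  obtain ⟨ζ, hζ⟩ : ∃ ζ : X, ζ = (w : X)⁻¹ * (s * (w : X) * s⁻¹) := ⟨_, rfl⟩
  obtain ⟨ξ, hξ⟩ : ∃ ξ : X, ξ = t i * (w : X) * (t i)⁻¹ * (w : X) := ⟨_, rfl⟩
  rw [← hζ] at hz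
  rw [← hξ] at hz'
  have e1 : s * (w : X) * s⁻¹ = w * ζ := by rw [hζ]; group
  have e2 : t i * (w : X) * (t i)⁻¹ = ξ * (w : X)⁻¹ := by rw [hξ]; group
  have c1 : Commute ζ (w : X) := (F.es i).cen _ hz _ w.2
  have c2 : Commute ζ (t i) := (T.tz i _ hz).symm
  have c3 : Commute ξ s := (A.cz _ hz').symm
  have c4 : Commute ζ ξ := (F.es i).cen _ hz _ ((F.es i).le hz')
  have e3 : s * (t i * (w : X) * (t i)⁻¹) * s⁻¹ = t i * (s * (w : X) * s⁻¹) * (t i)⁻¹ := by
    have h := A.st i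
    calc s * (t i * (w : X) * (t i)⁻¹) * s⁻¹ = (s * t i) * (w : X) * (s * t i)⁻¹ := by group
      _ = (t i * s) * (w : X) * (t i * s)⁻¹ := by rw [h.eq]
      _ = _ := by group
  have e4 : s * (ξ * (w : X)⁻¹) * s⁻¹ = ξ * (w : X)⁻¹ * ζ := by
    rw [← e2, e3, e1]
    calc t i * ((w : X) * ζ) * (t i)⁻¹ = t i * (w : X) * (ζ * (t i)⁻¹) := by group
      _ = t i * (w : X) * ((t i)⁻¹ * ζ) := by rw [c2.inv_right.eq]
      _ = _ := by group
  have e5 : s * (ξ * (w : X)⁻¹) * s⁻¹ = ξ * (w : X)⁻¹ * ζ⁻¹ := by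
    calc s * (ξ * (w : X)⁻¹) * s⁻¹ = (s * ξ) * (w : X)⁻¹ * s⁻¹ := by group
      _ = (ξ * s) * (w : X)⁻¹ * s⁻¹ := by rw [c3.eq]
      _ = ξ * (s * (w : X) * s⁻¹)⁻¹ := by group
      _ = ξ * ((w : X) * ζ)⁻¹ := by rw [e1]
      _ = ξ * (ζ⁻¹ * (w : X)⁻¹) := by rw [mul_inv_rev]
      _ = ξ * ((w : X)⁻¹ * ζ⁻¹) := by rw [c1.inv_inv.eq]
      _ = _ := by group
  have e6 : ζ = ζ⁻¹ := mul_left_cancel (e4.symm.trans e5)
  have e7 : ζ = 1 := by
    have h3 : ζ ^ 3 = 1 := (F.es i).cub _ ((F.es i).le hz)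
    have h4 : ζ * ζ = 1 := by nth_rewrite 1 [e6]; exact inv_mul_cancel ζ
    rw [pow_succ, pow_two, h4, one_mul] at h3
    exact h3
  show s * (w : X) = (w : X) * s
  rw [e7, mul_one] at e1
  exact mul_inv_eq_iff_eq_mul.1 e1

/-- **the centralizer in `Q` of `g = q s`** -/
theorem Act.card_le (T : Inv Z R t) (hs3 : s ^ 3 = 1) {q : X} (hq : q ∈ Q) (hg : (q * s) ^ 3 ≠ 1) :
    Nat.card ↥(centralizer ({q * s} : Set X) ⊓ Q) ≤ 3 ^ 5 := by
  have hfinR := fun i => F.finite i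
  by_contra hcon
  push Not at hcon
  set C : Subgroup X := centralizer ({q * s} : Set X) ⊓ Q with hC
  -- `|C|` is a power of 3
  have hCdvd : Nat.card C ∣ 3 ^ 11 := by rw [← F.cQ]; exact Subgroup.card_dvd_of_le inf_le_right
  obtain ⟨k, hk, hk'⟩ := (Nat.dvd_prime_pow Nat.prime_three).1 hCdvd
  have hk6 : 6 ≤ k := by
    by_contra h
    have : 3 ^ k ≤ 3 ^ 5 := Nat.pow_le_pow_right (by norm_num) (by omega)
    omega
  have hC6 : 3 ^ 6 ≤ Nat.card C := by rw [hk']; exact Nat.pow_le_pow_right (by norm_num) hk6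
  have hcom := F.card_comap (C := C) inf_le_right
  -- the injection
  have hmem : ∀ v : ↥(C.comap F.Phi), ∀ i, (v : ∀ i, ↥(R i)) i ∈ Wi F s i := by
    intro v i
    apply mem_Wi_of_comm F A hq
    have h1 := (Subgroup.mem_comap.1 v.2).1
    exact (show Commute (F.Phi (v : ∀ i, ↥(R i))) (q * s) from mem_centralizer_singleton_iff.1 h1).symm
  let f : ↥(C.comap F.Phi) → ∀ i, ↥(Wi F s i) := fun v i => ⟨(v : ∀ i, ↥(R i)) i, hmem v i⟩
  have hf : Function.Injective f := by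
    intro v w hvw
    apply Subtype.ext
    funext i
    exact congrArg Subtype.val (congrFun hvw i)
  have hcard1 : Nat.card ↥(C.comap F.Phi) ≤ Nat.card (∀ i, ↥(Wi F s i)) :=
    Nat.card_le_card_of_injective f hf
  have hcard2 : Nat.card (∀ i, ↥(Wi F s i)) ≤ 9 ^ 5 := by
    rw [Nat.card_pi]
    have := Finset.prod_le_pow_card Finset.univ (fun i => Nat.card (Wi F s i)) 9 fun i _ => card_Wi_le F A i
    simpa only [_root_.Nat.reducePow, _root_.ge_iff_le, _root_.Finset.card_univ, _root_.Fintype.card_fin] using this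
  have hcard3 : 9 ^ 5 ≤ Nat.card ↥(C.comap F.Phi) := by
    rw [hcom]
    calc (9 : ℕ) ^ 5 = 3 ^ 6 * 3 ^ 4 := by norm_num
      _ ≤ _ := Nat.mul_le_mul_right _ hC6
  have hbij : Function.Bijective f := by
    rw [Nat.bijective_iff_injective_and_card]
    exact ⟨hf, by omega⟩
  -- the orders of the groups `Wi`
  have hW9 : ∀ i, Nat.card (Wi F s i) = 9 := by
    intro i
    apply le_antisymm (card_Wi_le F A i)
    by_contra h
    push Not at h
    have h1 : Nat.card (∀ i, ↥(Wi F s i)) = Nat.card (Wi F s i) *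
        ∏ j ∈ Finset.univ.erase i, Nat.card (Wi F s j) := by
      rw [Nat.card_pi]
      exact (Finset.mul_prod_erase Finset.univ (fun j => Nat.card (Wi F s j)) (Finset.mem_univ i)).symm
    have h2 : ∏ j ∈ Finset.univ.erase i, Nat.card (Wi F s j) ≤ 9 ^ 4 := by
      have := Finset.prod_le_pow_card (Finset.univ.erase i) (fun i => Nat.card (Wi F s i)) 9
        fun i _ => card_Wi_le F A i
      rw [Finset.card_erase_of_mem (Finset.mem_univ i), Finset.card_univ, Fintype.card_fin] at this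
      exact this
    have h3 : Nat.card (Wi F s i) * ∏ j ∈ Finset.univ.erase i, Nat.card (Wi F s j) ≤ 8 * 9 ^ 4 :=
      Nat.mul_le_mul (by omega) h2
    have h4 : (8 : ℕ) * 9 ^ 4 < 9 ^ 5 := by norm_num
    omega
  -- `g` centralizes `Wi`
  have hgW : ∀ i, ∀ w ∈ Wi F s i, Commute (q * s) (w : X) := by
    intro i w hw
    obtain ⟨v, hv⟩ := hbij.2 (Pi.mulSingle i ⟨w, hw⟩)
    have e : (v : ∀ i, ↥(R i)) = Pi.mulSingle i w := by
      funext j
      have h1 := congrArg Subtype.val (congrFun hv j)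
      by_cases hj : j = i
      · subst hj
        rw [Pi.mulSingle_eq_same] at h1 ⊢
        exact h1
      · rw [Pi.mulSingle_eq_of_ne hj] at h1 ⊢
        exact h1
    have h1 := (Subgroup.mem_comap.1 v.2).1
    rw [e, F.Phi_single] at h1
    exact (show Commute (w : X) (q * s) from mem_centralizer_singleton_iff.1 h1).symm
  -- `q` centralizes `Wi`
  have hqW : ∀ i, ∀ w ∈ Wi F s i, Commute q (w : X) := by
    intro i w hw
    have h1 := (hgW i w hw).mul_left (comm_Wi F A T hw).inv_left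
    rwa [mul_inv_cancel_right] at h1
  obtain ⟨r, rfl⟩ := F.mem_range.1 hq
  have hr : ∀ i, r i ∈ Wi F s i := by
    intro i
    by_contra hn
    apply hn
    have hc : ∀ w ∈ Wi F s i, Commute (w : X) (r i : X) := fun w hw =>
      (F.commute_iff w.2).1 (hqW i w hw).symm
    have h1 : Wi F s i ⊔ zpowers (r i) = ⊤ := by
      apply Subgroup.eq_top_of_card_eq
      have h2 : Nat.card ↥(Wi F s i ⊔ zpowers (r i)) ∣ 27 := by
        rw [← F.c27 i]; exact Subgroup.card_subgroup_dvd_card _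
      have h3 : Nat.card (Wi F s i) ∣ Nat.card ↥(Wi F s i ⊔ zpowers (r i)) :=
        Subgroup.card_dvd_of_le le_sup_left
      have h4 : Nat.card ↥(Wi F s i ⊔ zpowers (r i)) ≠ 9 := by
        intro h5
        apply hn
        have h6 : Wi F s i = Wi F s i ⊔ zpowers (r i) :=
          Subgroup.eq_of_le_of_card_ge le_sup_left (by rw [h5, hW9 i])
        rw [h6]
        exact Subgroup.mem_sup_right (mem_zpowers _)
      rw [hW9 i] at h3
      rw [F.c27 i]
      obtain ⟨a, ha⟩ := h3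
      rw [ha] at h2 h4 ⊢
      have h7 : a ∣ 3 := by
        have : 9 * a ∣ 9 * 3 := h2
        exact Nat.dvd_of_mul_dvd_mul_left (by norm_num) this
      rcases (Nat.dvd_prime Nat.prime_three).1 h7 with rfl | rfl
      · exact absurd rfl h4
      · rfl
    have h2 : (⊤ : Subgroup ↥(R i)) ≤ centralizer {r i} := by
      rw [← h1]
      apply sup_le
      · intro w hw
        rw [mem_centralizer_singleton_iff]
        exact Subtype.ext (hc w hw).eq
      · rw [zpowers_le, mem_centralizer_singleton_iff]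
    have h3 : (r i : X) ∈ Z := by
      apply (F.es i).nd _ (r i).2
      intro y hy
      have h4 := mem_centralizer_singleton_iff.1 (h2 (Subgroup.mem_top (⟨y, hy⟩ : ↥(R i))))
      exact (congrArg Subtype.val h4).symm
    rw [mem_Wi, (A.cz _ h3).eq, mul_inv_cancel_right, inv_mul_cancel]
    exact one_mem _
  have hsq : Commute s (F.Phi r) := F.commute_Phi fun i => comm_Wi F A T (hr i)
  apply hg
  rw [hsq.symm.mul_pow, F.esQ.cub _ hq, hs3, one_mul]

omit A in
/-- **the elements of `Q` commuting with all products `t i t j`** -/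
theorem Inv.mem_Z (T : Inv Z R t) {q : X} (hq : q ∈ Q) (h : ∀ i j, i ≠ j → Commute q (t i * t j)) : q ∈ Z := by
  obtain ⟨v, rfl⟩ := F.mem_range.1 hq
  apply F.Phi_mem_Z
  intro i
  obtain ⟨j, hij⟩ : ∃ j : Fin 5, i ≠ j := ⟨i + 1, by revert i; decide⟩
  -- `t i` normalizes the groups
  have nr : ∀ i j : Fin 5, ∀ u ∈ R j, t i * u * (t i)⁻¹ ∈ R j := by
    intro i j u hu
    by_cases hj : j = i
    · subst hj
      have h1 := (F.es j).le (T.inv j u hu)
      have h2 := mul_mem h1 (inv_mem hu)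
      rwa [mul_inv_cancel_right] at h2
    · rw [(T.tR j i hj u hu).eq, mul_inv_cancel_right]
      exact hu
  have nb : ∀ k : Fin 5, ∀ u ∈ R k, (t i * t j) * u * (t i * t j)⁻¹ ∈ R k := by
    intro k u hu
    have h1 := nr i k _ (nr j k u hu)
    have e : t i * (t j * u * (t j)⁻¹) * (t i)⁻¹ = (t i * t j) * u * (t i * t j)⁻¹ := by group
    rwa [e] at h1
  have h1 := F.conj_Phi nb v
  have h2 : (t i * t j) * F.Phi v * (t i * t j)⁻¹ = F.Phi v := by
    rw [← (h i j hij).eq, mul_inv_cancel_right]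
  rw [h2] at h1
  have h3 : F.Phi (v⁻¹ * fun k => ⟨(t i * t j) * (v k : X) * (t i * t j)⁻¹, nb k _ (v k).2⟩) ∈ Z := by
    rw [map_mul, ← h1, map_inv, inv_mul_cancel]
    exact one_mem _
  have h4 : (v i : X)⁻¹ * ((t i * t j) * (v i : X) * (t i * t j)⁻¹) ∈ Z := F.mem_Z h3 i
  have h5 : (t i * t j) * (v i : X) * (t i * t j)⁻¹ = t i * (v i : X) * (t i)⁻¹ := by
    have h6 := T.tR i j hij _ (v i).2
    calc (t i * t j) * (v i : X) * (t i * t j)⁻¹ = t i * (t j * (v i : X)) * (t j)⁻¹ * (t i)⁻¹ := by group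
      _ = t i * ((v i : X) * t j) * (t j)⁻¹ * (t i)⁻¹ := by rw [h6.eq]
      _ = _ := by group
  rw [h5] at h4
  have h6 := T.inv i _ (v i).2
  -- `v⁻¹ (v^t) = v⁻¹ ξ v⁻¹`
  have h7 : (v i : X)⁻¹ * (t i * (v i : X) * (t i)⁻¹) = (t i * (v i : X) * (t i)⁻¹ * (v i : X)) * ((v i : X)⁻¹ * (v i : X)⁻¹) := by
    have h8 := (F.es i).cen _ h6 _ (inv_mem (v i).2)
    calc (v i : X)⁻¹ * (t i * (v i : X) * (t i)⁻¹)
        = ((v i : X)⁻¹ * (t i * (v i : X) * (t i)⁻¹ * (v i : X))) * (v i : X)⁻¹ := by group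
      _ = ((t i * (v i : X) * (t i)⁻¹ * (v i : X)) * (v i : X)⁻¹) * (v i : X)⁻¹ := by rw [h8.eq]
      _ = _ := by group
  rw [h7] at h4
  have h8 : (v i : X)⁻¹ * (v i : X)⁻¹ ∈ Z := by
    have := mul_mem (inv_mem h6) h4
    rwa [inv_mul_cancel_left] at this
  have h9 : (v i : X)⁻¹ * (v i : X)⁻¹ = v i := by
    have h10 := (F.es i).cub _ (v i).2
    rw [pow_succ, pow_two] at h10
    calc (v i : X)⁻¹ * (v i : X)⁻¹ = (v i : X)⁻¹ * (v i : X)⁻¹ * ((v i : X) * (v i : X) * (v i : X)) := by rw [h10, mul_one]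
      _ = _ := by group
  rwa [h9] at h8

end

end Cfsg.Agent.H180.R7

private theorem dce_670dcfad84f2 : _root_.True := by
  try have : _root_.True := by simp only [_root_.Cfsg.Agent.H180.R7.Wi.congr_simp]
  try have : _root_.True := by simp only [_root_.Cfsg.Agent.H180.R7.Fam.Phi.congr_simp]
  exact _root_.True.intro
end

-- part: H972/QS/TStar_mg
section
prune_inst 0xd42029050400000000040000c0001cc383000400000804000445000005808c00000080208000010b4000000400300408110000200000000000040400011d00801880100490080011000086000008010000100800000000000000000000000000010000000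
set_option linter.all false
open scoped Cfsg.Agent.FastGrp

-- part: H972/QS/Forms
section
/-!
# A common nondegenerate plane of two forms (QS, B2 even; helper972)
-/

set_option autoImplicit false

universe u v

namespace Cfsg.Agent.H972.QS

open Module

section Two

variable {F : Type u} [Field F] {V : Type v} [AddCommGroup V] [Module F V]

/-- the Gram determinant -/
def gd (B : LinearMap.BilinForm F V) (x y : V) : F := B x x * B y y - B x y * B x y

theorem gd_comm {B : LinearMap.BilinForm F V} (hB : ∀ x y, B x y = B y x) (x y : V) : gd B x y = gd B y x := by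
  unfold gd
  rw [hB x y]
  ring

theorem gd_add {B : LinearMap.BilinForm F V} (hB : ∀ x y, B x y = B y x) (c d e : V) (t : F) :
    gd B c (d + t • e) = gd B c d + t * (2 * (B c c * B d e - B c d * B c e)) + t ^ 2 * gd B c e := by
  unfold gd
  simp only [map_add, map_smul, LinearMap.add_apply, LinearMap.smul_apply, smul_eq_mul]
  rw [hB e d]
  ring

/-- a polynomial of degree two has a nonzero value -/
theorem exists_t (h2 : (2 : F) ≠ 0) {p₀ p₁ p₂ : F} (hp : p₂ ≠ 0) : ∃ t : F, p₀ + t * p₁ + t ^ 2 * p₂ ≠ 0 := by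
  by_contra hcon
  push Not at hcon
  have e0 := hcon 0
  have e1 := hcon 1
  have e2 := hcon (-1)
  have : (2 : F) * p₂ = 0 := by linear_combination e1 + e2 - 2 * e0
  rcases mul_eq_zero.1 this with h | h
  · exact h2 h
  · exact hp h

/-- linear dependence from a vanishing Gram determinant -/
theorem exists_ker {B : LinearMap.BilinForm F V} (hB : ∀ x y, B x y = B y x) {a b : V} (h : gd B a b = 0) :
    ∃ x y : F, (x ≠ 0 ∨ y ≠ 0) ∧ B (x • a + y • b) a = 0 ∧ B (x • a + y • b) b = 0 := by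
  unfold gd at h
  by_cases h1 : B a a = 0
  · rw [h1, zero_mul, zero_sub, neg_eq_zero, mul_self_eq_zero] at h
    refine ⟨1, 0, Or.inl one_ne_zero, ?_, ?_⟩
    · simp [h1]
    · simp [h]
  · refine ⟨- B a b, B a a, Or.inr h1, ?_, ?_⟩
    · simp only [map_add, map_smul, LinearMap.add_apply, LinearMap.smul_apply, smul_eq_mul]
      rw [hB b a]
      ring
    · simp only [map_add, map_smul, LinearMap.add_apply, LinearMap.smul_apply, smul_eq_mul]
      linear_combination h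

/-- vectors of a nondegenerate plane -/
theorem eq_zero_of_gd {B : LinearMap.BilinForm F V} (hB : ∀ x y, B x y = B y x) {a b : V} (h : gd B a b ≠ 0) {x y : F}
    (ha : B (x • a + y • b) a = 0) (hb : B (x • a + y • b) b = 0) : x = 0 ∧ y = 0 := by
  simp only [map_add, map_smul, LinearMap.add_apply, LinearMap.smul_apply, smul_eq_mul] at ha hb
  rw [hB b a] at ha
  unfold gd at h
  constructor
  · refine (mul_eq_zero.1 ?_).resolve_right h
    linear_combination B b b * ha - B a b * hb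
  · refine (mul_eq_zero.1 ?_).resolve_right h
    linear_combination B a a * hb - B a b * ha

/-- **A common nondegenerate plane.** -/
theorem two_forms (h2 : (2 : F) ≠ 0) {B β : LinearMap.BilinForm F V} (hB : ∀ x y, B x y = B y x)
    (hβ : ∀ x y, β x y = β y x) {a b d : V} (hab : gd B a b ≠ 0)
    (hr : ∀ c ∈ Submodule.span F {a, b}, ∀ e ∈ Submodule.span F {a, b}, gd B c e ≠ 0 → β c c = 0 → β c e = 0 →
      β c d = 0 → gd β e d ≠ 0) :
    ∃ u ∈ Submodule.span F {a, b, d}, ∃ v ∈ Submodule.span F {a, b, d}, gd B u v ≠ 0 ∧ gd β u v ≠ 0 := by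
  have hle : Submodule.span F {a, b} ≤ Submodule.span F {a, b, d} := by
    apply Submodule.span_mono
    intro x hx
    simp only [Set.mem_insert_iff, Set.mem_singleton_iff] at hx ⊢
    (clear * - hx; itauto)
  have ha : a ∈ Submodule.span F {a, b} := Submodule.subset_span (by simp)
  have hb : b ∈ Submodule.span F {a, b} := Submodule.subset_span (by simp)
  have hd : d ∈ Submodule.span F {a, b, d} := Submodule.subset_span (by simp)
  by_cases h0 : gd β a b = 0
  · obtain ⟨x, y, hxy, k1, k2⟩ := exists_ker hβ h0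
    -- the new basis
    obtain ⟨c, hc, e, he, hce, hcc, hce'⟩ : ∃ c ∈ Submodule.span F {a, b}, ∃ e ∈ Submodule.span F {a, b},
        gd B c e ≠ 0 ∧ β c c = 0 ∧ β c e = 0 := by
      have hcm : x • a + y • b ∈ Submodule.span F {a, b} := add_mem (Submodule.smul_mem _ _ ha) (Submodule.smul_mem _ _ hb)
      have hcc : β (x • a + y • b) (x • a + y • b) = 0 := by
        rw [map_add, map_smul, map_smul, k1, k2, smul_zero, smul_zero, add_zero]
      rcases hxy with hx | hy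
      · refine ⟨_, hcm, b, hb, ?_, hcc, k2⟩
        have : gd B (x • a + y • b) b = x ^ 2 * gd B a b := by
          unfold gd
          simp only [map_add, map_smul, LinearMap.add_apply, LinearMap.smul_apply, smul_eq_mul]
          rw [hB b a]
          ring
        rw [this]
        exact mul_ne_zero (pow_ne_zero _ hx) hab
      · refine ⟨_, hcm, a, ha, ?_, hcc, k1⟩
        have : gd B (x • a + y • b) a = y ^ 2 * gd B a b := by
          unfold gd
          simp only [map_add, map_smul, LinearMap.add_apply, LinearMap.smul_apply, smul_eq_mul]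
          rw [hB b a]
          ring
        rw [this]
        exact mul_ne_zero (pow_ne_zero _ hy) hab
    by_cases hcd : β c d = 0
    · have h3 := hr c hc e he hce hcc hce' hcd
      obtain ⟨t, ht⟩ := exists_t (p₀ := gd B e d) (p₁ := 2 * (B e e * B d c - B e d * B e c)) h2
        (p₂ := gd B e c) (by rw [gd_comm hB]; exact hce)
      refine ⟨e, hle he, d + t • c, add_mem hd (Submodule.smul_mem _ _ (hle hc)), ?_, ?_⟩
      · rw [gd_add hB]; exact ht
      · have : gd β e (d + t • c) = gd β e d := by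
          rw [gd_add hβ]
          have e1 : gd β e c = 0 := by
            unfold gd
            rw [hcc, hβ e c, hce']
            ring
          rw [e1, hβ d c, hcd, hβ e c, hce']
          ring
        rw [this]
        exact h3
    · obtain ⟨t, ht⟩ := exists_t (p₀ := gd B c d) (p₁ := 2 * (B c c * B d e - B c d * B c e)) h2
        (p₂ := gd B c e) hce
      refine ⟨c, hle hc, d + t • e, add_mem hd (Submodule.smul_mem _ _ (hle he)), ?_, ?_⟩
      · rw [gd_add hB]; exact ht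
      · have : gd β c (d + t • e) = - (β c d * β c d) := by
          unfold gd
          simp only [map_add, map_smul, smul_eq_mul]
          rw [hcc, hce']
          ring
        rw [this, neg_ne_zero]
        exact mul_ne_zero hcd hcd
  · exact ⟨a, hle ha, b, hle hb, hab, h0⟩

end Two

end Cfsg.Agent.H972.QS
end

-- part: H46/QS/Fin
section
/-!
# T* for even-dimensional orthogonal groups, odd `q`: the final step and rank lemmas (helper46)

Plan: `tools/plans/S2491_B2even.md` (helper972).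

* `TS Q g` : `g = [a, b]`, `del a = del b = 1`, `a` with eigenvectors for `1` and `-1` of the same nonzero norm;
* `exists_refl`, `exists_d` : reflections / elements commuting with `x` of given `del`;
* `fin_step` : (FIN);
* `YP Q m` : the statement (Y'); `CC Q` : the statement (C).
-/

set_option autoImplicit false
set_option linter.unusedSectionVars false

universe u v

namespace Cfsg.Agent.H46.QS

open Module QuadraticMap
open Cfsg.Agent.ClassicalGeometry.Reflection Cfsg.Agent.ClassicalGeometry.SpinorSign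
  Cfsg.Agent.ClassicalGeometry.OmegaIndex Cfsg.Agent.ClassicalGeometry.Universal
  Cfsg.Agent.ClassicalGeometry.CartanDieudonne Cfsg.Agent.ClassicalGeometry.GenReflections
open Cfsg.Agent.H146.Ore Cfsg.Agent.H397.QS.TStar

variable {ι : Type} [Fintype ι] [DecidableEq ι] {F : Type u} [Field F] {Q : QuadraticForm F (ι → F)}

/-- the radical has codimension at least two -/
def R2 (Q : QuadraticForm F (ι → F)) (W : Submodule F (ι → F)) : Prop :=
  finrank F (W ⊓ Pp Q W : Submodule F (ι → F)) + 2 ≤ finrank F W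

theorem Pp_anti {U W : Submodule F (ι → F)} (h : U ≤ W) : Pp Q W ≤ Pp Q U := fun _ hz y hy => hz y (h hy)

/-- two vectors whose norms differ by a non-square -/
theorem R2_of_nonsq (h2 : (2 : F) ≠ 0) {U : Submodule F (ι → F)} {e₁ e₂ : ι → F} (h1 : e₁ ∈ U) (h3 : e₂ ∈ U)
    (h : ¬ IsSquare (Q e₁ * Q e₂)) : R2 Q U := by
  by_contra hcon
  unfold R2 at hcon
  push Not at hcon
  have hQ1 : Q e₁ ≠ 0 := by
    intro h0
    exact h ⟨0, by rw [h0]; ring⟩
  set R : Submodule F (ι → F) := U ⊓ Pp Q U with hR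
  have hinf : R ⊓ Submodule.span F {e₁} = ⊥ := by
    rw [eq_bot_iff]
    rintro z ⟨hz, hz2⟩
    obtain ⟨c, rfl⟩ := Submodule.mem_span_singleton.1 hz2
    have h4 := hz.2 e₁ h1
    rw [polar_smul_right, polar_eq_two, smul_eq_mul] at h4
    rw [Submodule.mem_bot, (mul_eq_zero.1 h4).resolve_right (mul_ne_zero h2 hQ1), zero_smul]
  have hx0 : e₁ ≠ 0 := by rintro rfl; exact hQ1 (QuadraticMap.map_zero Q)
  have h4 := Submodule.finrank_sup_add_finrank_inf_eq R (Submodule.span F {e₁})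
  rw [hinf, finrank_bot, finrank_span_singleton hx0, add_zero] at h4
  have hle : R ⊔ Submodule.span F {e₁} ≤ U :=
    sup_le inf_le_left ((Submodule.span_singleton_le_iff_mem _ _).2 h1)
  have heq : R ⊔ Submodule.span F {e₁} = U := Submodule.eq_of_le_of_finrank_le hle (by omega)
  rw [← heq] at h3
  obtain ⟨r, hr, z, hz, rfl⟩ := Submodule.mem_sup.1 h3
  obtain ⟨c, rfl⟩ := Submodule.mem_span_singleton.1 hz
  have hQr : Q r = 0 := by
    have h5 := hr.2 r hr.1
    rw [polar_eq_two] at h5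
    exact (mul_eq_zero.1 h5).resolve_left h2
  have hpr : polar (⇑Q) r e₁ = 0 := by
    rw [polar_comm]
    exact hr.2 e₁ h1
  apply h
  refine ⟨c * Q e₁, ?_⟩
  rw [map_add', hQr, QuadraticMap.map_smul, polar_smul_right, hpr, smul_zero, smul_eq_mul]
  ring

/-- the radicals of `U` and `U^⊥` -/
theorem rad_Pp' (hQ : (polarBilin Q).Nondegenerate) {U : Submodule F (ι → F)} (h : R2 Q U) :
    finrank F (Pp Q U ⊓ Pp Q (Pp Q U) : Submodule F (ι → F)) + 2 ≤ finrank F U := by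
  rw [Pp_Pp hQ, inf_comm]
  exact h

variable [Finite F]

/-- reflections with given spinor sign -/
theorem exists_refl (h2 : (2 : F) ≠ 0) {W : Submodule F (ι → F)} (hW : R2 Q W) (σ : ℤˣ) :
    ∃ a ∈ W, ∃ ha : Q a ≠ 0, del Q (reflIso Q a ha) = (-1, σ) := by
  classical
  rcases sign_cases σ with rfl | rfl
  · obtain ⟨k, hk⟩ := FiniteField.exists_nonsquare (ringChar_ne_two h2)
    have hk0 : k ≠ 0 := by rintro rfl; exact hk IsSquare.zero
    obtain ⟨a, ha, hak⟩ := rep h2 hW k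
    refine ⟨a, ha, by rw [hak]; exact hk0, ?_⟩
    rw [del_refl h2, if_neg (by rw [hak]; exact hk)]
  · obtain ⟨a, ha, hak⟩ := rep h2 hW 1
    refine ⟨a, ha, by rw [hak]; exact one_ne_zero, ?_⟩
    rw [del_refl h2, if_pos (by rw [hak]; exact IsSquare.one)]

theorem commute_of_eig {x : Cfsg.isometryGroup F (⇑Q)} {a : ι → F} (ha : Q a ≠ 0)
    (h : act Q x a = a ∨ act Q x a = -a) : Commute (reflIso Q a ha) x := by
  have := conj_refl ha ha x h
  rw [mul_inv_eq_iff_eq_mul] at this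
  exact this.symm

/-- elements commuting with `x` -/
theorem exists_d (h2 : (2 : F) ≠ 0) {W : Submodule F (ι → F)} (hW : R2 Q W) {x : Cfsg.isometryGroup F (⇑Q)}
    (hx : ∀ z ∈ W, act Q x z = z ∨ act Q x z = -z) (τ : Fˣ × ℤˣ) (hτ : τ.1 = 1 ∨ τ.1 = -1) :
    ∃ d, Commute d x ∧ del Q d = τ := by
  rcases hτ with h | h
  · obtain ⟨a, haW, ha, h3⟩ := exists_refl h2 hW τ.2
    obtain ⟨b, hbW, hb, h4⟩ := exists_refl h2 hW 1
    refine ⟨reflIso Q a ha * reflIso Q b hb,
      (commute_of_eig ha (hx a haW)).mul_left (commute_of_eig hb (hx b hbW)), ?_⟩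
    rw [map_mul, h3, h4]
    apply Prod.ext
    · rw [Prod.fst_mul, h]; simp
    · rw [Prod.snd_mul]; exact mul_one _
  · obtain ⟨a, haW, ha, h3⟩ := exists_refl h2 hW τ.2
    refine ⟨reflIso Q a ha, commute_of_eig ha (hx a haW), ?_⟩
    rw [h3]
    exact Prod.ext h.symm rfl

variable (Q) in
/-- the conclusion of T* -/
def TS (g : Cfsg.isometryGroup F (⇑Q)) : Prop :=
  ∃ a b : Cfsg.isometryGroup F (⇑Q), del Q a = 1 ∧ del Q b = 1 ∧ g = a * b * a⁻¹ * b⁻¹ ∧
    ∃ v w, act Q a v = v ∧ act Q a w = -w ∧ Q v = Q w ∧ Q v ≠ 0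

/-- **(FIN)** -/
theorem fin_step (h2 : (2 : F) ≠ 0) (hQ : (polarBilin Q).Nondegenerate) {s y c g : Cfsg.isometryGroup F (⇑Q)}
    (hs : s * s = 1) (hy : s * (y * s * y⁻¹) = g) (hc : Commute c y) (hcs : del Q c = del Q s)
    {P E : Submodule F (ι → F)} (hP : ∀ z ∈ P, act Q s z = z) (hP' : ∀ z ∈ P, act Q c z = z)
    (hE : ∀ z ∈ E, act Q s z = -z) (hE' : ∀ z ∈ E, act Q c z = z)
    (h : (R2 Q P ∧ ∃ w ∈ E, Q w ≠ 0) ∨ (R2 Q E ∧ ∃ w ∈ P, Q w ≠ 0)) : TS Q g := by
  have hxP : ∀ z ∈ P, act Q (s * c) z = z := fun z hz => by rw [act_mul, hP' z hz, hP z hz]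
  have hxE : ∀ z ∈ E, act Q (s * c) z = -z := fun z hz => by rw [act_mul, hE' z hz, hE z hz]
  have hx1 : del Q (s * c) = 1 := by
    rw [map_mul, hcs, ← map_mul, hs, map_one]
  have hτ : ((del Q y)⁻¹).1 = 1 ∨ ((del Q y)⁻¹).1 = -1 := by
    rcases del_fst_cases h2 hQ y with h | h
    · left; rw [Prod.fst_inv, h, inv_one]
    · right; rw [Prod.fst_inv, h]; simp
  obtain ⟨d, hd, hdy⟩ : ∃ d, Commute d (s * c) ∧ del Q d = (del Q y)⁻¹ := by
    rcases h with ⟨h, -⟩ | ⟨h, -⟩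
    · exact exists_d h2 h (fun z hz => Or.inl (hxP z hz)) _ hτ
    · exact exists_d h2 h (fun z hz => Or.inr (hxE z hz)) _ hτ
  refine ⟨s * c, y * d, hx1, by rw [map_mul, hdy, mul_inv_cancel], commutator_eq hs hy hc hd, ?_⟩
  rcases h with ⟨h, w, hw, hw0⟩ | ⟨h, v, hv, hv0⟩
  · obtain ⟨v, hv, hvw⟩ := rep h2 h (Q w)
    exact ⟨v, w, hxP v hv, hxE w hw, hvw, by rw [hvw]; exact hw0⟩
  · obtain ⟨w, hw, hvw⟩ := rep h2 h (Q v)
    exact ⟨v, w, hxP v hv, hxE w hw, hvw.symm, hv0⟩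

variable (Q) in
/-- **(Y')** -/
def YP (m : ℕ) : Prop :=
  ∀ s t : Cfsg.isometryGroup F (⇑Q), s * s = 1 → t * t = 1 → finrank F (Em Q s) = m →
    finrank F (Em Q t) = m → del Q s = del Q t →
    ∃ (y : Cfsg.isometryGroup F (⇑Q)) (U : Submodule F (ι → F)), finrank F U ≤ m ∧
      (∃ e₁ ∈ U, ∃ e₂ ∈ U, ¬ IsSquare (Q e₁ * Q e₂)) ∧ y * s * y⁻¹ = t ∧ ∀ z ∈ Pp Q U, act Q y z = z

variable (Q) in
/-- **(C)** (`N = 8`) -/
def CC : Prop :=
  ∀ s t : Cfsg.isometryGroup F (⇑Q), s * s = 1 → t * t = 1 → finrank F (Em Q s) = 4 →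
    finrank F (Em Q t) = 4 → del Q s = del Q t → del Q s ≠ 1 → TS Q (s * t)

end Cfsg.Agent.H46.QS
end

-- part: H542/QS/YPrime
section
/-!
# Lemma Y with two reflections of different classes (S2491 B2, even dimension, (E-A))

* `step_Y`  : the induction step of `H146.Ore.exists_Y` for a prescribed pair `x, x'`;
* `sph`     : in a nondegenerate space of dimension at least three, `B(z, x) = v ≠ 0` and `Q x = c` have a common
              solution;
* `exists_pair` : vectors `x ∈ Em s`, `x' ∈ Em t` with `Q x = Q x' ≠ 0` and `Q (x - x') = k`;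
* `exists_Y'` : Lemma Y for `m ≥ 4` with `e₁, e₂ ∈ U`, `Q e₁ * Q e₂` not a square.
-/

set_option autoImplicit false
set_option linter.unusedSectionVars false

universe u v

namespace Cfsg.Agent.H542.QS

open Module QuadraticMap
open Cfsg.Agent.ClassicalGeometry.Reflection Cfsg.Agent.ClassicalGeometry.SpinorSign
  Cfsg.Agent.ClassicalGeometry.OmegaIndex Cfsg.Agent.ClassicalGeometry.Universal
  Cfsg.Agent.ClassicalGeometry.CartanDieudonne Cfsg.Agent.ClassicalGeometry.GenReflections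
open Cfsg.Agent.H146.Ore

variable {ι : Type} [Fintype ι] [DecidableEq ι] {F : Type u} [Field F]
variable {Q : QuadraticForm F (ι → F)} [Finite F]

variable (Q) in
/-- the conclusion of Lemma Y -/
structure YC (m : ℕ) (s t y : Cfsg.isometryGroup F (⇑Q)) (U : Submodule F (ι → F)) : Prop where
  dim : finrank F U ≤ m
  ns : U = ⊥ ∨ ∃ u ∈ U, Q u ≠ 0
  conj : y * s * y⁻¹ = t
  fix : ∀ z ∈ Pp Q U, act Q y z = z
  perp : ∀ z, act Q s z = z → act Q t z = z → z ∈ Pp Q U

/-- reduced pair of involutions -/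
structure Red (m : ℕ) (s t : Cfsg.isometryGroup F (⇑Q)) : Prop where
  ss : s * s = 1
  tt : t * t = 1
  ms : finrank F (Em Q s) = m
  mt : finrank F (Em Q t) = m
  del : del Q s = del Q t

/-- **The induction step of Lemma Y for a prescribed pair.** -/
theorem step_Y (h2 : (2 : F) ≠ 0) {m : ℕ} {s t : Cfsg.isometryGroup F (⇑Q)} (R : Red (m + 1) s t)
    {x x' : ι → F} (hx : act Q s x = -x) (hx' : act Q t x' = -x') (hQx : Q x ≠ 0) (hxx : Q x = Q x')
    (he : Q (x - x') ≠ 0) :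
    ∃ s' t' : Cfsg.isometryGroup F (⇑Q), Red m s' t' ∧ ∀ y₁ U₁, YC Q m s' t' y₁ U₁ →
      YC Q (m + 1) s t (y₁ * reflIso Q (x - x') he) (U₁ ⊔ Submodule.span F {x - x'}) := by
  have hQx' : Q x' ≠ 0 := hxx ▸ hQx
  obtain ⟨hs, ht, hms, hmt, hst⟩ := R
  obtain ⟨ρ, hρdef⟩ : ∃ ρ, ρ = reflIso Q (x - x') he := ⟨_, rfl⟩
  have hρx : act Q ρ x = x' := by
    rw [hρdef, act_reflIso]
    have e2 := map_add' Q x (-x')
    rw [← sub_eq_add_neg, QuadraticMap.map_neg, polar_neg_right] at e2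
    have : polar (⇑Q) (x - x') x = Q (x - x') := by
      rw [polar_sub_left, polar_eq_two, e2, polar_comm (⇑Q) x' x, ← hxx]; ring
    rw [this, inv_mul_cancel₀ he, one_smul]
    abel
  have hρinv : ∀ z, act Q ρ⁻¹ z = act Q ρ z := by
    intro z
    have : ρ⁻¹ = ρ := by rw [inv_eq_iff_mul_eq_one, hρdef, reflIso_mul_self]
    rw [this]
  have hs' : (ρ * s * ρ⁻¹) * (ρ * s * ρ⁻¹) = 1 := by
    rw [show ρ * s * ρ⁻¹ * (ρ * s * ρ⁻¹) = ρ * (s * s) * ρ⁻¹ by group, hs]; group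
  have hs'x : act Q (ρ * s * ρ⁻¹) x' = -x' := by
    have : act Q ρ⁻¹ x' = x := act_inv_eq Q ρ x x' hρx
    rw [act_mul, act_mul, this, hx, map_neg, hρx]
  obtain ⟨q1, q2, q3, q4, q5⟩ := peel h2 hs' hQx' hs'x
  obtain ⟨r1, r2, r3, r4, r5⟩ := peel h2 ht hQx' hx'
  rw [finrank_Em_conj, hms] at q5
  rw [hmt] at r5
  refine ⟨ρ * s * ρ⁻¹ * reflIso Q x' hQx', t * reflIso Q x' hQx', ⟨q1, r1, by omega, by omega, ?_⟩, ?_⟩
  · rw [map_mul, map_mul (Cfsg.Agent.H146.Ore.del Q) t, del_conj, hst]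
  intro y₁ U₁ H
  obtain ⟨i1, i2, i3, i4, i5⟩ := H
  have hx'U : x' ∈ Pp Q U₁ := i5 x' q4 r4
  have hy1x : act Q y₁ x' = x' := i4 x' hx'U
  have hy1r : y₁ * reflIso Q x' hQx' * y₁⁻¹ = reflIso Q x' hQx' := conj_refl hQx' hQx' y₁ (Or.inl hy1x)
  rw [← hρdef]
  refine ⟨?_, ?_, ?_, ?_, ?_⟩
  · have h5 := Submodule.finrank_add_le_finrank_add_finrank U₁ (Submodule.span F {x - x'})
    have h6 : finrank F (Submodule.span F {x - x'}) ≤ 1 :=
      (finrank_span_le_card ({x - x'} : Set (ι → F))).trans (by simp)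
    omega
  · exact Or.inr ⟨x - x', Submodule.mem_sup_right (Submodule.mem_span_singleton_self _), he⟩
  · have hsplit : ρ * s * ρ⁻¹ = (ρ * s * ρ⁻¹ * reflIso Q x' hQx') * reflIso Q x' hQx' := by
      rw [mul_assoc (ρ * s * ρ⁻¹), reflIso_mul_self, mul_one]
    calc y₁ * ρ * s * (y₁ * ρ)⁻¹ = y₁ * (ρ * s * ρ⁻¹) * y₁⁻¹ := by group
      _ = y₁ * ((ρ * s * ρ⁻¹ * reflIso Q x' hQx') * reflIso Q x' hQx') * y₁⁻¹ := by rw [← hsplit]
      _ = (y₁ * (ρ * s * ρ⁻¹ * reflIso Q x' hQx') * y₁⁻¹) * (y₁ * reflIso Q x' hQx' * y₁⁻¹) := by group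
      _ = t := by rw [i3, hy1r, mul_assoc, reflIso_mul_self, mul_one]
  · intro z hz
    rw [Pp_sup] at hz
    rw [act_mul, hρdef, act_refl_of_perp he hz.2, i4 z hz.1]
  · intro z hz hz'
    have hxz : polar (⇑Q) x z = 0 := by rw [polar_comm]; exact polar_eq_zero h2 s hz hx
    have hxz' : polar (⇑Q) x' z = 0 := by rw [polar_comm]; exact polar_eq_zero h2 t hz' hx'
    have hez : polar (⇑Q) (x - x') z = 0 := by
      rw [polar_sub_left, hxz, hxz', sub_zero]
    have hρz : act Q ρ z = z := by rw [hρdef]; exact act_refl_of_perp he hez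
    rw [Pp_sup]
    refine ⟨i5 z ?_ (r3 z hz'), hez⟩
    apply q3
    rw [act_mul, act_mul, hρinv, hρz, hz, hρz]

/-- **Spheres and hyperplanes.** -/
theorem sph (h2 : (2 : F) ≠ 0) {E : Submodule F (ι → F)} (hE : E ⊓ Pp Q E = ⊥) (h3 : 3 ≤ finrank F E)
    {z : ι → F} (hz : z ∈ E) (hz0 : z ≠ 0) {v : F} (hv : v ≠ 0) (c : F) :
    ∃ x ∈ E, polar (⇑Q) z x = v ∧ Q x = c := by
  by_cases hQz : Q z = 0
  · -- `z` singular
    obtain ⟨w, hw, hzw⟩ : ∃ w ∈ E, polar (⇑Q) z w ≠ 0 := by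
      by_contra hcon
      push Not at hcon
      have : z ∈ E ⊓ Pp Q E := ⟨hz, fun y hy => by rw [polar_comm]; exact hcon y hy⟩
      rw [hE, Submodule.mem_bot] at this
      exact hz0 this
    -- `x = a w + b z`
    obtain ⟨d, hd⟩ : ∃ d, d = polar (⇑Q) z w := ⟨_, rfl⟩
    have hd0 : d ≠ 0 := hd ▸ hzw
    refine ⟨(v / d) • w + ((c - (v / d) * (v / d) * Q w) / v) • z, E.add_mem (E.smul_mem _ hw) (E.smul_mem _ hz),
      ?_, ?_⟩
    · rw [polar_add_right, polar_smul_right, polar_smul_right, polar_eq_two, hQz, ← hd, smul_eq_mul, smul_eq_mul]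
      field_simp
      ring
    · rw [map_add', QuadraticMap.map_smul, QuadraticMap.map_smul, polar_smul_left, polar_smul_right, hQz,
        polar_comm (⇑Q) w z, ← hd]
      simp only [smul_eq_mul]
      field_simp
      ring
  · -- `z` nonsingular
    obtain ⟨W, hW⟩ : ∃ W : Submodule F (ι → F), W = E ⊓ Pp Q (Submodule.span F {z}) := ⟨_, rfl⟩
    have hW1 : ∀ w, w ∈ W ↔ w ∈ E ∧ polar (⇑Q) z w = 0 := by
      intro w
      rw [hW]
      constructor
      · intro hw
        exact ⟨hw.1, hw.2 z (Submodule.mem_span_singleton_self z)⟩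
      · intro hw
        refine ⟨hw.1, fun y hy => ?_⟩
        obtain ⟨c, rfl⟩ := Submodule.mem_span_singleton.1 hy
        rw [polar_smul_left, hw.2, smul_zero]
    have hdec : E ≤ W ⊔ Submodule.span F {z} := by
      intro w hw
      have : w = (w - ((2 * Q z)⁻¹ * polar (⇑Q) z w) • z) + ((2 * Q z)⁻¹ * polar (⇑Q) z w) • z := by abel
      rw [this]
      refine Submodule.add_mem_sup ((hW1 _).2 ⟨E.sub_mem hw (E.smul_mem _ hz), ?_⟩)
        (Submodule.smul_mem _ _ (Submodule.mem_span_singleton_self z))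
      rw [polar_sub_right, polar_smul_right, polar_eq_two, smul_eq_mul]
      have : (2 * Q z) ≠ 0 := mul_ne_zero h2 hQz
      field_simp
      ring
    have hrad : W ⊓ Pp Q W = ⊥ := by
      rw [eq_bot_iff, ← hE]
      rintro w ⟨hw, hw'⟩
      refine ⟨((hW1 w).1 hw).1, fun y hy => ?_⟩
      obtain ⟨a, ha, b, hb, rfl⟩ := Submodule.mem_sup.1 (hdec hy)
      obtain ⟨k, rfl⟩ := Submodule.mem_span_singleton.1 hb
      rw [polar_add_left, polar_smul_left, hw' a ha, ((hW1 w).1 hw).2, smul_zero, add_zero]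
    have hdim : 2 ≤ finrank F W := by
      have e1 := Submodule.finrank_mono hdec
      have e2 := Submodule.finrank_add_le_finrank_add_finrank W (Submodule.span F {z})
      have e3 : finrank F (Submodule.span F {z}) ≤ 1 :=
        (finrank_span_le_card ({z} : Set (ι → F))).trans (by simp)
      omega
    obtain ⟨w, hw, hwc⟩ := rep h2 (W := W) (by rw [hrad, finrank_bot]; omega)
      (c - (v / (2 * Q z)) * (v / (2 * Q z)) * Q z)
    have hw' := (hW1 w).1 hw
    have h2z : (2 * Q z) ≠ 0 := mul_ne_zero h2 hQz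
    refine ⟨(v / (2 * Q z)) • z + w, E.add_mem (E.smul_mem _ hz) hw'.1, ?_, ?_⟩
    · rw [polar_add_right, polar_smul_right, polar_eq_two, hw'.2, smul_eq_mul, add_zero]
      field_simp
    · rw [map_add', QuadraticMap.map_smul, polar_smul_left, hw'.2, hwc, smul_eq_mul, smul_eq_mul]
      ring

/-- the component in the `(-1)`-eigenspace -/
theorem exists_comp (h2 : (2 : F) ≠ 0) {s : Cfsg.isometryGroup F (⇑Q)} (hs : s * s = 1) (y : ι → F) :
    ∃ z ∈ Em Q s, ∀ x ∈ Em Q s, polar (⇑Q) z x = polar (⇑Q) y x := by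
  obtain ⟨a, b, ha, hb, rfl⟩ := exists_decomp h2 hs y
  refine ⟨b, hb, fun x hx => ?_⟩
  rw [polar_add_left, polar_eq_zero h2 s ha hx, zero_add]

/-- **Pairs with prescribed difference.** -/
theorem exists_pair (h2 : (2 : F) ≠ 0) (hQ : (polarBilin Q).Nondegenerate) {m : ℕ} (hm : 3 ≤ m)
    {s t : Cfsg.isometryGroup F (⇑Q)} (R : Red m s t) {k : F} (hk : k ≠ 0) :
    ∃ x x' : ι → F, act Q s x = -x ∧ act Q t x' = -x' ∧ Q x ≠ 0 ∧ Q x = Q x' ∧ Q (x - x') = k := by
  obtain ⟨hs, ht, hms, hmt, -⟩ := R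
  have hsub : ∀ x x' : ι → F, Q (x - x') = Q x + Q x' - polar (⇑Q) x x' := by
    intro x x'
    have e2 := map_add' Q x (-x')
    rw [← sub_eq_add_neg, QuadraticMap.map_neg, polar_neg_right] at e2
    rw [e2]; ring
  by_cases hperp : ∀ x ∈ Em Q s, ∀ x' ∈ Em Q t, polar (⇑Q) x x' = 0
  · have e1 : finrank F (Em Q s ⊓ Pp Q (Em Q s) : Submodule F (ι → F)) + 2 ≤ finrank F (Em Q s) := by
      rw [Em_nondeg h2 hQ hs, finrank_bot]; omega
    have e2 : finrank F (Em Q t ⊓ Pp Q (Em Q t) : Submodule F (ι → F)) + 2 ≤ finrank F (Em Q t) := by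
      rw [Em_nondeg h2 hQ ht, finrank_bot]; omega
    obtain ⟨x, hx, hx1⟩ := rep h2 e1 (k / 2)
    obtain ⟨x', hx', hx1'⟩ := rep h2 e2 (k / 2)
    refine ⟨x, x', hx, hx', by rw [hx1]; exact div_ne_zero hk h2, by rw [hx1, hx1'], ?_⟩
    rw [hsub, hperp x hx x' hx', hx1, hx1']
    field_simp
    ring
  · push Not at hperp
    obtain ⟨x0, hx0, x0', hx0', h0⟩ := hperp
    obtain ⟨z, hz, hzx⟩ := exists_comp h2 hs x0'
    have hz0 : z ≠ 0 := by
      rintro rfl
      apply h0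
      rw [polar_comm, ← hzx x0 hx0]
      simp
    obtain ⟨x, hx, hx1, hx2⟩ := sph h2 (Em_nondeg h2 hQ hs) (by omega) hz hz0 (one_ne_zero (α := F)) (-k / 2)
    obtain ⟨z', hz', hzx'⟩ := exists_comp h2 ht x
    have hz0' : z' ≠ 0 := by
      rintro rfl
      have h4 := hzx' x0' hx0'
      rw [polar_comm (⇑Q) x x0', ← hzx x hx, hx1] at h4
      simp at h4
    obtain ⟨x', hx', hx1', hx2'⟩ := sph h2 (Em_nondeg h2 hQ ht) (by omega) hz' hz0'
      (v := -(2 * k)) (neg_ne_zero.2 (mul_ne_zero h2 hk)) (-k / 2)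
    rw [hzx' x' hx'] at hx1'
    refine ⟨x, x', hx, hx', by rw [hx2]; exact div_ne_zero (neg_ne_zero.2 hk) h2, by rw [hx2, hx2'], ?_⟩
    rw [hsub, hx1', hx2, hx2']
    field_simp
    ring

/-- **Lemma Y with two reflections of different classes.** -/
theorem exists_Y' (h2 : (2 : F) ≠ 0) (hQ : (polarBilin Q).Nondegenerate) {m : ℕ} (hm : 4 ≤ m)
    {s t : Cfsg.isometryGroup F (⇑Q)} (hs : s * s = 1) (ht : t * t = 1) (hms : finrank F (Em Q s) = m)
    (hmt : finrank F (Em Q t) = m) (hst : del Q s = del Q t) :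
    ∃ (y : Cfsg.isometryGroup F (⇑Q)) (U : Submodule F (ι → F)), finrank F U ≤ m ∧
      (U = ⊥ ∨ ∃ u ∈ U, Q u ≠ 0) ∧ y * s * y⁻¹ = t ∧ (∀ z ∈ Pp Q U, act Q y z = z) ∧
      (∀ z, act Q s z = z → act Q t z = z → z ∈ Pp Q U) ∧
      ∃ e₁ ∈ U, ∃ e₂ ∈ U, ¬ IsSquare (Q e₁ * Q e₂) := by
  obtain ⟨k, hk⟩ := FiniteField.exists_nonsquare (ringChar_ne_two h2)
  have hk0 : k ≠ 0 := by rintro rfl; exact hk IsSquare.zero
  obtain ⟨n, rfl⟩ : ∃ n, m = n + 1 + 1 := ⟨m - 2, by omega⟩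
  have R : Red (n + 1 + 1) s t := ⟨hs, ht, hms, hmt, hst⟩
  obtain ⟨x, x', hx, hx', hQx, hxx, he⟩ := exists_pair h2 hQ (by omega) R (one_ne_zero (α := F))
  have he0 : Q (x - x') ≠ 0 := by rw [he]; exact one_ne_zero
  obtain ⟨s', t', R', step⟩ := step_Y h2 R hx hx' hQx hxx he0
  obtain ⟨x₁, x₁', hx₁, hx₁', hQx₁, hxx₁, he₁⟩ := exists_pair h2 hQ (by omega) R' hk0
  have he₁0 : Q (x₁ - x₁') ≠ 0 := by rw [he₁]; exact hk0
  obtain ⟨s'', t'', R'', step'⟩ := step_Y h2 R' hx₁ hx₁' hQx₁ hxx₁ he₁0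
  obtain ⟨y, U, j1, j2, j3, j4, j5⟩ := exists_Y h2 hQ n s'' t'' R''.ss R''.tt R''.ms R''.mt R''.del
  have fin := step _ _ (step' y U ⟨j1, j2, j3, j4, j5⟩)
  refine ⟨_, _, fin.dim, fin.ns, fin.conj, fin.fix, fin.perp, x - x', ?_, x₁ - x₁', ?_, ?_⟩
  · exact Submodule.mem_sup_right (Submodule.mem_span_singleton_self _)
  · exact Submodule.mem_sup_left (Submodule.mem_sup_right (Submodule.mem_span_singleton_self _))
  · rw [he, he₁, one_mul]
    exact hk

end Cfsg.Agent.H542.QS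
end

-- part: H46/QS/TStarEven
section
/-!
# T* for even-dimensional orthogonal groups, odd `q`: the cases and the assembly (helper46)

Plan: `tools/plans/S2491_B2even.md` (helper972). `tstar_even_of` : from (Y') and (C); `yp` : (Y') from `H542/QS/YPrime.lean`;
`cc_of` : (C) from the reduced case; `tstar_even_cc` : from the reduced case.
-/

set_option autoImplicit false
set_option linter.unusedSectionVars false

universe u v

namespace Cfsg.Agent.H46.QS

open Module QuadraticMap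
open Cfsg.Agent.ClassicalGeometry.Reflection Cfsg.Agent.ClassicalGeometry.SpinorSign
  Cfsg.Agent.ClassicalGeometry.OmegaIndex Cfsg.Agent.ClassicalGeometry.Universal
  Cfsg.Agent.ClassicalGeometry.CartanDieudonne Cfsg.Agent.ClassicalGeometry.GenReflections
open Cfsg.Agent.H146.Ore Cfsg.Agent.H397.QS.TStar

variable {ι : Type} [Fintype ι] [DecidableEq ι] {F : Type u} [Field F] {Q : QuadraticForm F (ι → F)} [Finite F]

/-- the radical of `E₊(s) ∩ K^⊥` -/
theorem rad_le' (h2 : (2 : F) ≠ 0) (hQ : (polarBilin Q).Nondegenerate) {s : Cfsg.isometryGroup F (⇑Q)}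
    (hs : s * s = 1) (K : Submodule F (ι → F)) :
    finrank F (Pp Q (Em Q s ⊔ K) ⊓ Pp Q (Pp Q (Em Q s ⊔ K)) : Submodule F (ι → F)) ≤ finrank F K := by
  have : Pp Q (Em Q s ⊔ K) ⊓ Pp Q (Pp Q (Em Q s ⊔ K)) ≤
      K.map ((2 : F)⁻¹ • (LinearMap.id + act Q s : (ι → F) →ₗ[F] (ι → F))) := by
    rw [Pp_Pp hQ]
    rintro z ⟨hz, hz'⟩
    have hz1 : act Q s z = z := (mem_Pp_Em h2 hQ hs).1 fun y hy => hz y (Submodule.mem_sup_left hy)
    obtain ⟨b, hb, v, hv, rfl⟩ := Submodule.mem_sup.1 hz'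
    have hb' : act Q s b = -b := hb
    refine ⟨v, hv, ?_⟩
    rw [LinearMap.smul_apply, LinearMap.add_apply, LinearMap.id_apply]
    have h1 : (2 : F) • (b + v) = v + act Q s v := by
      rw [two_smul]
      nth_rewrite 1 [← hz1]
      rw [map_add, hb']
      abel
    rw [← h1, smul_smul, inv_mul_cancel₀ h2, one_smul]
  exact (Submodule.finrank_mono this).trans (Submodule.finrank_map_le _ _)

theorem neg_sq {s : Cfsg.isometryGroup F (⇑Q)} (hs : s * s = 1) : (negI Q * s) * (negI Q * s) = 1 := by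
  rw [show negI Q * s * (negI Q * s) = negI Q * (s * negI Q) * s by group, ← negI_comm,
    show negI Q * (negI Q * s) * s = (negI Q * negI Q) * (s * s) by group, negI_mul_negI, hs, one_mul]

/-- a nonsingular vector of `E₋(s) ∩ K^⊥` -/
theorem exists_w (h2 : (2 : F) ≠ 0) (hQ : (polarBilin Q).Nondegenerate) {s : Cfsg.isometryGroup F (⇑Q)}
    (hs : s * s = 1) {K : Submodule F (ι → F)} (h : 2 * finrank F K + 1 ≤ finrank F (Em Q s)) :
    ∃ w, act Q s w = -w ∧ w ∈ Pp Q K ∧ Q w ≠ 0 := by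
  have hns := neg_sq hs
  have h1 := rad_le' h2 hQ hns K
  have h3 := finrank_Pp hQ (Em Q (negI Q * s) ⊔ K)
  have h4 := Submodule.finrank_add_le_finrank_add_finrank (Em Q (negI Q * s)) K
  have h5 := finrank_Em_neg h2 hs
  obtain ⟨w, hw, hw0⟩ := exists_ns_of_rad (Q := Q) (W := Pp Q (Em Q (negI Q * s) ⊔ K)) (by omega)
  refine ⟨w, ?_, fun y hy => hw y (Submodule.mem_sup_right hy), hw0⟩
  have h6 := (mem_Pp_Em h2 hQ hns).1 fun y hy => hw y (Submodule.mem_sup_left hy)
  rwa [act_mul, act_negI, neg_eq_iff_eq_neg] at h6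

/-- the final step with an element acting on a small subspace -/
theorem step_K (h2 : (2 : F) ≠ 0) (hQ : (polarBilin Q).Nondegenerate) {s t y c : Cfsg.isometryGroup F (⇑Q)}
    (hs : s * s = 1) (hy : y * s * y⁻¹ = t) (hc : Commute c y) (hcs : del Q c = del Q s)
    {K : Submodule F (ι → F)} (hcK : ∀ z ∈ Pp Q K, act Q c z = z)
    (h1 : finrank F (Em Q s) + 2 * finrank F K + 2 ≤ Fintype.card ι)
    (h3 : ∃ w, act Q s w = -w ∧ w ∈ Pp Q K ∧ Q w ≠ 0) : TS Q (s * t) := by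
  have hP : ∀ z ∈ Pp Q (Em Q s ⊔ K), act Q s z = z := fun z hz =>
    (mem_Pp_Em h2 hQ hs).1 fun y hy => hz y (Submodule.mem_sup_left hy)
  have hP' : ∀ z ∈ Pp Q (Em Q s ⊔ K), act Q c z = z := fun z hz =>
    hcK z fun y hy => hz y (Submodule.mem_sup_right hy)
  obtain ⟨w, hw, hwK, hw0⟩ := h3
  refine fin_step h2 hQ (P := Pp Q (Em Q s ⊔ K)) (E := Em Q s ⊓ Pp Q K) hs (by rw [hy]) hc hcs hP hP'
    (fun z hz => hz.1) (fun z hz => hcK z hz.2) (Or.inl ⟨?_, w, ⟨hw, hwK⟩, hw0⟩)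
  have h4 := rad_le' h2 hQ hs K
  have h5 := finrank_Pp hQ (Em Q s ⊔ K)
  have h6 := Submodule.finrank_add_le_finrank_add_finrank (Em Q s) K
  unfold R2
  omega

theorem finrank_span_le (a : ι → F) : finrank F (Submodule.span F {a}) ≤ 1 :=
  (finrank_span_le_card ({a} : Set (ι → F))).trans (by simp)

/-- odd `m` -/
theorem case_odd (h2 : (2 : F) ≠ 0) (hQ : (polarBilin Q).Nondegenerate) {s t y : Cfsg.isometryGroup F (⇑Q)}
    (hs : s * s = 1) (hy : y * s * y⁻¹ = t) {U : Submodule F (ι → F)} (hU : ∀ z ∈ Pp Q U, act Q y z = z)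
    (hR : R2 Q (Pp Q U)) (hodd : Odd (finrank F (Em Q s))) (h3 : 3 ≤ finrank F (Em Q s))
    (h4 : finrank F (Em Q s) + 4 ≤ Fintype.card ι) : TS Q (s * t) := by
  obtain ⟨a, haU, ha, hda⟩ := exists_refl h2 hR (del Q s).2
  have hk := finrank_span_le a
  refine step_K h2 hQ (c := reflIso Q a ha) (K := Submodule.span F {a}) hs hy (commute_refl ha (hU a haU)) ?_
    (fun z hz => act_refl_of_perp ha (hz a (Submodule.mem_span_singleton_self a))) (by omega)
    (exists_w h2 hQ hs (by omega))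
  rw [hda]
  apply Prod.ext
  · rw [del_fst h2 hQ _ s hs rfl, hodd.neg_one_pow]
  · rfl

/-- even `m`, `del s = 1` -/
theorem case_A (h2 : (2 : F) ≠ 0) (hQ : (polarBilin Q).Nondegenerate) {s t y : Cfsg.isometryGroup F (⇑Q)}
    (hs : s * s = 1) (hy : y * s * y⁻¹ = t) (hds : del Q s = 1) (h3 : 1 ≤ finrank F (Em Q s))
    (h4 : finrank F (Em Q s) + 2 ≤ Fintype.card ι) : TS Q (s * t) := by
  refine step_K h2 hQ (c := 1) (K := ⊥) hs hy (Commute.one_left y) (by rw [map_one, hds])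
    (fun z _ => act_one Q z) (by rw [finrank_bot]; omega) (exists_w h2 hQ hs (by rw [finrank_bot]; omega))

/-- even `m`, `del s ≠ 1`: two vectors -/
theorem case_B (h2 : (2 : F) ≠ 0) (hQ : (polarBilin Q).Nondegenerate) {s t y : Cfsg.isometryGroup F (⇑Q)}
    (hs : s * s = 1) (hy : y * s * y⁻¹ = t) (heven : Even (finrank F (Em Q s))) (hds : del Q s ≠ 1)
    {W : Submodule F (ι → F)} (hW : ∀ z ∈ W, act Q y z = z) (hR : R2 Q W)
    (h4 : finrank F (Em Q s) + 6 ≤ Fintype.card ι)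
    (h5 : 5 ≤ finrank F (Em Q s) ∨ ∃ w, act Q s w = -w ∧ (∀ z ∈ W, polar (⇑Q) z w = 0) ∧ Q w ≠ 0) :
    TS Q (s * t) := by
  obtain ⟨a, haW, ha, hda⟩ := exists_refl h2 hR (-1)
  obtain ⟨b, hbW, hb, hdb⟩ := exists_refl h2 hR 1
  have h6 := Submodule.finrank_add_le_finrank_add_finrank (Submodule.span F {a}) (Submodule.span F {b})
  have h7 := finrank_span_le a
  have h8 := finrank_span_le b
  have hK : ∀ z, z ∈ Pp Q (Submodule.span F {a} ⊔ Submodule.span F {b}) ↔ polar (⇑Q) a z = 0 ∧ polar (⇑Q) b z = 0 := by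
    intro z
    rw [Pp_sup]
    refine and_congr_left fun _ => ⟨fun h => h a (Submodule.mem_span_singleton_self a), fun h y hy => ?_⟩
    obtain ⟨c, rfl⟩ := Submodule.mem_span_singleton.1 hy
    rw [polar_smul_left, h, smul_zero]
  refine step_K h2 hQ (c := reflIso Q a ha * reflIso Q b hb) (K := Submodule.span F {a} ⊔ Submodule.span F {b}) hs hy
    ((commute_refl ha (hW a haW)).mul_left (commute_refl hb (hW b hbW))) ?_ (fun z hz => ?_) (by omega) ?_
  · rw [map_mul, hda, hdb]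
    have h9 := del_fst h2 hQ _ s hs rfl
    rw [heven.neg_one_pow] at h9
    apply Prod.ext
    · rw [h9]; simp
    · rcases sign_cases (del Q s).2 with h | h
      · exact absurd (Prod.ext h9 h) hds
      · rw [h]; simp
  · rw [hK] at hz
    rw [act_mul, act_refl_of_perp hb hz.2, act_refl_of_perp ha hz.1]
  · rcases h5 with h5 | ⟨w, hw, hw1, hw0⟩
    · exact exists_w h2 hQ hs (by omega)
    · exact ⟨w, hw, (hK w).2 ⟨hw1 a haW, hw1 b hbW⟩, hw0⟩

/-- **T*, even dimension**, from (Y') and (C) -/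
theorem ts_even (h2 : (2 : F) ≠ 0) (hQ : (polarBilin Q).Nondegenerate) {n : ℕ} (hn : 4 ≤ n)
    (hc : Fintype.card ι = 2 * n) (hYP : ∀ m, 4 ≤ m → YP Q m) (hCC : n = 4 → CC Q)
    (g : Cfsg.isometryGroup F (⇑Q)) (hg : del Q g = 1) : TS Q g := by
  obtain ⟨s, t, hs, ht, hst, hm, hm3, hm2⟩ := exists_fac_three h2 hQ (by omega) g (by rw [hg]; rfl)
  have hdel : del Q s = del Q t := by
    have e1 : del Q s * del Q t = 1 := by rw [← map_mul, hst, hg]
    have e2 : del Q t * del Q t = 1 := by rw [← map_mul, ht, map_one]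
    rw [← e2] at e1
    exact mul_right_cancel e1
  rw [← hst]
  rcases Nat.lt_or_ge 3 (finrank F (Em Q s)) with h4 | h4
  · -- `m ≥ 4`
    obtain ⟨y, U, hU1, ⟨e₁, he₁, e₂, he₂, hne⟩, hy1, hy2⟩ := hYP _ h4 s t hs ht rfl hm.symm hdel
    have hRU := R2_of_nonsq h2 he₁ he₂ hne
    have hr := rad_Pp' hQ hRU
    have hf := finrank_Pp hQ U
    have hR : R2 Q (Pp Q U) := by unfold R2; omega
    rcases Nat.even_or_odd (finrank F (Em Q s)) with heven | hodd
    · by_cases hds : del Q s = 1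
      · exact case_A h2 hQ hs hy1 hds (by omega) (by omega)
      · rcases Nat.lt_or_ge 4 (finrank F (Em Q s)) with h5 | h5
        · have h6 : 6 ≤ finrank F (Em Q s) := by
            obtain ⟨k, hk⟩ := heven
            omega
          exact case_B h2 hQ hs hy1 heven hds hy2 hR (by omega) (Or.inl (by omega))
        · have h6 : finrank F (Em Q s) = 4 := by omega
          rcases Nat.lt_or_ge 4 n with hn5 | hn5
          · -- `m = 4`, `N ≥ 10`
            obtain ⟨w, hw, hw0⟩ := exists_ns h2 hQ hs (by omega)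
            have hRU' : R2 Q (U ⊔ Submodule.span F {w}) :=
              R2_of_nonsq h2 (Submodule.mem_sup_left he₁) (Submodule.mem_sup_left he₂) hne
            have hr' := rad_Pp' hQ hRU'
            have hf' := finrank_Pp hQ (U ⊔ Submodule.span F {w})
            have hf3 := Submodule.finrank_add_le_finrank_add_finrank U (Submodule.span F {w})
            have hf4 := finrank_span_le w
            refine case_B h2 hQ hs hy1 heven hds (W := Pp Q (U ⊔ Submodule.span F {w}))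
              (fun z hz => hy2 z (Pp_anti le_sup_left hz)) (by unfold R2; (clear * - hc hU1 h5 hn5 hr' hf' hf3 hf4; omega)) (by (clear * - hc h5 hn5; omega))
              (Or.inr ⟨w, hw, fun z hz => ?_, hw0⟩)
            rw [polar_comm]
            exact hz w (Submodule.mem_sup_right (Submodule.mem_span_singleton_self w))
          · exact hCC (by omega) s t hs ht h6 (by omega) hdel hds
    · exact case_odd h2 hQ hs hy1 hy2 hR hodd (by omega) (by omega)
  · -- `m = 3`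
    have h3 : finrank F (Em Q s) = 3 := by omega
    obtain ⟨y, U, hU1, hU2, hy1, hy2, -⟩ := exists_Y h2 hQ _ s t hs ht rfl hm.symm hdel
    have hfU := finrank_Pp hQ U
    have hrU := rad_Pp hQ h2 hU2
    exact case_odd h2 hQ hs hy1 hy2 (by unfold R2; omega) (by rw [h3]; decide) (by omega) (by omega)

/-- (Y'), helper542 -/
theorem yp (h2 : (2 : F) ≠ 0) (hQ : (polarBilin Q).Nondegenerate) {m : ℕ} (hm : 4 ≤ m) : YP Q m := by
  intro s t hs ht hms hmt hst
  obtain ⟨y, U, h1, -, h3, h4, -, h6⟩ := H542.QS.exists_Y' h2 hQ hm hs ht hms hmt hst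
  exact ⟨y, U, h1, h6, h3, h4⟩

variable (Q) in
/-- (C) reduced: `del s`, `del (-s) ≠ 1`, with the output of (Y') -/
def CR : Prop :=
  ∀ (s t y : Cfsg.isometryGroup F (⇑Q)) (U : Submodule F (ι → F)), s * s = 1 → t * t = 1 →
    finrank F (Em Q s) = 4 → y * s * y⁻¹ = t → finrank F U ≤ 4 →
    (∃ e₁ ∈ U, ∃ e₂ ∈ U, ¬ IsSquare (Q e₁ * Q e₂)) → (∀ z ∈ Pp Q U, act Q y z = z) →
    del Q s ≠ 1 → del Q (negI Q * s) ≠ 1 → TS Q (s * t)

/-- reduction of (C) -/
theorem cc_of (h2 : (2 : F) ≠ 0) (hQ : (polarBilin Q).Nondegenerate) (h8 : Fintype.card ι = 8) (H : CR Q) : CC Q := by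
  intro s t hs ht hs4 ht4 hst hds
  obtain ⟨y, U, hU1, hU2, hy1, hy2⟩ := yp h2 hQ le_rfl s t hs ht hs4 ht4 hst
  by_cases hdn : del Q (negI Q * s) = 1
  · have h1 : s * t = (negI Q * s) * (negI Q * t) := by
      rw [show negI Q * s * (negI Q * t) = negI Q * (s * negI Q) * t by group, ← negI_comm,
        show negI Q * (negI Q * s) * t = (negI Q * negI Q) * (s * t) by group, negI_mul_negI, one_mul]
    have h3 := finrank_Em_neg h2 hs
    rw [h1]
    refine case_A h2 hQ (y := y) (neg_sq hs) ?_ hdn (by omega) (by omega)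
    rw [← hy1, ← mul_assoc, ← negI_comm, mul_assoc, mul_assoc, mul_assoc]
  · exact H s t y U hs ht hs4 hy1 hU1 hU2 hy2 hds hdn

/-! ### The group `E Q` -/

section E

open Cfsg.Agent.LieClassical.OrthCore Cfsg.Agent.LieClassical.OrthTrans Cfsg.Agent.TitsThree.KSideO
  Cfsg.Agent.LieClassical.OrthFinite

/-- **T*, even dimension**: every element of `E Q` is a commutator of elements of `E Q`, the first of which has
eigenvectors for `1` and `-1` of the same nonzero norm. -/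
theorem tstar_even_of (hG : Good Q) (h2 : (2 : F) ≠ 0) {n : ℕ} (hn : 4 ≤ n)
    (hc : Fintype.card ι = 2 * n) (hYP : ∀ m, 4 ≤ m → YP Q m) (hCC : n = 4 → CC Q)
    (g : (ι → F) ≃ₗ[F] (ι → F)) (hg : g ∈ E Q) :
    ∃ x ∈ E Q, ∃ k ∈ E Q, g = x * k * x⁻¹ * k⁻¹ ∧
      ∃ u w : ι → F, x u = u ∧ x w = -w ∧ Q u = Q w ∧ Q u ≠ 0 := by
  have hQ : (polarBilin Q).Nondegenerate := by
    refine ⟨fun x hx => hG.nondeg x fun y => ?_, fun x hx => hG.nondeg x fun y => ?_⟩
    · have := hx y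
      rwa [polarBilin_apply_apply] at this
    · have := hx y
      rwa [polarBilin_apply_apply, polar_comm] at this
  have key : ∀ g : Cfsg.isometryGroup F ⇑Q, g ∈ Cfsg.Omega F ⇑Q ↔ del Q g = 1 := by
    intro g
    rw [mem_Omega_iff h2 _ hQ (by omega) one_ne_zero]
    exact (detSpinor_eq_one_iff _ _ g).symm
  obtain ⟨a, b, ha, hb, hab, v, w, h⟩ := ts_even h2 hQ hn hc hYP hCC (toOmega hG ⟨g, hg⟩).1
    ((key _).1 (toOmega hG ⟨g, hg⟩).2)
  obtain ⟨a', ha'⟩ := (toOmega hG).surjective ⟨a, (key a).2 ha⟩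
  obtain ⟨b', hb'⟩ := (toOmega hG).surjective ⟨b, (key b).2 hb⟩
  have hact : ∀ z, a'.1 z = act Q a z := by
    intro z
    rw [← act_toOmega hG a' z, ha']
  refine ⟨a'.1, a'.2, b'.1, b'.2, ?_, v, w, ?_⟩
  · have h1 : toOmega hG ⟨g, hg⟩ = toOmega hG (a' * b' * a'⁻¹ * b'⁻¹) := by
      ((conv => enter [@3]; rw [map_mul]); (conv => enter [@3, @5]; rw [map_mul]); (conv => enter [@3, @5, @5]; rw [map_mul]); (conv => enter [@3, @5, @6]; rw [map_inv]); (conv => enter [@3, @6]; rw [map_inv]); (conv => enter [@3, @5, @5, @5]; rw [ha']); (conv => enter [@3, @5, @6, @3]; rw [ha']); (conv => enter [@3, @5, @5, @6]; rw [hb']); (conv => enter [@3, @6, @3]; rw [hb']))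
      exact Subtype.ext hab
    exact congrArg Subtype.val ((toOmega hG).injective h1)
  · rw [hact, hact]
    exact h

/-- **T*, even dimension**, from the reduced case (C) -/
theorem tstar_even_cr (hG : Good Q) (h2 : (2 : F) ≠ 0) {n : ℕ} (hn : 4 ≤ n)
    (hc : Fintype.card ι = 2 * n) (hCR : (polarBilin Q).Nondegenerate → n = 4 → CR Q)
    (g : (ι → F) ≃ₗ[F] (ι → F)) (hg : g ∈ E Q) :
    ∃ x ∈ E Q, ∃ k ∈ E Q, g = x * k * x⁻¹ * k⁻¹ ∧
      ∃ u w : ι → F, x u = u ∧ x w = -w ∧ Q u = Q w ∧ Q u ≠ 0 := by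
  have hQ : (polarBilin Q).Nondegenerate := by
    refine ⟨fun x hx => hG.nondeg x fun y => ?_, fun x hx => hG.nondeg x fun y => ?_⟩
    · have := hx y
      rwa [polarBilin_apply_apply] at this
    · have := hx y
      rwa [polarBilin_apply_apply, polar_comm] at this
  exact tstar_even_of hG h2 hn hc (fun m hm => yp h2 hQ hm) (fun h => cc_of h2 hQ (by omega) (hCR hQ h)) g hg

end E

end Cfsg.Agent.H46.QS
end

-- part: H972/QS/CaseC
section
/-!
# T*, even dimension: the case of two involutions of type `(4, 4)` in dimension eight (QS, B2; helper972)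

`case_c` : `s` an involution with `dim E₋(s) = 4` in dimension 8, `del (-s) ≠ 1`, `U` of dimension at most 4 with two
vectors whose norms have a nonsquare product. There are `a, b ∈ U^⊥` with `Q a * Q b` not a square, such that
`E₋(s) ∩ {a, b}^⊥` has rank at least two and `E₊(s) ∩ {a, b}^⊥` is not totally singular.
-/

set_option autoImplicit false
set_option linter.unusedSectionVars false

universe u v

namespace Cfsg.Agent.H972.QS

open Module QuadraticMap
open Cfsg.Agent.ClassicalGeometry.Reflection Cfsg.Agent.ClassicalGeometry.SpinorSign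
  Cfsg.Agent.ClassicalGeometry.OmegaIndex Cfsg.Agent.ClassicalGeometry.Universal
  Cfsg.Agent.ClassicalGeometry.CartanDieudonne Cfsg.Agent.ClassicalGeometry.GenReflections
open Cfsg.Agent.H146.Ore

variable {ι : Type} [Fintype ι] [DecidableEq ι] {F : Type u} [Field F] [Finite F] {Q : QuadraticForm F (ι → F)}

/-- a nonsingular vector orthogonal to a given one -/
theorem exists_pair (h2 : (2 : F) ≠ 0) {W : Submodule F (ι → F)}
    (hW : finrank F (W ⊓ Pp Q W : Submodule F (ι → F)) + 2 ≤ finrank F W) {x : ι → F} (hx : x ∈ W) (hx0 : Q x ≠ 0) :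
    ∃ y ∈ W, polar (⇑Q) x y = 0 ∧ Q y ≠ 0 := by
  by_contra hcon
  push Not at hcon
  let W₁ : Submodule F (ι → F) := W ⊓ Pp Q (Submodule.span F {x})
  have hW1 : ∀ z, z ∈ W₁ ↔ z ∈ W ∧ polar (⇑Q) x z = 0 := by
    intro z
    constructor
    · intro hz
      exact ⟨hz.1, hz.2 x (Submodule.mem_span_singleton_self x)⟩
    · intro hz
      refine ⟨hz.1, fun y hy => ?_⟩
      obtain ⟨c, rfl⟩ := Submodule.mem_span_singleton.1 hy
      rw [polar_smul_left, hz.2, smul_zero]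
  have hdec : W ≤ W₁ ⊔ Submodule.span F {x} := by
    intro z hz
    have : z = (z - ((2 * Q x)⁻¹ * polar (⇑Q) x z) • x) + ((2 * Q x)⁻¹ * polar (⇑Q) x z) • x := by abel
    rw [this]
    refine Submodule.add_mem_sup ((hW1 _).2 ⟨W.sub_mem hz (W.smul_mem _ hx), ?_⟩)
      (Submodule.smul_mem _ _ (Submodule.mem_span_singleton_self x))
    rw [polar_sub_right, polar_smul_right, polar_eq_two, smul_eq_mul]
    have : (2 * Q x) ≠ 0 := mul_ne_zero h2 hx0
    field_simp
    ring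
  have hrad : W₁ ≤ W ⊓ Pp Q W := by
    intro z hz
    refine ⟨((hW1 z).1 hz).1, fun y hy => ?_⟩
    obtain ⟨w, hw, v, hv, rfl⟩ := Submodule.mem_sup.1 (hdec hy)
    obtain ⟨c, rfl⟩ := Submodule.mem_span_singleton.1 hv
    have e1 := hcon _ (W.add_mem ((hW1 w).1 hw).1 ((hW1 z).1 hz).1)
      (by rw [polar_add_right, ((hW1 w).1 hw).2, ((hW1 z).1 hz).2, add_zero])
    have e2 := hcon w ((hW1 w).1 hw).1 ((hW1 w).1 hw).2
    have e3 := hcon z ((hW1 z).1 hz).1 ((hW1 z).1 hz).2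
    rw [polar_add_left, polar_smul_left, ((hW1 z).1 hz).2, smul_zero, add_zero, polar, e1, e2, e3]
    simp
  have h3 := Submodule.finrank_mono hrad
  have h4 := Submodule.finrank_mono hdec
  have h5 := Submodule.finrank_add_le_finrank_add_finrank W₁ (Submodule.span F {x})
  have h6 : finrank F (Submodule.span F {x}) ≤ 1 := (finrank_span_le_card ({x} : Set (ι → F))).trans (by simp)
  omega

/-- the rank of `U^⊥` if `U` has two values with nonsquare product -/
theorem rad_Pp_two (hQ : (polarBilin Q).Nondegenerate) (h2 : (2 : F) ≠ 0) {U : Submodule F (ι → F)}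
    {e₁ e₂ : ι → F} (h₁ : e₁ ∈ U) (h₂ : e₂ ∈ U) (h : ¬ IsSquare (Q e₁ * Q e₂)) :
    finrank F (Pp Q U ⊓ Pp Q (Pp Q U) : Submodule F (ι → F)) + 2 ≤ finrank F U := by
  rw [Pp_Pp hQ]
  have he : Q e₁ ≠ 0 := by
    intro h0
    apply h
    rw [h0, zero_mul]
    exact IsSquare.zero
  have hrad : ∀ n ∈ Pp Q U ⊓ U, Q n = 0 := by
    rintro n ⟨hn, hn'⟩
    have := hn n hn'
    rw [polar_eq_two] at this
    exact (mul_eq_zero.1 this).resolve_left h2
  have hdis : (Pp Q U ⊓ U) ⊓ Submodule.span F {e₁} = ⊥ := by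
    rw [eq_bot_iff]
    rintro z ⟨hz, hz'⟩
    obtain ⟨c, rfl⟩ := Submodule.mem_span_singleton.1 hz'
    have := hrad _ hz
    rw [QuadraticMap.map_smul, smul_eq_mul] at this
    have hc : c * c = 0 := (mul_eq_zero.1 this).resolve_right he
    rw [Submodule.mem_bot, mul_self_eq_zero.1 hc, zero_smul]
  have hne : e₁ ≠ 0 := by rintro rfl; exact he (QuadraticMap.map_zero Q)
  have h3 := Submodule.finrank_sup_add_finrank_inf_eq (Pp Q U ⊓ U) (Submodule.span F {e₁})
  rw [hdis, finrank_bot, add_zero, finrank_span_singleton hne] at h3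
  have h4 : (Pp Q U ⊓ U) ⊔ Submodule.span F {e₁} < U := by
    refine lt_of_le_of_ne (sup_le inf_le_right ?_) fun hU => ?_
    · rw [Submodule.span_le]
      rintro _ rfl
      exact h₁
    · have h5 : e₂ ∈ (Pp Q U ⊓ U) ⊔ Submodule.span F {e₁} := by rw [hU]; exact h₂
      obtain ⟨n, hn, v, hv, e⟩ := Submodule.mem_sup.1 h5
      obtain ⟨c, rfl⟩ := Submodule.mem_span_singleton.1 hv
      apply h
      refine ⟨c * Q e₁, ?_⟩
      rw [← e, map_add', hrad n hn, QuadraticMap.map_smul, polar_smul_right, polar_comm, hn.1 e₁ h₁, smul_eq_mul]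
      simp
      ring
  have h5 := Submodule.finrank_lt_finrank_of_lt h4
  omega

section Pi

variable (Q) in
/-- the projection to the `(-1)`-eigenspace -/
noncomputable def pr (s : Cfsg.isometryGroup F (⇑Q)) : (ι → F) →ₗ[F] (ι → F) :=
  (2 : F)⁻¹ • (LinearMap.id - act Q s)

theorem pr_apply (s : Cfsg.isometryGroup F (⇑Q)) (x : ι → F) : pr Q s x = (2 : F)⁻¹ • (x - act Q s x) := rfl

theorem pr_mem {s : Cfsg.isometryGroup F (⇑Q)} (hs : s * s = 1) (x : ι → F) : act Q s (pr Q s x) = -pr Q s x := by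
  have hss : act Q s (act Q s x) = x := by rw [← act_mul, hs, act_one]
  rw [pr_apply, map_smul, map_sub, hss, ← smul_neg, neg_sub]

theorem sub_pr {s : Cfsg.isometryGroup F (⇑Q)} (h2 : (2 : F) ≠ 0) (hs : s * s = 1) (x : ι → F) :
    act Q s (x - pr Q s x) = x - pr Q s x := by
  have hss : act Q s (act Q s x) = x := by rw [← act_mul, hs, act_one]
  rw [map_sub, pr_mem hs, pr_apply, sub_neg_eq_add]
  have : act Q s x + (2 : F)⁻¹ • (x - act Q s x) - (x - (2 : F)⁻¹ • (x - act Q s x)) = 0 := by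
    have e : act Q s x + (2 : F)⁻¹ • (x - act Q s x) - (x - (2 : F)⁻¹ • (x - act Q s x)) =
      ((2 : F)⁻¹ * 2 - 1) • (x - act Q s x) := by
      rw [sub_smul, mul_smul, two_smul, smul_add, one_smul]
      abel
    rw [e, inv_mul_cancel₀ h2, sub_self, zero_smul]
  exact sub_eq_zero.1 this

theorem pr_of_neg (h2 : (2 : F) ≠ 0) {s : Cfsg.isometryGroup F (⇑Q)} {x : ι → F} (hx : act Q s x = -x) :
    pr Q s x = x := by
  rw [pr_apply, hx, sub_neg_eq_add, ← two_smul F x, smul_smul, inv_mul_cancel₀ h2, one_smul]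

theorem pr_of_fix {s : Cfsg.isometryGroup F (⇑Q)} {x : ι → F} (hx : act Q s x = x) : pr Q s x = 0 := by
  rw [pr_apply, hx, sub_self, smul_zero]

theorem fix_of_pr (h2 : (2 : F) ≠ 0) {s : Cfsg.isometryGroup F (⇑Q)} {x : ι → F} (hx : pr Q s x = 0) :
    act Q s x = x := by
  rw [pr_apply] at hx
  have := (smul_eq_zero.1 hx).resolve_left (inv_ne_zero h2)
  exact (sub_eq_zero.1 this).symm

theorem polar_pr (h2 : (2 : F) ≠ 0) {s : Cfsg.isometryGroup F (⇑Q)} (hs : s * s = 1) (x y : ι → F) :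
    polar (⇑Q) (pr Q s x) y = polar (⇑Q) (pr Q s x) (pr Q s y) := by
  have h := polar_eq_zero h2 s (sub_pr h2 hs y) (pr_mem hs x)
  rw [polar_comm, polar_sub_right, sub_eq_zero] at h
  exact h

variable (Q) in
/-- the form `B(πx, πy)` -/
noncomputable def be (s : Cfsg.isometryGroup F (⇑Q)) : LinearMap.BilinForm F (ι → F) :=
  LinearMap.BilinForm.comp (polarBilin Q) (pr Q s) (pr Q s)

theorem be_apply (s : Cfsg.isometryGroup F (⇑Q)) (x y : ι → F) :
    be Q s x y = polar (⇑Q) (pr Q s x) (pr Q s y) := rfl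

theorem be_comm (s : Cfsg.isometryGroup F (⇑Q)) (x y : ι → F) : be Q s x y = be Q s y x := by
  rw [be_apply, be_apply, polar_comm]

theorem pB_comm (x y : ι → F) : polarBilin Q x y = polarBilin Q y x := by
  rw [polarBilin_apply_apply, polarBilin_apply_apply, polar_comm]

end Pi

theorem mem_Pp_neg (h2 : (2 : F) ≠ 0) (hQ : (polarBilin Q).Nondegenerate) {s : Cfsg.isometryGroup F (⇑Q)}
    (hs : s * s = 1) {z : ι → F} : z ∈ Pp Q (Em Q (negI Q * s)) ↔ act Q s z = -z := by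
  have hns : (negI Q * s) * (negI Q * s) = 1 := by
    rw [show negI Q * s * (negI Q * s) = negI Q * (s * negI Q) * s by group, ← negI_comm,
      show negI Q * (negI Q * s) * s = (negI Q * negI Q) * (s * s) by group, negI_mul_negI, hs, one_mul]
  rw [mem_Pp_Em h2 hQ hns, act_mul, act_negI, neg_eq_iff_eq_neg]

theorem neg_sq' {s : Cfsg.isometryGroup F (⇑Q)} (hs : s * s = 1) : (negI Q * s) * (negI Q * s) = 1 := by
  rw [show negI Q * s * (negI Q * s) = negI Q * (s * negI Q) * s by group, ← negI_comm,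
    show negI Q * (negI Q * s) * s = (negI Q * negI Q) * (s * s) by group, negI_mul_negI, hs, one_mul]

/-- duality in the nondegenerate space `E₋(s)` -/
theorem exists_dual (h2 : (2 : F) ≠ 0) (hQ : (polarBilin Q).Nondegenerate) {s : Cfsg.isometryGroup F (⇑Q)}
    (hs : s * s = 1) {e₁ e₂ : ι → F} (h₁ : act Q s e₁ = -e₁) (h₂ : act Q s e₂ = -e₂)
    (h : e₁ ∉ Submodule.span F {e₂}) : ∃ y, act Q s y = -y ∧ polar (⇑Q) e₁ y = 1 ∧ polar (⇑Q) e₂ y = 0 := by
  by_contra hcon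
  push Not at hcon
  have h3 : e₁ ∈ Pp Q (Pp Q (Em Q (negI Q * s) ⊔ Submodule.span F {e₂})) := by
    intro y hy
    rw [Pp_sup, mem_Pp_neg h2 hQ hs] at hy
    by_contra h0
    rw [polar_comm] at h0
    refine hcon ((polar (⇑Q) e₁ y)⁻¹ • y) ?_ ?_ ?_
    · rw [map_smul, hy.1, smul_neg]
    · rw [polar_smul_right, smul_eq_mul, inv_mul_cancel₀ h0]
    · rw [polar_smul_right, hy.2, smul_zero]
  rw [Pp_Pp hQ] at h3
  obtain ⟨p, hp, v, hv, e⟩ := Submodule.mem_sup.1 h3
  obtain ⟨c, rfl⟩ := Submodule.mem_span_singleton.1 hv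
  rw [mem_Em_neg] at hp
  apply h
  rw [Submodule.mem_span_singleton]
  refine ⟨c, ?_⟩
  have h4 : act Q s p = -p := by
    have : p = e₁ - c • e₂ := by rw [← e]; abel
    rw [this, map_sub, map_smul, h₁, h₂]
    rw [smul_neg]; abel
  have h5 : p = 0 := by
    rw [hp] at h4
    have : (2 : F) • p = 0 := by
      rw [two_smul]
      nth_rewrite 1 [h4]
      rw [neg_add_cancel]
    exact (smul_eq_zero.1 this).resolve_left h2
  rw [← e, h5, zero_add]

/-- **(C0)**: `-1` on a four-dimensional space with a totally singular plane -/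
theorem del_one_of_ts (h2 : (2 : F) ≠ 0) (hQ : (polarBilin Q).Nondegenerate) {s : Cfsg.isometryGroup F (⇑Q)}
    (hs : s * s = 1) (hm : finrank F (Em Q s) = 4) {T : Submodule F (ι → F)} (hT : T ≤ Em Q s)
    (hT2 : 2 ≤ finrank F T) (hQT : ∀ z ∈ T, Q z = 0) : del Q s = 1 := by
  -- two independent vectors
  obtain ⟨e₁, he₁, hne₁⟩ : ∃ e ∈ T, e ≠ 0 := by
    by_contra hcon
    push Not at hcon
    have : T = ⊥ := by
      rw [eq_bot_iff]
      intro x hx
      rw [Submodule.mem_bot]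
      exact hcon x hx
    rw [this, finrank_bot] at hT2
    omega
  obtain ⟨e₂, he₂, hne₂⟩ : ∃ e ∈ T, e ∉ Submodule.span F {e₁} := by
    by_contra hcon
    push Not at hcon
    have h1 : T ≤ Submodule.span F {e₁} := hcon
    have h3 := Submodule.finrank_mono h1
    have h6 : finrank F (Submodule.span F {e₁}) ≤ 1 := (finrank_span_le_card ({e₁} : Set (ι → F))).trans (by simp)
    omega
  have hne₁' : e₁ ∉ Submodule.span F {e₂} := by
    intro h
    obtain ⟨c, hc⟩ := Submodule.mem_span_singleton.1 h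
    apply hne₂
    rw [Submodule.mem_span_singleton]
    have hc0 : c ≠ 0 := by
      rintro rfl
      rw [zero_smul] at hc
      exact hne₁ hc.symm
    exact ⟨c⁻¹, by rw [← hc, smul_smul, inv_mul_cancel₀ hc0, one_smul]⟩
  have q1 := hQT _ he₁
  have q2 := hQT _ he₂
  have hp12 : polar (⇑Q) e₁ e₂ = 0 := by
    rw [polar, hQT _ (T.add_mem he₁ he₂), q1, q2]
    simp
  have m1 : act Q s e₁ = -e₁ := hT he₁
  have m2 : act Q s e₂ = -e₂ := hT he₂
  obtain ⟨y, hy, y1, y2⟩ := exists_dual h2 hQ hs m1 m2 hne₁'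
  obtain ⟨f₁, hf₁⟩ : ∃ f, f = y - Q y • e₁ := ⟨_, rfl⟩
  have n1 : act Q s f₁ = -f₁ := by rw [hf₁, map_sub, map_smul, hy, m1, smul_neg]; abel
  have g1 : Q f₁ = 0 := by
    rw [hf₁, sub_eq_add_neg, map_add', QuadraticMap.map_neg, QuadraticMap.map_smul, q1, polar_neg_right,
      polar_smul_right, polar_comm, y1]
    simp
  have p11 : polar (⇑Q) e₁ f₁ = 1 := by
    rw [hf₁, polar_sub_right, polar_smul_right, polar_eq_two, q1, y1]
    simp
  have p21 : polar (⇑Q) e₂ f₁ = 0 := by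
    rw [hf₁, polar_sub_right, polar_smul_right, polar_comm (⇑Q) e₂ e₁, hp12, y2]
    simp
  obtain ⟨z, hz, z2, z1⟩ := exists_dual h2 hQ hs m2 m1 hne₂
  obtain ⟨w, hw⟩ : ∃ w, w = z - polar (⇑Q) f₁ z • e₁ := ⟨_, rfl⟩
  have nw : act Q s w = -w := by rw [hw, map_sub, map_smul, hz, m1, smul_neg]; abel
  have pf : polar (⇑Q) f₁ w = 0 := by
    rw [hw, polar_sub_right, polar_smul_right, polar_comm (⇑Q) f₁ e₁, p11]
    simp
  have pe1 : polar (⇑Q) e₁ w = 0 := by
    rw [hw, polar_sub_right, polar_smul_right, polar_eq_two, q1, z1]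
    simp
  have pe2 : polar (⇑Q) e₂ w = 1 := by
    rw [hw, polar_sub_right, polar_smul_right, polar_comm (⇑Q) e₂ e₁, hp12, z2]
    simp
  obtain ⟨f₂, hf₂⟩ : ∃ f, f = w - Q w • e₂ := ⟨_, rfl⟩
  have n2 : act Q s f₂ = -f₂ := by rw [hf₂, map_sub, map_smul, nw, m2, smul_neg]; abel
  have g2 : Q f₂ = 0 := by
    rw [hf₂, sub_eq_add_neg, map_add', QuadraticMap.map_neg, QuadraticMap.map_smul, q2, polar_neg_right,
      polar_smul_right, polar_comm, pe2]
    simp
  have p12 : polar (⇑Q) e₁ f₂ = 0 := by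
    rw [hf₂, polar_sub_right, polar_smul_right, hp12, pe1]
    simp
  have p22 : polar (⇑Q) e₂ f₂ = 1 := by
    rw [hf₂, polar_sub_right, polar_smul_right, polar_eq_two, q2, pe2]
    simp
  have pff : polar (⇑Q) f₁ f₂ = 0 := by
    rw [hf₂, polar_sub_right, polar_smul_right, polar_comm (⇑Q) f₁ e₂, p21, pf]
    simp
  -- the four reflections
  have v1 : Q (e₁ + f₁) = 1 := by rw [map_add', q1, g1, p11]; simp
  have v2 : Q (e₁ - f₁) = -1 := by
    rw [sub_eq_add_neg, map_add', QuadraticMap.map_neg, polar_neg_right, q1, g1, p11]; simp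
  have v3 : Q (e₂ + f₂) = 1 := by rw [map_add', q2, g2, p22]; simp
  have v4 : Q (e₂ - f₂) = -1 := by
    rw [sub_eq_add_neg, map_add', QuadraticMap.map_neg, polar_neg_right, q2, g2, p22]; simp
  have w1 : Q (e₁ + f₁) ≠ 0 := by rw [v1]; exact one_ne_zero
  have w2 : Q (e₁ - f₁) ≠ 0 := by rw [v2]; exact neg_ne_zero.2 one_ne_zero
  have w3 : Q (e₂ + f₂) ≠ 0 := by rw [v3]; exact one_ne_zero
  have w4 : Q (e₂ - f₂) ≠ 0 := by rw [v4]; exact neg_ne_zero.2 one_ne_zero
  have o12 : polar (⇑Q) (e₁ + f₁) (e₁ - f₁) = 0 := by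
    simp only [polar_add_left, polar_sub_right, polar_eq_two]
    rw [q1, g1, polar_comm (⇑Q) f₁ e₁]
    ring
  have o13 : polar (⇑Q) (e₁ + f₁) (e₂ + f₂) = 0 := by
    simp only [polar_add_left, polar_add_right]
    rw [hp12, p12, polar_comm (⇑Q) f₁ e₂, p21, pff]
    ring
  have o14 : polar (⇑Q) (e₁ + f₁) (e₂ - f₂) = 0 := by
    simp only [polar_add_left, polar_sub_right]
    rw [hp12, p12, polar_comm (⇑Q) f₁ e₂, p21, pff]
    ring
  have o23 : polar (⇑Q) (e₁ - f₁) (e₂ + f₂) = 0 := by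
    simp only [polar_sub_left, polar_add_right]
    rw [hp12, p12, polar_comm (⇑Q) f₁ e₂, p21, pff]
    ring
  have o24 : polar (⇑Q) (e₁ - f₁) (e₂ - f₂) = 0 := by
    simp only [polar_sub_left, polar_sub_right]
    rw [hp12, p12, polar_comm (⇑Q) f₁ e₂, p21, pff]
    ring
  have o34 : polar (⇑Q) (e₂ + f₂) (e₂ - f₂) = 0 := by
    simp only [polar_add_left, polar_sub_right, polar_eq_two]
    rw [q2, g2, polar_comm (⇑Q) f₂ e₂]
    ring
  have a1 : act Q s (e₁ + f₁) = -(e₁ + f₁) := by rw [map_add, m1, n1]; abel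
  have a2 : act Q s (e₁ - f₁) = -(e₁ - f₁) := by rw [map_sub, m1, n1]; abel
  have a3 : act Q s (e₂ + f₂) = -(e₂ + f₂) := by rw [map_add, m2, n2]; abel
  have a4 : act Q s (e₂ - f₂) = -(e₂ - f₂) := by rw [map_sub, m2, n2]; abel
  obtain ⟨b1, -, -, -, c1⟩ := peel h2 hs w1 a1
  have a2' : act Q (s * reflIso Q _ w1) (e₁ - f₁) = -(e₁ - f₁) := by
    rw [act_mul, act_refl_of_perp w1 o12, a2]
  obtain ⟨b2, -, -, -, c2⟩ := peel h2 b1 w2 a2'
  have a3' : act Q (s * reflIso Q _ w1 * reflIso Q _ w2) (e₂ + f₂) = -(e₂ + f₂) := by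
    rw [act_mul, act_refl_of_perp w2 o23, act_mul, act_refl_of_perp w1 o13, a3]
  obtain ⟨b3, -, -, -, c3⟩ := peel h2 b2 w3 a3'
  have a4' : act Q (s * reflIso Q _ w1 * reflIso Q _ w2 * reflIso Q _ w3) (e₂ - f₂) = -(e₂ - f₂) := by
    rw [act_mul, act_refl_of_perp w3 o34, act_mul, act_refl_of_perp w2 o24, act_mul, act_refl_of_perp w1 o14, a4]
  obtain ⟨b4, -, -, -, c4⟩ := peel h2 b3 w4 a4'
  have h1 := eq_one_of_Em h2 b4 (by omega)
  have h3 := congrArg (del Q) h1
  have d1 : del Q (reflIso Q _ w1) = del Q (reflIso Q _ w3) := by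
    rw [del_refl_iff h2, v1, v3]
    exact ⟨1, rfl⟩
  have d2 : del Q (reflIso Q _ w2) = del Q (reflIso Q _ w4) := by
    rw [del_refl_iff h2, v2, v4]
    exact ⟨1, by ring⟩
  have r3 : del Q (reflIso Q _ w3) * del Q (reflIso Q _ w3) = 1 := by rw [← map_mul, reflIso_mul_self, map_one]
  have r4 : del Q (reflIso Q _ w4) * del Q (reflIso Q _ w4) = 1 := by rw [← map_mul, reflIso_mul_self, map_one]
  rw [map_mul, map_mul, map_mul, map_mul, map_one, d1, d2] at h3
  calc del Q s = del Q s * (del Q (reflIso Q _ w3) * del Q (reflIso Q _ w3)) *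
        (del Q (reflIso Q _ w4) * del Q (reflIso Q _ w4)) := by rw [r3, r4, mul_one, mul_one]
    _ = del Q s * del Q (reflIso Q _ w3) * del Q (reflIso Q _ w4) * del Q (reflIso Q _ w3) *
        del Q (reflIso Q _ w4) := by
      simp only [mul_comm, mul_left_comm]
    _ = 1 := h3

open Cfsg.Agent.H46.QS (R2 TS CR fin_step exists_refl)

theorem finrank_pair_le (u v : ι → F) : finrank F (Submodule.span F {u, v}) ≤ 2 := by
  classical
  have h1 := finrank_span_le_card (R := F) ({u, v} : Set (ι → F))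
  refine h1.trans ?_
  rw [Set.toFinset_insert, Set.toFinset_singleton]
  exact Finset.card_le_two

/-- the rank of `E₋(s) ∩ {u, v}^⊥` -/
theorem R2_E (h2 : (2 : F) ≠ 0) (hQ : (polarBilin Q).Nondegenerate) {s : Cfsg.isometryGroup F (⇑Q)}
    (hs : s * s = 1) (hm : finrank F (Em Q s) = 4) {u v : ι → F} (h : gd (be Q s) u v ≠ 0) :
    R2 Q (Pp Q (Em Q (negI Q * s) ⊔ Submodule.span F {u, v})) := by
  have h1 : Pp Q (Em Q (negI Q * s) ⊔ Submodule.span F {u, v}) ⊓
      Pp Q (Pp Q (Em Q (negI Q * s) ⊔ Submodule.span F {u, v})) = ⊥ := by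
    rw [eq_bot_iff, Pp_Pp hQ]
    rintro z ⟨hz, hz'⟩
    obtain ⟨p, hp, w, hw, e⟩ := Submodule.mem_sup.1 hz'
    obtain ⟨x, y, rfl⟩ := Submodule.mem_span_pair.1 hw
    have hzE : act Q s z = -z := (mem_Pp_neg h2 hQ hs).1 fun y hy => hz y (Submodule.mem_sup_left hy)
    have hpf : act Q s p = p := mem_Em_neg.1 hp
    have e1 : pr Q s (x • u + y • v) = z := by
      rw [← pr_of_neg h2 hzE, ← e, map_add (pr Q s) p, pr_of_fix hpf, zero_add]
    have hu : be Q s (x • u + y • v) u = 0 := by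
      rw [be_apply, ← polar_pr h2 hs, e1, polar_comm]
      exact hz u (Submodule.mem_sup_right (Submodule.subset_span (by simp)))
    have hv : be Q s (x • u + y • v) v = 0 := by
      rw [be_apply, ← polar_pr h2 hs, e1, polar_comm]
      exact hz v (Submodule.mem_sup_right (Submodule.subset_span (by simp)))
    obtain ⟨rfl, rfl⟩ := eq_zero_of_gd (be_comm s) h hu hv
    rw [Submodule.mem_bot, ← e1]
    simp
  have h3 := finrank_Pp hQ (Em Q (negI Q * s) ⊔ Submodule.span F {u, v})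
  have h4 := Submodule.finrank_add_le_finrank_add_finrank (Em Q (negI Q * s)) (Submodule.span F {u, v})
  have h5 := finrank_Em_neg h2 hs
  have h6 := finrank_pair_le u v
  unfold R2
  rw [h1, finrank_bot]
  omega

/-- a nonsingular vector of `E₊(s) ∩ {u, v}^⊥` -/
theorem exists_P (h2 : (2 : F) ≠ 0) (hQ : (polarBilin Q).Nondegenerate) (h8 : Fintype.card ι = 8)
    {s : Cfsg.isometryGroup F (⇑Q)} (hs : s * s = 1) (hm : finrank F (Em Q s) = 4) (hd : del Q (negI Q * s) ≠ 1)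
    (u v : ι → F) : ∃ w ∈ Pp Q (Em Q s ⊔ Submodule.span F {u, v}), Q w ≠ 0 := by
  by_contra hcon
  push Not at hcon
  have h3 := finrank_Pp hQ (Em Q s ⊔ Submodule.span F {u, v})
  have h4 := Submodule.finrank_add_le_finrank_add_finrank (Em Q s) (Submodule.span F {u, v})
  have h5 := finrank_Em_neg h2 hs
  have h6 := finrank_pair_le u v
  refine hd (del_one_of_ts h2 hQ (neg_sq' hs) (by omega) (T := Pp Q (Em Q s ⊔ Submodule.span F {u, v})) ?_
    (by omega) hcon)
  intro z hz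
  rw [mem_Em_neg, ← mem_Pp_Em h2 hQ hs]
  exact fun y hy => hz y (Submodule.mem_sup_left hy)

/-- **The final step from a good plane.** -/
theorem fin_plane (h2 : (2 : F) ≠ 0) (hQ : (polarBilin Q).Nondegenerate) (h8 : Fintype.card ι = 8)
    {s t y : Cfsg.isometryGroup F (⇑Q)} (hs : s * s = 1) (hm : finrank F (Em Q s) = 4) (hyt : y * s * y⁻¹ = t)
    (hds : del Q s ≠ 1) (hd : del Q (negI Q * s) ≠ 1) {u v : ι → F} (hu : act Q y u = u) (hv : act Q y v = v)
    (hB : gd (polarBilin Q) u v ≠ 0) (hE : R2 Q (Pp Q (Em Q (negI Q * s) ⊔ Submodule.span F {u, v}))) :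
    TS Q (s * t) := by
  have hA : R2 Q (Submodule.span F {u, v}) := by
    have h1 : Submodule.span F {u, v} ⊓ Pp Q (Submodule.span F {u, v}) = ⊥ := by
      rw [eq_bot_iff]
      rintro z ⟨hz, hz'⟩
      obtain ⟨x, y, rfl⟩ := Submodule.mem_span_pair.1 hz
      obtain ⟨rfl, rfl⟩ := eq_zero_of_gd (by exact pB_comm) hB (x := x) (y := y)
        (by rw [polarBilin_apply_apply, polar_comm]; exact hz' u (Submodule.subset_span (by simp)))
        (by rw [polarBilin_apply_apply, polar_comm]; exact hz' v (Submodule.subset_span (by simp)))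
      simp
    have h3 : LinearIndependent F ![u, v] := by
      rw [LinearIndependent.pair_iff]
      intro x y hxy
      exact eq_zero_of_gd (by exact pB_comm) hB (by rw [hxy, map_zero]; rfl) (by rw [hxy, map_zero]; rfl)
    have h4 := finrank_span_eq_card h3
    rw [Matrix.range_cons, Matrix.range_cons, Matrix.range_empty, Set.union_empty, Set.singleton_union,
      Fintype.card_fin] at h4
    unfold R2
    rw [h1, finrank_bot, h4]
  have hfix : ∀ z ∈ Submodule.span F {u, v}, act Q y z = z := by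
    intro z hz
    obtain ⟨x, w, rfl⟩ := Submodule.mem_span_pair.1 hz
    rw [map_add, map_smul, map_smul, hu, hv]
  obtain ⟨a, ha, ha0, hda⟩ := exists_refl h2 hA (-1)
  obtain ⟨b, hb, hb0, hdb⟩ := exists_refl h2 hA 1
  have hdels : del Q s = (1, -1) := by
    have h1 := del_fst h2 hQ 4 s hs hm
    have h3 : (del Q s).1 = 1 := by rw [h1]; exact Even.neg_one_pow (by decide)
    rcases sign_cases (del Q s).2 with h | h
    · exact absurd (Prod.ext h3 h) hds
    · exact Prod.ext h3 h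
  refine fin_step h2 hQ (s := s) (y := y) (c := reflIso Q a ha0 * reflIso Q b hb0) hs (by rw [hyt])
    ((commute_refl ha0 (hfix a ha)).mul_left (commute_refl hb0 (hfix b hb))) ?_
    (P := Pp Q (Em Q s ⊔ Submodule.span F {u, v})) (E := Pp Q (Em Q (negI Q * s) ⊔ Submodule.span F {u, v}))
    ?_ ?_ ?_ ?_ (Or.inr ⟨hE, exists_P h2 hQ h8 hs hm hd u v⟩)
  · rw [map_mul, hda, hdb, hdels]
    apply Prod.ext
    · simp
    · simp
  · intro z hz
    rw [← mem_Pp_Em h2 hQ hs]
    exact fun y hy => hz y (Submodule.mem_sup_left hy)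
  · intro z hz
    rw [act_mul, act_refl_of_perp hb0 (hz b (Submodule.mem_sup_right hb)),
      act_refl_of_perp ha0 (hz a (Submodule.mem_sup_right ha))]
  · intro z hz
    rw [← mem_Pp_neg h2 hQ hs]
    exact fun y hy => hz y (Submodule.mem_sup_left hy)
  · intro z hz
    rw [act_mul, act_refl_of_perp hb0 (hz b (Submodule.mem_sup_right hb)),
      act_refl_of_perp ha0 (hz a (Submodule.mem_sup_right ha))]

/-- the rank condition for the second form -/
theorem rank_cond (h2 : (2 : F) ≠ 0) (hQ : (polarBilin Q).Nondegenerate)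
    {s : Cfsg.isometryGroup F (⇑Q)} (hs : s * s = 1) (hm : finrank F (Em Q s) = 4)
    {W : Submodule F (ι → F)} (hC : ∀ z ∈ W, act Q s z = z → ∀ w ∈ W, polar (⇑Q) z w = 0)
    {a b d : ι → F} (ha : a ∈ W) (hb : b ∈ W) (hd : d ∈ W)
    (hdn : d ∉ Submodule.span F {a, b} ⊔ (W ⊓ Em Q (negI Q * s))) :
    ∀ c ∈ Submodule.span F {a, b}, ∀ e ∈ Submodule.span F {a, b}, gd (polarBilin Q) c e ≠ 0 → be Q s c c = 0 →
      be Q s c e = 0 → be Q s c d = 0 → gd (be Q s) e d ≠ 0 := by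
  intro c hc e he hce k1 k2 k3 hed
  have hle : Submodule.span F {a, b} ≤ W := by
    rw [Submodule.span_le]
    intro x hx
    rcases hx with rfl | hx
    · exact ha
    · rw [Set.mem_singleton_iff] at hx
      rw [hx]
      exact hb
  obtain ⟨x, y, hxy, l1, l2⟩ := exists_ker (be_comm s) hed
  have I : ∀ x y w : F, pr Q s (x • c + y • e + w • d) = 0 → x = 0 ∧ y = 0 ∧ w = 0 := by
    intro x y w h
    have hf := fix_of_pr h2 h
    have hce' : x • c + y • e ∈ Submodule.span F {a, b} :=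
      add_mem (Submodule.smul_mem _ _ hc) (Submodule.smul_mem _ _ he)
    have hmW : x • c + y • e + w • d ∈ W := add_mem (hle hce') (Submodule.smul_mem _ _ hd)
    have hw : w = 0 := by
      by_contra hw
      apply hdn
      have e1 : d = w⁻¹ • (-(x • c + y • e)) + w⁻¹ • (x • c + y • e + w • d) := by
        rw [← smul_add, neg_add_cancel_left, smul_smul, inv_mul_cancel₀ hw, one_smul]
      rw [e1]
      exact Submodule.add_mem_sup (Submodule.smul_mem _ _ (neg_mem hce'))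
        (Submodule.smul_mem _ _ ⟨hmW, mem_Em_neg.2 hf⟩)
    subst hw
    rw [zero_smul, add_zero] at hf hmW
    obtain ⟨h3, h4⟩ := eq_zero_of_gd (by exact pB_comm) hce (hC _ hmW hf c (hle hc)) (hC _ hmW hf e (hle he))
    exact ⟨h3, h4, rfl⟩
  obtain ⟨z, hz⟩ : ∃ z, z = x • e + y • d := ⟨_, rfl⟩
  rw [← hz] at l1 l2
  have l3 : be Q s z c = 0 := by
    rw [hz, map_add, map_smul, map_smul, LinearMap.add_apply, LinearMap.smul_apply, LinearMap.smul_apply,
      be_comm s e c, be_comm s d c, k2, k3]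
    simp
  have hlin : LinearIndependent F ![pr Q s c, pr Q s z] := by
    rw [LinearIndependent.pair_iff]
    intro r r' h
    have h1 : pr Q s (r • c + (r' * x) • e + (r' * y) • d) = 0 := by
      rw [← h, hz]
      simp only [map_add, map_smul, smul_add, smul_smul, add_assoc]
    obtain ⟨h3, h4, h5⟩ := I _ _ _ h1
    refine ⟨h3, ?_⟩
    rcases hxy with hx | hy
    · exact (mul_eq_zero.1 h4).resolve_right hx
    · exact (mul_eq_zero.1 h5).resolve_right hy
  have hf2 := finrank_span_eq_card hlin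
  rw [Matrix.range_cons, Matrix.range_cons, Matrix.range_empty, Set.union_empty, Set.singleton_union,
    Fintype.card_fin] at hf2
  have hlin3 : LinearIndependent F ![c, e, d] := by
    rw [Fintype.linearIndependent_iff]
    intro g hg
    rw [Fin.sum_univ_three] at hg
    have h1 := I (g 0) (g 1) (g 2) (by
      have : g 0 • c + g 1 • e + g 2 • d = 0 := hg
      rw [this, map_zero])
    intro i
    fin_cases i
    · exact h1.1
    · exact h1.2.1
    · exact h1.2.2
  have hf3 := finrank_span_eq_card hlin3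
  rw [Matrix.range_cons, Matrix.range_cons, Matrix.range_cons, Matrix.range_empty, Set.union_empty,
    Set.singleton_union, Set.singleton_union, Fintype.card_fin] at hf3
  have hXP : Submodule.span F {c, e, d} ⊓ Em Q (negI Q * s) = ⊥ := by
    rw [eq_bot_iff]
    rintro w ⟨hw, hw'⟩
    obtain ⟨x, y, w, rfl⟩ := Submodule.mem_span_triple.1 hw
    obtain ⟨rfl, rfl, rfl⟩ := I _ _ _ (pr_of_fix (mem_Em_neg.1 hw'))
    simp only [_root_.zero_smul, _root_.add_zero, _root_.ZeroMemClass.zero_mem]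
  have h4 := Submodule.finrank_sup_add_finrank_inf_eq (Submodule.span F {c, e, d}) (Em Q (negI Q * s))
  rw [hXP, finrank_bot, add_zero, hf3] at h4
  have hperp : ∀ v : ι → F, be Q s v c = 0 → be Q s v e = 0 → be Q s v d = 0 →
      pr Q s v ∈ Pp Q (Submodule.span F {c, e, d} ⊔ Em Q (negI Q * s)) := by
    intro v hv1 hv2 hv3 w hw
    obtain ⟨w', hw', p, hp, rfl⟩ := Submodule.mem_sup.1 hw
    obtain ⟨x, y, w, rfl⟩ := Submodule.mem_span_triple.1 hw'
    rw [be_apply, ← polar_pr h2 hs] at hv1 hv2 hv3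
    rw [polar_add_left, polar_eq_zero h2 s (mem_Em_neg.1 hp) (pr_mem hs v), add_zero, polar_comm, polar_add_right,
      polar_add_right, polar_smul_right, polar_smul_right, polar_smul_right, hv1, hv2, hv3]
    simp
  have h5 : Submodule.span F {pr Q s c, pr Q s z} ≤
      Pp Q (Submodule.span F {c, e, d} ⊔ Em Q (negI Q * s)) := by
    rw [Submodule.span_le]
    intro v hv
    rcases hv with rfl | hv
    · exact hperp c k1 k2 k3
    · rw [Set.mem_singleton_iff] at hv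
      rw [hv]
      exact hperp z l3 l1 l2
  have h6 := Submodule.finrank_mono h5
  have h7 := finrank_Pp hQ (Submodule.span F {c, e, d} ⊔ Em Q (negI Q * s))
  have h8 := finrank_Em_neg h2 hs
  omega

/-- **The case (C).** -/
theorem cr (h2 : (2 : F) ≠ 0) (hQ : (polarBilin Q).Nondegenerate) (h8 : Fintype.card ι = 8) : CR Q := by
  intro s t y U hs ht hm hyt hU hU2 hyU hds hd
  obtain ⟨e₁, h₁, e₂, h₂, he⟩ := hU2
  have hW := rad_Pp_two hQ h2 h₁ h₂ he
  have hfU := finrank_Pp hQ U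
  have hfP := finrank_Em_neg h2 hs
  obtain ⟨W, hWU⟩ : ∃ W, W = Pp Q U := ⟨_, rfl⟩
  rw [← hWU] at hW hfU hyU
  have hWr : finrank F (W ⊓ Pp Q W : Submodule F (ι → F)) + 2 ≤ finrank F W := by omega
  by_cases hC : ∃ z ∈ W, act Q s z = z ∧ ∃ w ∈ W, polar (⇑Q) z w ≠ 0
  · obtain ⟨z, hz, hzs, w, hw, hzw⟩ := hC
    obtain ⟨b, hb, hzb⟩ : ∃ b ∈ W, gd (polarBilin Q) z b ≠ 0 := by
      by_cases hz0 : Q z = 0
      · refine ⟨w, hw, ?_⟩
        unfold gd
        rw [polarBilin_apply_apply, polarBilin_apply_apply, polarBilin_apply_apply, polar_eq_two, hz0, mul_zero,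
          zero_mul, zero_sub, neg_ne_zero]
        exact mul_ne_zero hzw hzw
      · obtain ⟨b, hb, h3, h4⟩ := exists_pair h2 hWr hz hz0
        refine ⟨b, hb, ?_⟩
        unfold gd
        rw [polarBilin_apply_apply, polarBilin_apply_apply, polarBilin_apply_apply, polar_eq_two, polar_eq_two, h3,
          mul_zero, sub_zero]
        exact mul_ne_zero (mul_ne_zero h2 hz0) (mul_ne_zero h2 h4)
    refine fin_plane h2 hQ h8 hs hm hyt hds hd (hyU z hz) (hyU b hb) hzb ?_
    have h1 : Em Q (negI Q * s) ⊔ Submodule.span F {z, b} = Em Q (negI Q * s) ⊔ Submodule.span F {b} := by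
      apply le_antisymm
      · refine sup_le le_sup_left ?_
        rw [Submodule.span_le]
        intro x hx
        rcases hx with rfl | hx
        · exact Submodule.mem_sup_left (mem_Em_neg.2 hzs)
        · exact Submodule.mem_sup_right (Submodule.subset_span hx)
      · exact sup_le_sup_left (Submodule.span_mono (by simp)) _
    have h3 := rad_le h2 hQ (neg_sq' hs) b
    have h4 := finrank_Pp hQ (Em Q (negI Q * s) ⊔ Submodule.span F {b})
    have h5 := Submodule.finrank_add_le_finrank_add_finrank (Em Q (negI Q * s)) (Submodule.span F {b})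
    have h6 : finrank F (Submodule.span F {b}) ≤ 1 := (finrank_span_le_card ({b} : Set (ι → F))).trans (by simp)
    rw [h1]
    unfold R2
    omega
  · push Not at hC
    obtain ⟨a, ha, ha1⟩ := rep h2 hWr 1
    have ha0 : Q a ≠ 0 := by rw [ha1]; exact one_ne_zero
    obtain ⟨b, hb, hab, hb0⟩ := exists_pair h2 hWr ha ha0
    have hg : gd (polarBilin Q) a b ≠ 0 := by
      unfold gd
      rw [polarBilin_apply_apply, polarBilin_apply_apply, polarBilin_apply_apply, polar_eq_two, polar_eq_two, hab,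
        mul_zero, sub_zero]
      exact mul_ne_zero (mul_ne_zero h2 ha0) (mul_ne_zero h2 hb0)
    have hN : finrank F (W ⊓ Em Q (negI Q * s) : Submodule F (ι → F)) ≤ 1 := by
      by_contra hcon
      refine hd (del_one_of_ts h2 hQ (neg_sq' hs) (by omega) (T := W ⊓ Em Q (negI Q * s)) inf_le_right (by omega) ?_)
      rintro z ⟨hz, hz'⟩
      have := hC z hz (mem_Em_neg.1 hz') z hz
      rw [polar_eq_two] at this
      exact (mul_eq_zero.1 this).resolve_left h2
    obtain ⟨d, hdW, hdn⟩ : ∃ d ∈ W, d ∉ Submodule.span F {a, b} ⊔ (W ⊓ Em Q (negI Q * s)) := by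
      by_contra hcon
      push Not at hcon
      have h3 : W ≤ Submodule.span F {a, b} ⊔ (W ⊓ Em Q (negI Q * s)) := hcon
      have h4 := Submodule.finrank_mono h3
      have h5 := Submodule.finrank_add_le_finrank_add_finrank (Submodule.span F {a, b}) (W ⊓ Em Q (negI Q * s))
      have h6 := finrank_pair_le a b
      omega
    obtain ⟨u, hu, v, hv, huv, huv'⟩ := two_forms h2 pB_comm (be_comm s) hg
      (rank_cond h2 hQ hs hm hC ha hb hdW hdn)
    have hle : Submodule.span F {a, b, d} ≤ W := by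
      rw [Submodule.span_le]
      intro x hx
      simp only [Set.mem_insert_iff, Set.mem_singleton_iff] at hx
      rcases hx with rfl | rfl | rfl
      · exact ha
      · exact hb
      · exact hdW
    exact fin_plane h2 hQ h8 hs hm hyt hds hd (hyU u (hle hu)) (hyU v (hle hv)) huv (R2_E h2 hQ hs hm huv')

end Cfsg.Agent.H972.QS
end

-- part: H383/QS/Ker
section
/-!
# S2491, S2492: the kernel of the spin cover (helper383)

* `ext_scalar` : an element of the exterior algebra killed by all contractions is a scalar;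
* `comm_eq` : `v x - x' v = v ⌋ x` in the Clifford algebra;
* `ker_eq` : an element of `Gam Q` over the identity is `1` or `-1`.
-/

set_option autoImplicit false

namespace Cfsg.Agent.H383.QS

open QuadraticMap CliffordAlgebra Module
open Cfsg.Agent.LieClassical.OrthCore Cfsg.Agent.LieClassical.OrthTrans
open Cfsg.Agent.H63.Spin

section ext

variable {F V : Type*} [Field F] [AddCommGroup V] [Module F V]

/-- `v ↦ v - d(v) b` -/
def prj (b : V) (d : Module.Dual F V) : V →ₗ[F] V := LinearMap.id - d.smulRight b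

theorem prj_apply (b : V) (d : Module.Dual F V) (v : V) : prj b d v = v - d v • b := rfl

theorem map_prj (b : V) (d : Module.Dual F V) (x : ExteriorAlgebra F V) :
    ExteriorAlgebra.map (prj b d) x = x - ExteriorAlgebra.ι F b * _root_.CliffordAlgebra.contractLeft d x := by
  induction x using CliffordAlgebra.left_induction with
  | algebraMap r => rw [contractLeft_algebraMap, mul_zero, sub_zero, AlgHom.commutes]
  | add x y hx hy =>
    rw [map_add, map_add, hx, hy, mul_add]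
    abel
  | ι_mul x m hx =>
    have h1 : ExteriorAlgebra.ι F b * ExteriorAlgebra.ι F b = 0 := ExteriorAlgebra.ι_sq_zero b
    have h2 : ExteriorAlgebra.ι F b * ExteriorAlgebra.ι F m = -(ExteriorAlgebra.ι F m * ExteriorAlgebra.ι F b) :=
      eq_neg_of_add_eq_zero_left (ExteriorAlgebra.ι_add_mul_swap b m)
    rw [map_mul, hx]
    have h3 : ExteriorAlgebra.map (prj b d) (ι (0 : QuadraticForm F V) m) =
        ExteriorAlgebra.ι F m - d m • ExteriorAlgebra.ι F b := by
      rw [show ι (0 : QuadraticForm F V) m = ExteriorAlgebra.ι F m from rfl, ExteriorAlgebra.map_apply_ι, prj_apply,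
        map_sub, map_smul]
    rw [h3, contractLeft_ι_mul]
    change (ExteriorAlgebra.ι F m - d m • ExteriorAlgebra.ι F b) * (x - ExteriorAlgebra.ι F b * _root_.CliffordAlgebra.contractLeft d x) =
      ExteriorAlgebra.ι F m * x - ExteriorAlgebra.ι F b * (d m • x - ExteriorAlgebra.ι F m * _root_.CliffordAlgebra.contractLeft d x)
    rw [sub_mul, mul_sub, mul_sub, mul_sub, smul_mul_assoc, smul_mul_assoc, ← mul_assoc (ExteriorAlgebra.ι F b) _ (_root_.CliffordAlgebra.contractLeft d x),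
      ← mul_assoc (ExteriorAlgebra.ι F b) _ (_root_.CliffordAlgebra.contractLeft d x), h1, zero_mul, smul_zero, sub_zero, h2, mul_smul_comm,
      ← mul_assoc, neg_mul]
    abel

theorem ext_scalar_aux [FiniteDimensional F V] (x : ExteriorAlgebra F V) (hx : ∀ d : Module.Dual F V, _root_.CliffordAlgebra.contractLeft d x = 0) :
    ∀ n : ℕ, ∀ f : V →ₗ[F] V, finrank F (LinearMap.range f) = n → ExteriorAlgebra.map f x = x →
      ∃ c : F, x = algebraMap F _ c := by
  intro n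
  induction n using Nat.strong_induction_on with
  | _ n ih =>
    intro f hn hf
    by_cases h0 : f = 0
    · subst h0
      refine ⟨ExteriorAlgebra.algebraMapInv x, ?_⟩
      nth_rw 1 [← hf]
      have : (ExteriorAlgebra.map (0 : V →ₗ[F] V)) =
          (Algebra.ofId F (ExteriorAlgebra F V)).comp ExteriorAlgebra.algebraMapInv := by
        apply ExteriorAlgebra.hom_ext
        ext v
        simp only [ExteriorAlgebra.algebraMapInv, _root_.ExteriorAlgebra.map_comp_ι, _root_.LinearMap.comp_zero, _root_.LinearMap.zero_apply, _root_.AlgHom.comp_toLinearMap, _root_.LinearMap.coe_comp, _root_.AlgHom.coe_toLinearMap, _root_.Function.comp_apply, _root_.ExteriorAlgebra.lift_ι_apply, _root_.Algebra.ofId_apply, _root_.map_zero]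
      rw [this]
      rfl
    · obtain ⟨v, hv⟩ : ∃ v, f v ≠ 0 := by
        by_contra hcon
        push Not at hcon
        exact h0 (LinearMap.ext hcon)
      obtain ⟨d, hd⟩ : ∃ d : Module.Dual F V, d (f v) ≠ 0 := by
        by_contra hcon
        push Not at hcon
        exact hv ((Module.forall_dual_apply_eq_zero_iff F _).1 hcon)
      obtain ⟨d', hd'⟩ : ∃ d' : Module.Dual F V, d' (f v) = 1 :=
        ⟨(d (f v))⁻¹ • d, by rw [LinearMap.smul_apply, smul_eq_mul, inv_mul_cancel₀ hd]⟩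
      refine ih _ ?_ ((prj (f v) d').comp f) rfl ?_
      · rw [← hn]
        apply Submodule.finrank_lt_finrank_of_lt
        refine lt_of_le_of_ne ?_ ?_
        · rintro _ ⟨w, rfl⟩
          rw [LinearMap.comp_apply, prj_apply]
          exact Submodule.sub_mem _ ⟨w, rfl⟩ (Submodule.smul_mem _ _ ⟨v, rfl⟩)
        · intro heq
          have h1 : f v ∈ LinearMap.range ((prj (f v) d').comp f) := by rw [heq]; exact ⟨v, rfl⟩
          obtain ⟨w, hw⟩ := h1
          have h2 := congrArg d' hw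
          rw [LinearMap.comp_apply, prj_apply, map_sub, map_smul, hd', smul_eq_mul, mul_one, sub_self] at h2
          exact zero_ne_one h2
      · rw [← ExteriorAlgebra.map_comp_map, AlgHom.comp_apply, hf, map_prj, hx, mul_zero, sub_zero]

/-- an element of the exterior algebra killed by all contractions is a scalar -/
theorem ext_scalar [FiniteDimensional F V] (x : ExteriorAlgebra F V) (hx : ∀ d : Module.Dual F V, _root_.CliffordAlgebra.contractLeft d x = 0) :
    ∃ c : F, x = algebraMap F _ c :=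
  ext_scalar_aux x hx _ LinearMap.id rfl (by rw [ExteriorAlgebra.map_id]; rfl)

end ext

section cliff

variable {F V : Type*} [Field F] [AddCommGroup V] [Module F V] {Q : QuadraticForm F V}

/-- an element of the Clifford algebra killed by all contractions is a scalar -/
theorem cliff_scalar [FiniteDimensional F V] (h2 : (2 : F) ≠ 0) (x : CliffordAlgebra Q)
    (hx : ∀ d : Module.Dual F V, _root_.CliffordAlgebra.contractLeft d x = 0) : ∃ c : F, x = algebraMap F _ c := by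
  have : Invertible (2 : F) := invertibleOfNonzero h2
  have h := changeForm.associated_neg_proof (Q := Q)
  obtain ⟨c, hc⟩ := ext_scalar (changeForm h x) (fun d => by rw [← changeForm_contractLeft, hx, map_zero])
  exact ⟨c, (changeFormEquiv h).injective (hc.trans (changeForm_algebraMap h c).symm)⟩

/-- `v x - x' v = v ⌋ x` -/
theorem comm_eq (v : V) (x : CliffordAlgebra Q) :
    ι Q v * x - involute x * ι Q v = _root_.CliffordAlgebra.contractLeft (polarBilin Q v) x := by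
  induction x using CliffordAlgebra.left_induction with
  | algebraMap r =>
    rw [contractLeft_algebraMap, AlgHom.commutes, ← Algebra.commutes, sub_self]
  | add x y hx hy =>
    rw [map_add, map_add, ← hx, ← hy, mul_add, add_mul]
    abel
  | ι_mul x m hx =>
    rw [contractLeft_ι_mul, ← hx, map_mul, involute_ι, neg_mul, neg_mul, sub_neg_eq_add, mul_sub, ← mul_assoc,
      show polarBilin Q v m = polar Q v m from rfl]
    have h1 : ι Q v * ι Q m = polar Q v m • (1 : CliffordAlgebra Q) - ι Q m * ι Q v := by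
      rw [← ι_anti]
      abel
    rw [h1, sub_mul, smul_mul_assoc, one_mul]
    simp only [mul_assoc]
    abel

/-- elements commuting with all vectors -/
theorem even_central [FiniteDimensional F V] (h2 : (2 : F) ≠ 0) (hQ : Nondeg Q) (x : CliffordAlgebra Q)
    (he : involute x = x) (hx : ∀ v, ι Q v * x = x * ι Q v) : ∃ c : F, x = algebraMap F _ c := by
  apply cliff_scalar h2
  intro d
  have hinj : Function.Injective (polarBilin Q : V → Module.Dual F V) := by
    intro u v huv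
    rw [← sub_eq_zero]
    apply hQ
    intro y
    have := LinearMap.congr_fun huv y
    change polar Q u y = polar Q v y at this
    rw [polar_sub_left, this, sub_self]
  obtain ⟨v, rfl⟩ := (LinearMap.injective_iff_surjective_of_finrank_eq_finrank
    (f := (polarBilin Q : V →ₗ[F] Module.Dual F V)) (by exact (Subspace.dual_finrank_eq).symm)).1 hinj d
  rw [← comm_eq, he, hx, sub_self]

/-- elements of `Gam Q` are even of norm one -/
theorem gam_norm {x : Am Q} (hx : x ∈ Gam Q) : involute (x.1 : CliffordAlgebra Q) = x.1 ∧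
    reverse (x.1 : CliffordAlgebra Q) * x.1 = 1 := by
  rw [Gam] at hx
  induction hx using Subgroup.closure_induction with
  | mem x hx =>
    obtain ⟨u, v, hu, h, rfl⟩ := hx
    constructor
    · change involute ((Q u)⁻¹ • (ι Q u * ι Q v)) = (Q u)⁻¹ • (ι Q u * ι Q v)
      rw [map_smul, map_mul, involute_ι, involute_ι, neg_mul_neg]
    · change reverse ((Q u)⁻¹ • (ι Q u * ι Q v)) * ((Q u)⁻¹ • (ι Q u * ι Q v)) = 1
      rw [map_smul, reverse.map_mul, reverse_ι, reverse_ι]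
      exact (uu u v hu h).inv_mul
  | one =>
    constructor
    · change involute (1 : CliffordAlgebra Q) = 1
      rw [map_one]
    · change reverse (1 : CliffordAlgebra Q) * 1 = 1
      rw [reverse.map_one, mul_one]
  | mul x y _ _ hx hy =>
    constructor
    · change involute ((x.1 : CliffordAlgebra Q) * (y.1 : CliffordAlgebra Q)) =
        (x.1 : CliffordAlgebra Q) * (y.1 : CliffordAlgebra Q)
      rw [map_mul, hx.1, hy.1]
    · change reverse ((x.1 : CliffordAlgebra Q) * (y.1 : CliffordAlgebra Q)) *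
        ((x.1 : CliffordAlgebra Q) * (y.1 : CliffordAlgebra Q)) = 1
      rw [reverse.map_mul, mul_assoc, ← mul_assoc (reverse (x.1 : CliffordAlgebra Q)), hx.2, one_mul, hy.2]
  | inv x _ hx =>
    have h1 : reverse (x.1 : CliffordAlgebra Q) = ((x.1⁻¹ : (CliffordAlgebra Q)ˣ) : CliffordAlgebra Q) := by
      rw [← Units.mul_inv_eq_one, inv_inv]
      exact hx.2
    constructor
    · change involute ((x.1⁻¹ : (CliffordAlgebra Q)ˣ) : CliffordAlgebra Q) = _
      rw [← h1, ← reverse_involute, hx.1]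
      exact h1
    · change reverse ((x.1⁻¹ : (CliffordAlgebra Q)ˣ) : CliffordAlgebra Q) * _ = 1
      rw [← h1, reverse_reverse]
      change (x.1 : CliffordAlgebra Q) * ((x.1⁻¹ : (CliffordAlgebra Q)ˣ) : CliffordAlgebra Q) = 1
      rw [Units.mul_inv]

/-- **the kernel** -/
theorem ker_eq [FiniteDimensional F V] (h2 : (2 : F) ≠ 0) (hQ : Nondeg Q) {x : Am Q} (hx : x ∈ Gam Q)
    (h : x.2 = 1) : x = 1 ∨ x = mm := by
  obtain ⟨he, hn⟩ := gam_norm hx
  obtain ⟨c, hc⟩ := even_central h2 hQ (x.1 : CliffordAlgebra Q) he (fun v => (Cov.comm (Gam_le_Cov hx) h _).symm)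
  have h3 : c * c = 1 := by
    apply smul_one_inj (Q := Q) h2
    rw [hc, reverse.commutes, ← map_mul, Algebra.algebraMap_eq_smul_one] at hn
    rw [hn, one_smul]
  have h4 : (c - 1) * (c + 1) = 0 := by linear_combination h3
  rcases mul_eq_zero.1 h4 with h5 | h5
  · left
    apply Cov.ext h2 hQ (Gam_le_Cov hx) (one_mem _)
    rw [hc, sub_eq_zero.1 h5, map_one]
    rfl
  · right
    apply Cov.ext h2 hQ (Gam_le_Cov hx) mm_mem_Cov
    rw [hc, eq_neg_of_add_eq_zero_left h5, map_neg, map_one]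
    rfl

end cliff

end Cfsg.Agent.H383.QS
end

-- part: H383/QS/Lift
section
/-!
# S2491, S2492: commutators in the spin group (helper383)

* `TStar Q` : every element of `Ω(Q)` is a commutator `[x, k]`, `x` with eigenvectors `u` (for `1`) and `w` (for `-1`),
  `Q u = Q w ≠ 0`;
* `allC_LL` : then every element of the spin group `LL Q` is a commutator.
-/

set_option autoImplicit false

namespace Cfsg.Agent.H383.QS

open QuadraticMap CliffordAlgebra Module
open Cfsg.Agent.LieClassical.OrthCore Cfsg.Agent.LieClassical.OrthTrans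
open Cfsg.Agent.H63.Spin

variable {F V : Type*} [Field F] [AddCommGroup V] [Module F V]

/-- every element of `Ω(Q)` is a commutator `[x, k]` with an `x` having eigenvectors for `1` and `-1` of the same norm -/
def TStar (Q : QuadraticForm F V) : Prop :=
  ∀ g ∈ E Q, ∃ x ∈ E Q, ∃ k ∈ E Q, g = x * k * x⁻¹ * k⁻¹ ∧
    ∃ u w : V, x u = u ∧ x w = -w ∧ Q u = Q w ∧ Q u ≠ 0

variable {Q : QuadraticForm F V}

theorem pp_neg (h2 : (2 : F) ≠ 0) (hQ : Nondeg Q) {u w : V} (hu : Q u ≠ 0) (h : Q u = Q w) (h' : Q u = Q (-w)) :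
    pp u (-w) hu h' = mm * pp u w hu h := by
  apply Cov.ext h2 hQ (pp_mem_Cov _ _) (mul_mem mm_mem_Cov (pp_mem_Cov _ _))
  change (Q u)⁻¹ • (ι Q u * ι Q (-w)) = (-1 : CliffordAlgebra Q) * ((Q u)⁻¹ • (ι Q u * ι Q w))
  rw [map_neg, mul_neg, smul_neg, neg_one_mul]

/-- **the lift to the spin group** -/
theorem allC_LL [FiniteDimensional F V] (hG : Good Q) (h2 : (2 : F) ≠ 0) (hT : TStar Q) (y : LL Q) :
    ∃ a b : LL Q, a * b * a⁻¹ * b⁻¹ = y := by
  obtain ⟨x, hx, k, hk, hg, u, w, xu, xw, huw, hu⟩ := hT (prL hG y).1 (prL hG y).2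
  obtain ⟨X, hX⟩ := prL_surjective hG h2 ⟨x, hx⟩
  obtain ⟨K, hK⟩ := prL_surjective hG h2 ⟨k, hk⟩
  have hX2 : X.1.1.2 = x := congrArg Subtype.val hX
  have hK2 : K.1.1.2 = k := congrArg Subtype.val hK
  -- `[X, K] = y` or `[X, K] = -y`
  have h1 : ((X * K * X⁻¹ * K⁻¹ * y⁻¹ : LL Q).1 : Am Q).2 = 1 := by
    change X.1.1.2 * K.1.1.2 * X.1.1.2⁻¹ * K.1.1.2⁻¹ * y.1.1.2⁻¹ = 1
    have h3 : (y.1.1.2 : V ≃ₗ[F] V) = x * k * x⁻¹ * k⁻¹ := hg
    rw [hX2, hK2, h3, mul_inv_cancel]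
  rcases ker_eq h2 hG.nondeg (X * K * X⁻¹ * K⁻¹ * y⁻¹ : LL Q).1.2 h1 with h3 | h3
  · refine ⟨X, K, ?_⟩
    have h4 : X * K * X⁻¹ * K⁻¹ * y⁻¹ = 1 := Subtype.ext (Subtype.ext h3)
    exact mul_inv_eq_one.1 h4
  · -- the element `P = pp u w`
    set P : Gam Q := ⟨pp u w hu huw, pp_mem_Gam hu huw⟩ with hP
    obtain ⟨l, hl⟩ := prL_surjective hG h2 (pr hG P)
    have hz : l.1 * P⁻¹ ∈ Subgroup.center (Gam Q) := by
      apply pr_ker hG
      rw [MonoidHom.mem_ker, map_mul, map_inv]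
      change prL hG l * (pr hG P)⁻¹ = 1
      rw [hl, mul_inv_cancel]
    have hxO : x ∈ O Q := E_le_O hx
    have h4 : (X.1.1 : Am Q) * pp u w hu huw * (X.1.1 : Am Q)⁻¹ = mm * pp u w hu huw := by
      rw [← pp_neg h2 hG.nondeg hu huw (by rw [QuadraticMap.map_neg, huw])]
      exact conj_pp (Gam_le_Cov X.1.2) (by rw [hX2]; exact hxO) hu huw (by rw [hX2, xu]) (by rw [hX2, xw]) hu _
    -- `P X P⁻¹ = - X`
    have h5 : (pp u w hu huw : Am Q) * X.1.1 * (pp u w hu huw)⁻¹ = mm * X.1.1 := by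
      rw [mul_inv_eq_iff_eq_mul] at h4 ⊢
      have h6 : (X.1.1 : Am Q) * pp u w hu huw = mm * (pp u w hu huw * X.1.1) := by rw [h4, mul_assoc]
      rw [mul_assoc, h6, ← mul_assoc, mm_sq, one_mul]
    have h6 : (l.1.1 : Am Q) * X.1.1 * (l.1.1 : Am Q)⁻¹ = mm * X.1.1 := by
      have h7 := Subgroup.mem_center_iff.1 hz
      have h8 : (l.1 : Gam Q) = (l.1 * P⁻¹) * P := by rw [inv_mul_cancel_right]
      have h9 : (l.1 : Gam Q) * X.1 * (l.1)⁻¹ = P * X.1 * P⁻¹ := by
        rw [h8]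
        generalize l.1 * P⁻¹ = z at h7
        have h10 : z * P * X.1 * (z * P)⁻¹ = z * (P * X.1 * P⁻¹) * z⁻¹ := by group
        rw [h10, ← h7, mul_inv_cancel_right]
      have h10 := congrArg (fun t : Gam Q => (t : Am Q)) h9
      exact h10.trans h5
    refine ⟨X, K * l, ?_⟩
    apply Subtype.ext
    apply Subtype.ext
    change (X.1.1 : Am Q) * (K.1.1 * l.1.1) * X.1.1⁻¹ * (K.1.1 * l.1.1)⁻¹ = y.1.1
    have h11 : (X.1.1 : Am Q) * (K.1.1 * l.1.1) * X.1.1⁻¹ * (K.1.1 * l.1.1)⁻¹ =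
        X.1.1 * K.1.1 * (l.1.1 * X.1.1 * l.1.1⁻¹)⁻¹ * K.1.1⁻¹ := by group
    have h12 : (X.1.1 : Am Q) * K.1.1 * X.1.1⁻¹ * K.1.1⁻¹ * y.1.1⁻¹ = mm := h3
    have h13 : (mm : Am Q)⁻¹ = mm := inv_eq_of_mul_eq_one_left mm_sq
    have h14 : (X.1.1 : Am Q) * K.1.1 * X.1.1⁻¹ * K.1.1⁻¹ = mm * y.1.1 := by
      rw [mul_inv_eq_iff_eq_mul] at h12
      exact h12
    rw [h11, h6, mul_inv_rev, h13]
    have h15 : (X.1.1 : Am Q) * K.1.1 * (X.1.1⁻¹ * mm) * K.1.1⁻¹ = mm * (X.1.1 * K.1.1 * X.1.1⁻¹ * K.1.1⁻¹) := by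
      rw [← mul_assoc, ← mm_comm]
      simp only [mul_assoc]
    rw [h15, h14, ← mul_assoc, mm_sq, one_mul]

end Cfsg.Agent.H383.QS
end

-- part: H383/QS/Rows
section
/-!
# S2491, S2492: the rows `PΩ(q)`, `q` odd (helper383)

* `row_of_le` : a perfect central extension whose kernel has at least the order of the multiplier;
* `row_odd` : `PΩ_{2m+1}(q)`, `m ≥ 3`, not `(3, 3)`;
* `row_plus`, `row_minus` : from `TStar` of the form.
-/

set_option autoImplicit false

namespace Cfsg.Agent.H383.QS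

open QuadraticMap
open Cfsg.Agent.LieClassical Cfsg.Agent.LieClassical.OrthCore Cfsg.Agent.LieClassical.OrthTrans
open Cfsg.Agent.LieClassical.OrthSimple Cfsg.Agent.LieClassical.OrthFinite Cfsg.Agent.LieClassical.OrthForms
open Cfsg.Agent.TitsThree Cfsg.Agent.TitsThree.Siegel Cfsg.Agent.TitsThree.SiegelGen
  Cfsg.Agent.TitsThree.WittFrame Cfsg.Agent.TitsThree.WittWeyl Cfsg.Agent.TitsThree.WBridge
  Cfsg.Agent.TitsThree.KSideO Cfsg.Agent.TitsThree.StdData
open Cfsg.Agent.Nodes.WittInst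
open Cfsg.Agent.H51.Mult Cfsg.Agent.H63.Spin Cfsg.Agent.H63.Asm
open Cfsg.Agent.H6.QO Cfsg.Agent.H777.Ore

universe u v w x

/-- a perfect central extension whose kernel has at least the order of the multiplier -/
theorem row_of_le {K : Type v} [Group K] {A : Type w} [CommGroup A] (hA : Cfsg.HasSchurMultiplier K A)
    {Γ : Type u} [Group Γ] [Finite Γ] {σ : Γ →* K} (hσ : PCE σ) (hle : Nat.card A ≤ Nat.card σ.ker) (h : AllC Γ) :
    RowA K := by
  have hfA : Finite A := Cfsg.Agent.H487.finite_multiplier hA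
  have h1 := H990.TC.card_ker_dvd hA hσ
  exact RowA.of_univ hA hσ (le_antisymm (Nat.le_of_dvd Nat.card_pos h1) hle) h

section spin

variable {κ : Type} [Fintype κ] [DecidableEq κ] {F : Type u} [Field F] [Finite F] {Q : QuadraticForm F (κ → F)}
  (hG : Good Q) (h2 : (2 : F) ≠ 0)

include h2 in
theorem row_spin {A : Type w} [CommGroup A] (hA : Cfsg.HasSchurMultiplier (Cfsg.POmega F ⇑Q) A) (hT : TStar Q)
    (hle : Nat.card A ≤ Nat.card (spi hG).ker) : RowA (Cfsg.POmega F ⇑Q) := by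
  have := finite_LL hG h2
  refine row_of_le hA (pce hG h2) hle fun y => ?_
  obtain ⟨a, b, e⟩ := allC_LL hG h2 hT y
  exact ⟨a, b, e.symm⟩

include h2 in
theorem row_spin_cyc {n : ℕ} (hA : Cfsg.HasCyclicSchurMultiplier (Cfsg.POmega F ⇑Q) n) (hT : TStar Q)
    (hn : n ∣ Nat.card (spi hG).ker) : RowA (Cfsg.POmega F ⇑Q) := by
  have := finite_LL hG h2
  refine row_spin hG h2 hA hT ?_
  have h1 : Nat.card (Multiplicative (ZMod n)) = n := Nat.card_zmod n
  rw [h1]
  exact Nat.le_of_dvd Nat.card_pos hn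

end spin

theorem odd_card {F : Type u} [Field F] [Fintype F] (h2 : (2 : F) ≠ 0) : Odd (Fintype.card F) := by
  rw [Nat.odd_iff]
  exact FiniteField.odd_card_of_char_ne_two (F := F) (by
    intro h
    have := ringChar.charP F
    rw [h] at this
    exact h2 (by exact_mod_cast CharP.cast_eq_zero F 2))

/-- **`PΩ_{2m+1}(q)`** -/
theorem row_odd {F : Type u} [Field F] [Fintype F] (h2 : (2 : F) ≠ 0) {m : ℕ} (hm : 3 ≤ m)
    (hexc : ¬ (m = 3 ∧ Fintype.card F = 3)) : RowA (Cfsg.POmega F (Cfsg.quadFormOdd m F)) := by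
  have hG : Good (oddForm m F) := H48.OMult.good_odd h2 (by omega)
  have hA := Cfsg.Agent.S2094.result (F := F) rfl (odd_card h2) m hm hexc
  have hT : TStar (oddForm m F) := fun g hg =>
    H397.QS.TStar.tstar_odd hG h2 hm (by simp only [Fintype.card_sum, _root_.Fintype.card_unique, _root_.Fintype.card_fin]; ring) g hg
  have h3 := row_spin_cyc hG h2 (n := 2) (by rw [coe_oddForm]; exact hA) hT (two_dvd hG h2 (wodd m F) hm)
  rwa [coe_oddForm] at h3

/-- **`PΩ⁺_{2l}(q)`** -/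
theorem row_plus {F : Type u} [Field F] [Fintype F] (h2 : (2 : F) ≠ 0) {l : ℕ} (hl : 4 ≤ l)
    (hT : TStar (plusForm l F)) : RowA (Cfsg.POmega F (Cfsg.quadFormPlus l F)) := by
  have hG : Good (plusForm l F) := H63.Plus.good_plus F (by omega)
  rw [← coe_plusForm]
  rcases Nat.even_or_odd l with heven | hodd
  · have hA := H63.Plus.even_rank h2 hl heven
    rw [← coe_plusForm] at hA
    refine row_spin hG h2 hA hT ?_
    obtain ⟨k, hk⟩ := heven
    have h4 := four_le hG h2 (wplus l F) (by omega)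
      (exists_z_even (wplus l F) hG h2 (by omega) (k := k) (by omega) H63.Plus.V0_plus)
    have h5 : Nat.card (Multiplicative (ZMod 2 × ZMod 2)) = 4 := by
      change Nat.card (ZMod 2 × ZMod 2) = 4
      rw [Nat.card_prod, Nat.card_zmod]
    rw [h5]
    exact h4
  · have hA := H63.Plus.odd_rank h2 (l := l) (by obtain ⟨k, hk⟩ := hodd; omega) hodd
    rw [← coe_plusForm] at hA
    refine row_spin_cyc hG h2 hA hT ?_
    have h3 := H63.Plus.even_pred (F := F) h2
    by_cases h4 : 4 ∣ Nat.card F - 1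
    · rw [Nat.gcd_eq_left h4]
      obtain ⟨c, hc⟩ : IsSquare (-1 : F) := by
        rw [FiniteField.isSquare_neg_one_iff, ← Nat.card_eq_fintype_card]
        have : 0 < Nat.card F := Nat.card_pos
        omega
      obtain ⟨k, hk⟩ := hodd
      exact four_dvd hG h2 (exists_z_odd (wplus l F) hG h2 (by omega) hk H63.Plus.V0_plus hc.symm)
    · have h5 : Nat.gcd 4 (Nat.card F - 1) ∣ 2 := by
        have h6 : Nat.gcd 4 (Nat.card F - 1) ∣ 2 ^ 2 := Nat.gcd_dvd_left _ _
        obtain ⟨j, hj, hj'⟩ := (Nat.dvd_prime_pow Nat.prime_two).1 h6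
        rcases (by omega : j = 0 ∨ j = 1 ∨ j = 2) with rfl | rfl | rfl
        · rw [hj']; norm_num
        · rw [hj']; norm_num
        · exfalso
          apply h4
          have := Nat.gcd_dvd_right 4 (Nat.card F - 1)
          rw [hj'] at this
          exact this
      exact h5.trans (two_dvd hG h2 (wplus l F) (by omega))

open Classical in
/-- **`PΩ⁻_{2m+2}(q)`** -/
theorem row_minus {F : Type} [Field F] [Fintype F] (h2 : (2 : F) ≠ 0) {m : ℕ} (hm : 3 ≤ m) (a b : F)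
    (hab : ∀ z₁ z₂ : F, z₁ ^ 2 + a * z₁ * z₂ + b * z₂ ^ 2 = 0 → z₁ = 0 ∧ z₂ = 0)
    (hT : TStar (minusForm m F a b)) : RowA (Cfsg.POmega F (Cfsg.quadFormMinus m F a b)) := by
  have hG := H63.Minus.good m a b hab (by omega)
  have hA := H63.Minus.odd_char m a b hab h2 hm
  rw [← coe_minusForm] at hA ⊢
  refine row_spin_cyc hG h2 hA hT ?_
  split_ifs with h
  · obtain ⟨hme, hsq⟩ := h
    obtain ⟨k, hk⟩ := hme
    obtain ⟨s, hs0, hs⟩ := H63.Minus.exists_pair a b hab h2 hsq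
    have hQ : ∀ x y : F, minusForm m F a b (Sum.elim (fun _ => 0) ![x, y]) = x ^ 2 + a * x * y + b * y ^ 2 := by
      intro x y
      rw [coe_minusForm, quadFormMinus_apply]
      simp only [_root_.Sum.elim_inl, _root_.MulZeroClass.mul_zero, _root_.Finset.sum_const_zero, _root_.Fin.isValue, _root_.Sum.elim_inr, _root_.Matrix.cons_val_zero, _root_.Matrix.cons_val_one, _root_.Matrix.cons_val_fin_one, _root_.zero_add]
    have hP : ∀ x y z w : F, polar (minusForm m F a b) (Sum.elim (fun _ => 0) ![x, y])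
        (Sum.elim (fun _ => 0) ![z, w]) = 2 * x * z + a * (x * w + y * z) + 2 * b * y * w := by
      intro x y z w
      rw [polar_minusForm]
      simp only [_root_.Sum.elim_inl, _root_.MulZeroClass.mul_zero, _root_.add_zero, _root_.Finset.sum_const_zero, _root_.Fin.isValue, _root_.Sum.elim_inr, _root_.Matrix.cons_val_zero, _root_.Matrix.cons_val_one, _root_.Matrix.cons_val_fin_one, _root_.zero_add]
    refine four_dvd hG h2 (exists_z_minus (wminus m F a b hab) hG h2 hm (k := k) (by omega)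
      (u := Sum.elim (fun _ => 0) ![1, 0]) (v := Sum.elim (fun _ => 0) ![-a / s, 2 / s]) ?_ ?_ ?_ ?_ ?_ ?_)
    · intro j; rfl
    · intro j; rfl
    · rw [hQ]; simp
    · rw [hQ, hQ]
      field_simp
      linear_combination -hs
    · rw [hP]
      field_simp
      ring
    · intro w hw
      have hw' : ∀ j, w (Sum.inl j) = 0 := hw
      refine ⟨w (Sum.inr 0) + a * w (Sum.inr 1) / 2, s * w (Sum.inr 1) / 2, ?_⟩
      funext j
      rcases j with j | j
      · simp only [hw', _root_.Fin.isValue, _root_.Pi.add_apply, _root_.Pi.smul_apply, _root_.Sum.elim_inl, _root_.smul_eq_mul, _root_.MulZeroClass.mul_zero, _root_.add_zero]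
      · fin_cases j
        · simp only [_root_.Fin.zero_eta, _root_.Fin.isValue, _root_.Pi.add_apply, _root_.Pi.smul_apply, _root_.Sum.elim_inr, _root_.Matrix.cons_val_zero, _root_.smul_eq_mul, _root_.mul_one]
          field_simp
          ring
        · simp only [_root_.Fin.mk_one, _root_.Fin.isValue, _root_.Pi.add_apply, _root_.Pi.smul_apply, _root_.Sum.elim_inr, _root_.Matrix.cons_val_one, _root_.Matrix.cons_val_fin_one, _root_.smul_eq_mul, _root_.MulZeroClass.mul_zero, _root_.zero_add]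
          field_simp
  · exact two_dvd hG h2 (wminus m F a b hab) hm

end Cfsg.Agent.H383.QS
end

-- part: H972/QS/TStar
section
/-!
# T*, even dimension, and the rows of the even-dimensional orthogonal groups (QS, B2; helper972, helper46, helper542)
-/

set_option autoImplicit false

universe u

namespace Cfsg.Agent.H972.QS

open Cfsg.Agent.LieClassical Cfsg.Agent.LieClassical.OrthCore Cfsg.Agent.LieClassical.OrthTrans
open Cfsg.Agent.H6.QO Cfsg.Agent.H777.Ore

/-- **T*, even dimension** -/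
theorem tstar_even {κ : Type} [Fintype κ] [DecidableEq κ] {F : Type u} [Field F] [Finite F]
    {Q : QuadraticForm F (κ → F)} (hG : Good Q) (h2 : (2 : F) ≠ 0) {n : ℕ} (hn : 4 ≤ n)
    (hc : Fintype.card κ = 2 * n) : Cfsg.Agent.H383.QS.TStar Q := fun g hg =>
  Cfsg.Agent.H46.QS.tstar_even_cr hG h2 hn hc (fun hQ h => cr h2 hQ (by omega)) g hg

/-- the groups `PΩ⁺(2l, q)`, `l ≥ 4`, `q` odd -/
theorem ra_plus {F : Type u} [Field F] [Fintype F] (h2 : (2 : F) ≠ 0) {l : ℕ} (hl : 4 ≤ l) :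
    RowA (Cfsg.POmega F (Cfsg.quadFormPlus l F)) :=
  Cfsg.Agent.H383.QS.row_plus h2 hl (tstar_even (H63.Plus.good_plus F (m := l) (by omega)) h2 hl
    (by rw [Fintype.card_sum, Fintype.card_fin]; ring))

/-- the groups `PΩ⁻(2m + 2, q)`, `m ≥ 3`, `q` odd -/
theorem ra_minus {F : Type} [Field F] [Fintype F] (h2 : (2 : F) ≠ 0) {m : ℕ} (hm : 3 ≤ m) (a b : F)
    (hab : ∀ z₁ z₂ : F, z₁ ^ 2 + a * z₁ * z₂ + b * z₂ ^ 2 = 0 → z₁ = 0 ∧ z₂ = 0) :
    RowA (Cfsg.POmega F (Cfsg.quadFormMinus m F a b)) :=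
  Cfsg.Agent.H383.QS.row_minus h2 hm a b hab (tstar_even (H63.Minus.good m a b hab (by omega)) h2
    (n := m + 1) (by omega) (by rw [Fintype.card_sum, Fintype.card_sum, Fintype.card_fin, Fintype.card_fin]; ring))

end Cfsg.Agent.H972.QS
end

-- part: H347/HX/G23/Triple
section
/-!
# Every element of the triple cover `3.G₂(3)` is a commutator (helper347)

`L`: the group generated by the six involutions of `Trip` (1053 points) and of `A` (364 points); the second component is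
a surjection onto `G₂(3)` with kernel of order three.  The first member `u` of the commutators `[u, v]` of the class list
is conjugate to `u z`.
-/

set_option autoImplicit false
set_option maxRecDepth 100000

namespace Cfsg.Agent.H347.HX.G23.Triple

open Cfsg.Agent.GTwoThree Cfsg.Agent.H64.G23Abs Cfsg.Agent.H51.Mult Cfsg.Agent.H777.Ore
open scoped commutatorElement

section prod

variable {J J' : Type*} [Group J] [Group J'] {a b c d r t : J} {a' b' c' d' r' t' : J'}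

theorem relC_prod (h : RelC a b c d r t) (h' : RelC a' b' c' d' r' t') :
    RelC (a, a') (b, b') (c, c') (d, d') (r, r') (t, t') where
  a3 := Prod.ext h.a3 h'.a3
  c3 := Prod.ext h.c3 h'.c3
  b4 := Prod.ext h.b4 h'.b4
  bd2 := Prod.ext h.bd2 h'.bd2
  rr := Prod.ext h.rr h'.rr
  tt := Prod.ext h.tt h'.tt
  ad := Prod.ext h.ad h'.ad
  bc := Prod.ext h.bc h'.bc
  bd := Prod.ext h.bd h'.bd
  ab3 := Prod.ext h.ab3 h'.ab3
  cd3 := Prod.ext h.cd3 h'.cd3
  za := Prod.ext h.za h'.za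
  zc := Prod.ext h.zc h'.zc
  ra := Prod.ext h.ra h'.ra
  rb := Prod.ext h.rb h'.rb
  rc := Prod.ext h.rc h'.rc
  rd := Prod.ext h.rd h'.rd
  bt3 := Prod.ext h.bt3 h'.bt3
  te := Prod.ext h.te h'.te
  tz := Prod.ext h.tz h'.tz
  k1 := Prod.ext h.k1 h'.k1
  k2 := Prod.ext h.k2 h'.k2
  k3 := Prod.ext h.k3 h'.k3

end prod

/-- the ambient group -/
abbrev Am : Type := Equiv.Perm (Fin 1053) × A

/-- letters -/
def S (j : ℕ) : Am := (H64.G23Perm.S j, s j)

theorem ev_fst (w : List ℕ) : (ev S w).1 = H64.G23Perm.ev w := ev_map S (MonoidHom.fst _ _) w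

theorem ev_snd (w : List ℕ) : (ev S w).2 = ev s w := ev_map S (MonoidHom.snd _ _) w

theorem ev_eq (w : List ℕ) : ev S w = (H64.G23Perm.ev w, ev s w) := Prod.ext (ev_fst w) (ev_snd w)

theorem relC' : RelC (ev S [0, 1]) (ev S [0, 2]) (ev S [0, 3]) (ev S [0, 4]) (ev S [0]) (ev S [5]) := by
  simp only [ev_eq]
  exact relC_prod H64.G23Perm.relC (ofRel rel)

/-- the generators -/
abbrev gens : Set Am := {ev S [0, 1], ev S [0, 2], ev S [0, 3], ev S [0, 4], ev S [0], ev S [5]}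

/-- **The group** `3.G₂(3)` -/
abbrev L : Subgroup Am := Subgroup.closure gens

theorem mem_a : ev S [0, 1] ∈ L := Subgroup.subset_closure (by simp [gens])
theorem mem_b : ev S [0, 2] ∈ L := Subgroup.subset_closure (by simp [gens])
theorem mem_c : ev S [0, 3] ∈ L := Subgroup.subset_closure (by simp [gens])
theorem mem_d : ev S [0, 4] ∈ L := Subgroup.subset_closure (by simp [gens])
theorem mem_r : ev S [0] ∈ L := Subgroup.subset_closure (by simp [gens])
theorem mem_t : ev S [5] ∈ L := Subgroup.subset_closure (by simp [gens])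

theorem relC_lift : RelC (⟨_, mem_a⟩ : L) ⟨_, mem_b⟩ ⟨_, mem_c⟩ ⟨_, mem_d⟩ ⟨_, mem_r⟩ ⟨_, mem_t⟩ where
  a3 := Subtype.ext relC'.a3
  c3 := Subtype.ext relC'.c3
  b4 := Subtype.ext relC'.b4
  bd2 := Subtype.ext relC'.bd2
  rr := Subtype.ext relC'.rr
  tt := Subtype.ext relC'.tt
  ad := Subtype.ext relC'.ad
  bc := Subtype.ext relC'.bc
  bd := Subtype.ext relC'.bd
  ab3 := Subtype.ext relC'.ab3
  cd3 := Subtype.ext relC'.cd3
  za := Subtype.ext relC'.za
  zc := Subtype.ext relC'.zc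
  ra := Subtype.ext relC'.ra
  rb := Subtype.ext relC'.rb
  rc := Subtype.ext relC'.rc
  rd := Subtype.ext relC'.rd
  bt3 := Subtype.ext relC'.bt3
  te := Subtype.ext relC'.te
  tz := Subtype.ext relC'.tz
  k1 := Subtype.ext relC'.k1
  k2 := Subtype.ext relC'.k2
  k3 := Subtype.ext relC'.k3

theorem closure_lift : Subgroup.closure {(⟨_, mem_a⟩ : L), ⟨_, mem_b⟩, ⟨_, mem_c⟩, ⟨_, mem_d⟩, ⟨_, mem_r⟩,
    ⟨_, mem_t⟩} = ⊤ := by
  have h1 := Subgroup.closure_closure_coe_preimage (k := gens)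
  have h2 : (Subtype.val : L → Am) ⁻¹' gens = {(⟨_, mem_a⟩ : L), ⟨_, mem_b⟩, ⟨_, mem_c⟩,
      ⟨_, mem_d⟩, ⟨_, mem_r⟩, ⟨_, mem_t⟩} := by
    ext x
    simp only [gens, Set.mem_preimage, Set.mem_insert_iff, Set.mem_singleton_iff, Subtype.ext_iff]
  rw [← h2]
  exact h1

/-- the projection to `G₂(3)` -/
def ψ : L →* A := (MonoidHom.snd _ _).comp L.subtype

theorem ψ_surj : Function.Surjective ψ := by
  rw [← MonoidHom.range_eq_top, eq_top_iff, ← iso.1, Subgroup.closure_le]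
  rintro x (rfl | rfl | rfl | rfl | rfl | rfl)
  · exact ⟨⟨_, mem_a⟩, ev_snd _⟩
  · exact ⟨⟨_, mem_b⟩, ev_snd _⟩
  · exact ⟨⟨_, mem_c⟩, ev_snd _⟩
  · exact ⟨⟨_, mem_d⟩, ev_snd _⟩
  · exact ⟨⟨_, mem_r⟩, ev_snd _⟩
  · exact ⟨⟨_, mem_t⟩, ev_snd _⟩

theorem fst_mem (x : L) : (x : Am).1 ∈ H64.G23Perm.Trip := by
  have h1 : L ≤ (H64.G23Perm.Trip).comap (MonoidHom.fst _ _) := by
    rw [Subgroup.closure_le]
    rintro x (rfl | rfl | rfl | rfl | rfl | rfl)
    · refine Subgroup.mem_comap.2 ?_; rw [MonoidHom.coe_fst, ev_fst]; exact H64.G23Perm.mem_a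
    · refine Subgroup.mem_comap.2 ?_; rw [MonoidHom.coe_fst, ev_fst]; exact H64.G23Perm.mem_b
    · refine Subgroup.mem_comap.2 ?_; rw [MonoidHom.coe_fst, ev_fst]; exact H64.G23Perm.mem_c
    · refine Subgroup.mem_comap.2 ?_; rw [MonoidHom.coe_fst, ev_fst]; exact H64.G23Perm.mem_d
    · refine Subgroup.mem_comap.2 ?_; rw [MonoidHom.coe_fst, ev_fst]; exact H64.G23Perm.mem_r
    · refine Subgroup.mem_comap.2 ?_; rw [MonoidHom.coe_fst, ev_fst]; exact H64.G23Perm.mem_t
  exact h1 x.2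

/-- the central element -/
def z : L := ⁅(⟨_, mem_a⟩ : L), ⟨_, mem_c⟩⁆

theorem z_fst : (z : Am).1 = ⁅H64.G23Perm.ev [0, 1], H64.G23Perm.ev [0, 3]⁆ := by
  show ⁅(ev S [0, 1]).1, (ev S [0, 3]).1⁆ = _
  rw [ev_fst, ev_fst]

theorem z_snd : (z : Am).2 = 1 := by
  show ⁅(ev S [0, 1]).2, (ev S [0, 3]).2⁆ = _
  rw [ev_snd, ev_snd, commutatorElement_eq_one_iff_mul_comm]
  exact rel.ac

theorem z_center : z ∈ Subgroup.center L := by
  rw [Subgroup.mem_center_iff]
  intro g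
  apply Subtype.ext
  refine Prod.ext ?_ ?_
  · show (g : Am).1 * (z : Am).1 = (z : Am).1 * (g : Am).1
    rw [z_fst]
    exact H64.G23Perm.comm_center _ (fst_mem g)
  · show (g : Am).2 * (z : Am).2 = (z : Am).2 * (g : Am).2
    rw [z_snd, mul_one, one_mul]

theorem z_ne : z ≠ 1 := by
  intro h
  apply H64.G23Perm.comm_ne
  rw [← z_fst, h]
  rfl

theorem exists_pi : ∃ π : L →* ↥(Lie.chevG2.group (ZMod 3)), PCE π ∧ 3 ∣ Nat.card π.ker := by
  obtain ⟨a', b', c', d', r', t', h', ha', hgen'⟩ := Model.model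
  have hsimp : IsSimpleGroup ↥(Lie.chevG2.group (ZMod 3)) := H845.GTwoIso.isSimple_chev
  exact exists_pce relC_lift closure_lift z_center z_ne h' ha' hgen'

/-- the multiplier of `G₂(3)` has order three -/
theorem card_ker_dvd {D : Type} [Group D] [Finite D] {π : D →* ↥(Lie.chevG2.group (ZMod 3))} (h : PCE π) :
    Nat.card π.ker ∣ 3 := by
  refine (bound (n := 3) (by norm_num) (fun r hr => ?_) h).2
  by_cases h3 : r = 3
  · subst h3
    rw [hr.factorization_self]
    exact Cfsg.Agent.H64.G23Upper.bd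
  · exact (NoCov.bd hr (Cfsg.Agent.H64.CrossChev.noCov_G2 (ZMod 3) 3 hr h3)).mono (Nat.zero_le _)

theorem card_L : Nat.card L = 3 * 4245696 := by
  obtain ⟨π, h1, h2⟩ := exists_pi
  have h3 : Nat.card π.ker = 3 := Nat.dvd_antisymm (card_ker_dvd h1) h2
  have h4 := Subgroup.card_eq_card_quotient_mul_card_subgroup π.ker
  rw [h3, Nat.card_congr (QuotientGroup.quotientKerEquivOfSurjective π h1.surj).toEquiv,
    H845.GTwoIso.card_chev] at h4
  rw [h4]

theorem card_ker : Nat.card ψ.ker = 3 := by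
  have h4 := Subgroup.card_eq_card_quotient_mul_card_subgroup ψ.ker
  rw [Nat.card_congr (QuotientGroup.quotientKerEquivOfSurjective ψ ψ_surj).toEquiv, card_A, card_L] at h4
  omega

theorem ker_eq {w : L} (hw : w ∈ ψ.ker) (h1 : w ≠ 1) : Subgroup.zpowers w = ψ.ker := by
  have : Fact (Nat.Prime 3) := ⟨by norm_num⟩
  have hle : Subgroup.zpowers w ≤ ψ.ker := by rwa [Subgroup.zpowers_le]
  apply Subgroup.eq_of_le_of_card_ge hle
  rw [card_ker]
  have h2 : Nat.card (Subgroup.zpowers w) ∣ 3 := by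
    rw [← card_ker]
    exact Subgroup.card_dvd_of_le hle
  rcases (Nat.dvd_prime (by norm_num)).1 h2 with h3 | h3
  · exfalso
    apply h1
    rw [Subgroup.card_eq_one, Subgroup.zpowers_eq_bot] at h3
    exact h3
  · omega

theorem ker_le : ψ.ker ≤ Subgroup.center L := by
  rw [← ker_eq (w := z) z_snd z_ne, Subgroup.zpowers_le]
  exact z_center

/-- a conjugating word: `c u c⁻¹ = u w` with `1 ≠ w` central -/
def wc : List ℕ := [3, 0]

theorem mem_ev (w : List ℕ) (hw : ∀ j ∈ w, j < 6) : ev S w ∈ L := by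
  have h0 : ∀ j < 6, S j ∈ L := by
    have e0 : S 0 ∈ L := by simpa [ev] using mem_r
    have key : ∀ j, ev S [0, j] ∈ L → S j ∈ L := by
      intro j hj
      rw [ev_cons, ev_cons, ev_nil, mul_one] at hj
      exact (Subgroup.mul_mem_cancel_left _ e0).1 hj
    intro j hj
    interval_cases j
    · exact e0
    · exact key 1 mem_a
    · exact key 2 mem_b
    · exact key 3 mem_c
    · exact key 4 mem_d
    · simpa only [ev, _root_.List.map_cons, _root_.List.map_nil, _root_.List.prod_cons, _root_.List.prod_nil, _root_.mul_one] using mem_t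
  induction w with
  | nil => rw [ev_nil]; exact one_mem _
  | cons l w ih =>
    rw [ev_cons]
    exact mul_mem (h0 l (hw l (by simp))) (ih fun j hj => hw j (by simp [hj]))

/-- the first member of the commutators -/
def u : L := ⟨ev S wu, mem_ev _ (by decide)⟩

/-- the conjugating element -/
def c : L := ⟨ev S wc, mem_ev _ (by decide)⟩

theorem comm_snd : ψ (c * u) = ψ (u * c) := by
  show (ev S wc).2 * (ev S wu).2 = (ev S wu).2 * (ev S wc).2
  rw [ev_snd, ev_snd, mulw, mulw]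
  exact key (by decide +kernel)

theorem comm_fst : c * u ≠ u * c := by
  intro h
  have h1 : (ev S wc).1 * (ev S wu).1 = (ev S wu).1 * (ev S wc).1 := congrArg (fun x : L => (x : Am).1) h
  rw [ev_fst, ev_fst, H64.G23Perm.mulw, H64.G23Perm.mulw] at h1
  have h2 := congrArg (fun x : Equiv.Perm (Fin 1053) => (x 0 : ℕ)) h1
  rw [H64.G23Perm.ev_val, H64.G23Perm.ev_val] at h2
  revert h2
  decide +kernel

/-- the central element moved by `c` -/
def w : L := u⁻¹ * (c * u * c⁻¹)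

theorem w_ker : w ∈ ψ.ker := by
  rw [MonoidHom.mem_ker, w, map_mul, map_mul, comm_snd, map_mul, map_inv, map_inv]
  group

theorem w_ne : w ≠ 1 := by
  intro h
  apply comm_fst
  have h1 : c * u * c⁻¹ = u := by
    have := congrArg (fun x => u * x) h
    simpa only [w, mul_assoc, _root_.mul_inv_cancel_left, _root_.mul_one] using this
  exact (mul_inv_eq_iff_eq_mul.1 h1)

theorem exists_conj {k : L} (hk : k ∈ ψ.ker) : ∃ d : L, d * u * d⁻¹ = u * k := by
  rw [← ker_eq w_ker w_ne, Subgroup.mem_zpowers_iff] at hk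
  obtain ⟨n, rfl⟩ := hk
  have hw : ∀ x : L, x * w = w * x := Subgroup.mem_center_iff.1 (ker_le w_ker)
  have h1 : c * u * c⁻¹ = u * w := by unfold w; group
  refine ⟨c ^ n, ?_⟩
  have hnat : ∀ m : ℕ, c ^ m * u * (c ^ m)⁻¹ = u * w ^ m := by
    intro m
    induction m with
    | zero => simp
    | succ m ih =>
      have e : c ^ (m + 1) * u * (c ^ (m + 1))⁻¹ = c * (c ^ m * u * (c ^ m)⁻¹) * c⁻¹ := by
        rw [pow_succ']; group
      rw [e, ih]
      have e2 : c * (u * w ^ m) * c⁻¹ = (c * u * c⁻¹) * w ^ m := by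
        have h3 : Commute c (w ^ m) := (show Commute c w from hw c).pow_right m
        calc c * (u * w ^ m) * c⁻¹ = c * u * (w ^ m * c⁻¹) := by group
          _ = c * u * (c⁻¹ * w ^ m) := by rw [(h3.inv_left).eq]
          _ = _ := by group
      rw [e2, h1, pow_succ', mul_assoc]
  rcases n with m | m
  · simpa only [_root_.Int.ofNat_eq_natCast, _root_.zpow_natCast] using hnat m
  · have h2 := hnat (m + 1)
    have hcw : Commute (c ^ (m + 1)) (w ^ (m + 1)) := ((show Commute c w from hw c).pow_pow _ _)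
    rw [zpow_negSucc, zpow_negSucc, inv_inv]
    have h3 : u = (c ^ (m + 1))⁻¹ * (u * w ^ (m + 1)) * c ^ (m + 1) := by
      rw [← h2]; group
    have h4 : (c ^ (m + 1))⁻¹ * (u * w ^ (m + 1)) * c ^ (m + 1) =
        (c ^ (m + 1))⁻¹ * u * c ^ (m + 1) * w ^ (m + 1) := by
      rw [mul_assoc, mul_assoc, ← hcw.eq]; group
    rw [h4] at h3
    rw [eq_mul_inv_iff_mul_eq]
    exact h3.symm

/-- **Every element of `3.G₂(3)` is a commutator** -/
theorem allC : AllC L := by
  intro g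
  obtain ⟨v, hv, hc⟩ := classes (ψ g)
  obtain ⟨d, hd⟩ := isConj_iff.1 hc
  obtain ⟨d', rfl⟩ := ψ_surj d
  obtain ⟨v', hv'⟩ := ψ_surj (ev s v)
  have hu : ψ u = ev s wu := ev_snd wu
  -- `g = d' [u, v'] d'⁻¹ k`
  set k := (d' * (u * v' * u⁻¹ * v'⁻¹) * d'⁻¹)⁻¹ * g with hkdef
  have hk : k ∈ ψ.ker := by
    rw [MonoidHom.mem_ker, hkdef]
    simp only [map_mul, map_inv, hu, hv']
    rw [← wr_eq, hd, inv_mul_cancel]
  have hkc : ∀ x : L, x * k = k * x := Subgroup.mem_center_iff.1 (ker_le hk)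
  have hkc' : ∀ x : L, x * k⁻¹ = k⁻¹ * x := Subgroup.mem_center_iff.1 (ker_le (inv_mem hk))
  obtain ⟨e, he⟩ := exists_conj (inv_mem hk)
  have h1 : IsC (u * v' * u⁻¹ * v'⁻¹ * k) := by
    refine ⟨u, v' * e, ?_⟩
    have h2 : e * u⁻¹ * e⁻¹ = u⁻¹ * k := by
      have h3 : e * u⁻¹ * e⁻¹ = (e * u * e⁻¹)⁻¹ := by group
      rw [h3, he, mul_inv_rev, inv_inv, hkc]
    calc u * v' * u⁻¹ * v'⁻¹ * k = u * v' * u⁻¹ * (v'⁻¹ * k) := by group
      _ = u * v' * u⁻¹ * (k * v'⁻¹) := by rw [hkc]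
      _ = u * v' * (u⁻¹ * k) * v'⁻¹ := by group
      _ = u * v' * (e * u⁻¹ * e⁻¹) * v'⁻¹ := by rw [h2]
      _ = u * (v' * e) * u⁻¹ * (v' * e)⁻¹ := by group
  have h5 : g = d' * (u * v' * u⁻¹ * v'⁻¹ * k) * d'⁻¹ := by
    have h6 : g = d' * (u * v' * u⁻¹ * v'⁻¹) * d'⁻¹ * k := by rw [hkdef]; group
    rw [h6]
    calc d' * (u * v' * u⁻¹ * v'⁻¹) * d'⁻¹ * k = d' * (u * v' * u⁻¹ * v'⁻¹) * (d'⁻¹ * k) := by group
      _ = d' * (u * v' * u⁻¹ * v'⁻¹) * (k * d'⁻¹) := by rw [hkc]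
      _ = _ := by group
  rw [h5]
  exact h1.conj d'

/-- **The universal cover of `G₂(3)`**: kernel of order three, every element is a commutator -/
theorem univ : ∃ π : L →* ↥(Lie.chevG2.group (ZMod 3)), PCE π ∧ Nat.card π.ker = 3 ∧ AllC L := by
  obtain ⟨π, h1, h2⟩ := exists_pi
  exact ⟨π, h1, Nat.dvd_antisymm (card_ker_dvd h1) h2, allC⟩

end Cfsg.Agent.H347.HX.G23.Triple
end

-- part: H347/HX/G23/Row
section
/-!
# S2491, S2492, piece D5: the row `G₂(3)` (helper347)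
-/

set_option autoImplicit false

namespace Cfsg.Agent.H347.HX.G23

open Cfsg.Agent.H6.QO Cfsg.Agent.H51.Mult

theorem rowA_zmod : RowA ↥(Lie.chevG2.group (ZMod 3)) := by
  obtain ⟨π, h1, h2, h3⟩ := Triple.univ
  exact RowA.of_univ (S2101.result (F := ZMod 3) (ZMod.card 3)) h1 (by rw [h2]; simp [Nat.card_zmod]) h3

/-- **The row `G₂(3)`** -/
theorem rowA {F : Type} [Field F] [Fintype F] (hF : Fintype.card F = 3) : RowA ↥(Lie.chevG2.group F) := by
  classical
  have σ : ZMod 3 ≃+* F := FiniteField.ringEquivOfCardEq (by rw [ZMod.card, hF])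
  exact rowA_zmod.congr (ChevalleyStructure.FieldIso.groupEquiv Lie.chevG2 σ)

end Cfsg.Agent.H347.HX.G23
end

private theorem dce_134e7d32be70 : _root_.True := by
  try have : _root_.True := by simp only [_root_.Cfsg.Agent.H63.Spin.spi.congr_simp]
  try have : _root_.True := by simp only [_root_.Cfsg.Agent.H347.HX.ev.eq_1]
  try have : _root_.True := by simp only [_root_.Cfsg.Agent.H347.HX.G23.Triple.w.eq_1]
  exact _root_.True.intro
end

-- part: H231/QS/TwCen
section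
prune_inst 0x4c500246500400200001c0504602000855d00019000200000c84408400000a322208181410400110a120aaa0100050028111000f042000000080400000000000008080204b048001104008800000c010000100800000000000000000000010004010000000
set_option linter.all false
open scoped Cfsg.Agent.FastGrp

-- part: H231/QS/Tw
section
/-!
Central extensions of `²E₆(q)` by 3-groups, `q ≡ 2 mod 3` (S2491, S2492, piece C4).

* `lo_g`, `up_g`, `g_LJ` : the block in the cover;
* `real` : the reality in the cover;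
* `noncentral` : every element outside the kernel is a commutator.
-/

set_option autoImplicit false
set_option linter.unusedSectionVars false

namespace Cfsg.Agent.H231.QS.Tw

open CoxeterSystem Cfsg.Agent.ChevalleyStructure.CoxeterGeom Cfsg.Agent.Tits.Roots Cfsg.Agent.Tits.Core
  Cfsg.Agent.Nodes Cfsg.Agent.Nodes.Reps Cfsg.Agent.Nodes.BNOf Cfsg.Agent.Nodes.RGDLib Cfsg.Agent.Nodes.Bruhat
  Cfsg.Agent.Nodes.OppDec Cfsg.Agent.Nodes.LeviDec Cfsg.Agent.Nodes.StabComb Cfsg.Agent.Nodes.KindChev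
  Cfsg.Agent.Nodes.ChevCls Cfsg.Agent.Nodes.RGDLift
  Cfsg.Agent.OddHalf.NI.ModelChev
  Cfsg.Agent.H162.GaussDec Cfsg.Agent.H162.GaussLevi Cfsg.Agent.H162.GaussSL Cfsg.Agent.H162.GaussReg
  Cfsg.Agent.H928.Ore.Frame Cfsg.Agent.H928.Ore.Fix Cfsg.Agent.H928.Ore.Block Cfsg.Agent.H928.Ore.TwE
  Cfsg.Agent.H928.Ore.TwS Cfsg.Agent.H928.Ore.TwF Cfsg.Agent.H928.Ore.TwN Cfsg.Agent.H928.Ore.TwRow
open Cfsg.Lie Cfsg.Agent.ChevalleyStructure Cfsg.Agent.ChevalleyStructure.Elts
  Cfsg.Agent.ChevalleyStructure.NPerm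
  Cfsg.Agent.ChevalleyStructure.CoxeterGeomTypes Cfsg.Agent.Nodes.RGDChev Cfsg.Agent.KFacts.RgdChevCoord
open Cfsg.Agent.Nodes.RGDTwGen Cfsg.Agent.Nodes.RGDFold Cfsg.Agent.Nodes.RGDTwE6
open Cfsg.Agent.Nodes.RGDFoldSL (Fx mem_Fx)
open Cfsg.Agent.H162.GaussExcMain (r6 rt6 exists_hom_D w6)
open Cfsg.Agent.H162.GaussPQ (tv_mem_UT tv_mem_LT)
open Cfsg.Agent.H335.Sr
open Cfsg.Agent.H194.Ore (M3)
open Cfsg.Agent.H231.QS.Lift

universe u

section

variable {K : Type u} [Field K] [Fintype K] {φ : K →+* K} {q : ℕ} (hφ : ∀ t, φ t = t ^ q)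
  (hqq : ∀ t : K, (t ^ q) ^ q = t)
  {P : Matrix.SpecialLinearGroup (Fin 3) K →* ↥(chevE6.group K)}
  (hP : ∀ a b (hab : a ≠ b) c, P (Matrix.SpecialLinearGroup.transvection hab c) =
      xc RGDTwE6.hp (vec chevE6 6 (r6 a b)) (((1 : ℤ) : K) * c))
  {f : Matrix.SpecialLinearGroup (Fin 3) (Fx φ 1) →* ↥(twistedE6 K q)}
  (hf : ∀ A, inc K q (f A) = P (Matrix.SpecialLinearGroup.map (Fx φ 1).subtype A))
  {E : Type*} [Group E] [Finite E] {π : E →* ↥(twistedE6 K q)} {p : ℕ} [Fact p.Prime] (h0 : (p : K) = 0)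
  (hc : π.ker ≤ Subgroup.center E) (hk : (Nat.card π.ker).Coprime p)
  {g : Matrix.SpecialLinearGroup (Fin 3) (Fx φ 1) →* E} (hg : ∀ A, π (g A) = f A)
  {W : Type*} [Group W] (cs : CoxeterSystem CoxeterMatrix.F₄ W)

include h0 in
omit [Fintype K] in
theorem cast_zero : ((p : ℕ) : Fx φ 1) = 0 := Subtype.ext (by
  rw [Subring.coe_natCast, ZeroMemClass.coe_zero]
  exact h0)

include hφ hqq hP hf h0 hc hk hg

/-- the lifted root groups of the block -/
theorem lft_eq_g {z : Fin 4 → ℤ} (hz : IsRoot cs RGDTwE6.isCartan z) (h2 : ∀ k, k ∉ JR → z k = 0) :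
    ∃ a b : Fin 3, ∃ hab : a ≠ b, (a < b → ∃ k, 0 < z k) ∧ (b < a → ∃ k, z k < 0) ∧
      ∀ y ∈ lft p π (RGDTwE6.X φ q z), ∃ c : Fx φ 1, y = g (Matrix.SpecialLinearGroup.transvection hab c) := by
  obtain ⟨a, b, hab, h3, h4, h5⟩ := X_eq_f hφ hqq hP hf cs hz h2
  refine ⟨a, b, hab, h3, h4, fun y hy => ?_⟩
  have hp' : IsPGroup p ↥(RGDTwE6.X φ q z : Subgroup ↥(twistedE6 K q)) := by
    rintro ⟨x, hx⟩
    obtain ⟨c, rfl⟩ := h5 x hx
    refine ⟨1, Subtype.ext ?_⟩
    change (f (Matrix.SpecialLinearGroup.transvection hab c)) ^ p ^ 1 = 1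
    rw [pow_one, ← map_pow, tv_pow ((cast_zero h0 :)), map_one]
  obtain ⟨h6, k, h7⟩ := (mem_lft hc hp').1 hy
  obtain ⟨c, hc'⟩ := h5 _ h6
  refine ⟨c, eq_of_pow hc hk (by rw [hc', hg]) h7 (l := 1) ?_⟩
  rw [pow_one, ← map_pow, tv_pow ((cast_zero h0 :)), map_one]

theorem up_g : UJ cs RGDTwE6.isCartan (fun x => lft p π (RGDTwE6.X φ q x)) JR ≤ (UT 3 (Fx φ 1)).map g := by
  refine RGD.Sup_le fun z hz => ?_
  obtain ⟨a, b, hab, -, h2, h3⟩ := lft_eq_g hφ hqq hP hf h0 hc hk hg cs hz.1 hz.2.2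
  have hlt : a < b := by
    rcases lt_or_gt_of_ne hab with h | h
    · exact h
    · obtain ⟨k, hk⟩ := h2 h
      exact absurd (hz.2.1 k) (not_le.2 hk)
  intro y hy
  obtain ⟨c, rfl⟩ := h3 y hy
  exact ⟨_, tv_mem_UT hab hlt _, rfl⟩

theorem lo_g : UNJ cs RGDTwE6.isCartan (fun x => lft p π (RGDTwE6.X φ q x)) JR ≤ (_root_.Cfsg.Agent.H162.GaussSL.LT 3 (Fx φ 1)).map g := by
  refine RGD.Sup_le fun z hz => ?_
  have hz' : IsRoot cs RGDTwE6.isCartan z := by
    have := hz.1.neg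
    rwa [_root_.neg_neg] at this
  obtain ⟨a, b, hab, h1, -, h3⟩ := lft_eq_g hφ hqq hP hf h0 hc hk hg cs hz' (fun k hk => by
    have := hz.2.2 k hk
    simpa using this)
  have hlt : b < a := by
    rcases lt_or_gt_of_ne hab with h | h
    · obtain ⟨k, hk⟩ := h1 h
      have h3 : 0 ≤ - z k := hz.2.1 k
      omega
    · exact h
  intro y hy
  obtain ⟨c, rfl⟩ := h3 y hy
  exact ⟨_, tv_mem_LT hab hlt _, rfl⟩

omit hk hc in
theorem g_LJ (A : Matrix.SpecialLinearGroup (Fin 3) (Fx φ 1)) :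
    g A ∈ LJ cs RGDTwE6.isCartan ((T K q).comap π) (fun x => lft p π (RGDTwE6.X φ q x)) JR := by
  have h1 : (⊤ : Subgroup (Matrix.SpecialLinearGroup (Fin 3) (Fx φ 1))) ≤
      (LJ cs RGDTwE6.isCartan ((T K q).comap π) (fun x => lft p π (RGDTwE6.X φ q x)) JR).comap g := by
    rw [← Cfsg.Agent.LieClassical.SLGen.closure_transvections, Subgroup.closure_le]
    rintro _ ⟨a, b, hab, c, rfl⟩
    change g _ ∈ LJ cs RGDTwE6.isCartan ((T K q).comap π) (fun x => lft p π (RGDTwE6.X φ q x)) JR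
    refine X_le_LJ (X := fun x => lft p π (RGDTwE6.X φ q x)) (J := JR) (x := V chevE6 J (r6 a b))
      ⟨RGDTwComE6.isRoot_V (rlt a b hab), fun k hk => ?_⟩ ?_
    · have hk' : k = 2 ∨ k = 3 := by
        have h : ∀ k : Fin 4, ¬ (k = 0 ∨ k = 1) → k = 2 ∨ k = 3 := by decide
        exact h k hk
      rcases hk' with rfl | rfl
      · exact (V_r6 a b hab).1
      · exact (V_r6 a b hab).2
    · refine Subgroup.subset_closure ⟨?_, 1, ?_⟩
      · rw [hg]
        exact f_X hφ hqq hP hf hab c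
      · rw [pow_one, ← map_pow, tv_pow ((cast_zero h0 :)), map_one]
  exact h1 (Subgroup.mem_top A)

end

section

variable {K : Type u} [Field K] [Fintype K] {φ : K →+* K} {q : ℕ} (hφ : ∀ t, φ t = t ^ q)
  (hqq : ∀ t : K, (t ^ q) ^ q = t)
  {P : Matrix.SpecialLinearGroup (Fin 3) K →* ↥(chevE6.group K)}
  (hP : ∀ a b (hab : a ≠ b) c, P (Matrix.SpecialLinearGroup.transvection hab c) =
      xc RGDTwE6.hp (vec chevE6 6 (r6 a b)) (((1 : ℤ) : K) * c))
  {f : Matrix.SpecialLinearGroup (Fin 3) (Fx φ 1) →* ↥(twistedE6 K q)}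
  (hf : ∀ A, inc K q (f A) = P (Matrix.SpecialLinearGroup.map (Fx φ 1).subtype A))
  {l : Kˣ} {s : ↥(twistedE6 K q)} (hs : inc K q s = s0 l)
  {E : Type*} [Group E] [Finite E] {π : E →* ↥(twistedE6 K q)} (hsur : Function.Surjective π)
  (hc : π.ker ≤ Subgroup.center E) (h3 : IsPGroup 3 π.ker)
  {g : Matrix.SpecialLinearGroup (Fin 3) (Fx φ 1) →* E} (hg : ∀ A, π (g A) = f A) {s' : E} (hs' : π s' = s)

include hc hg

omit [Fintype K] [Finite E] in
/-- conjugation -/
theorem conj_g {y : E} {τ : Matrix.SpecialLinearGroup (Fin 3) (Fx φ 1) →* Matrix.SpecialLinearGroup (Fin 3) (Fx φ 1)}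
    (h : ∀ A, π y * f A * (π y)⁻¹ = f (τ A)) (A : Matrix.SpecialLinearGroup (Fin 3) (Fx φ 1)) :
    y * g A * y⁻¹ = g (τ A) := by
  have h1 : (MulAut.conj y).toMonoidHom.comp g = g.comp τ := by
    refine hom_eq (Cfsg.Agent.S0248.result 3 le_rfl) hc fun A => ?_
    change π (y * g A * y⁻¹) = π (g (τ A))
    rw [map_mul, map_mul, map_inv, hg, hg, h]
  exact DFunLike.congr_fun h1 A

include hP hf hs hs'

omit [Finite E] in
theorem s_comm_g (A : Matrix.SpecialLinearGroup (Fin 3) (Fx φ 1)) : s' * g A = g A * s' := by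
  have h1 := conj_g hc hg (y := s') (τ := MonoidHom.id _) (fun A => by
    rw [hs', s_comm hP hf hs A]
    change f A * s * s⁻¹ = f A
    group) A
  change s' * g A * s'⁻¹ = g A at h1
  calc s' * g A = (s' * g A * s'⁻¹) * s' := by group
    _ = _ := by rw [h1]

include hφ hqq hsur h3

/-- the reality in the cover -/
theorem real (hZ : Subgroup.center ↥(chevE6.group K) = ⊥) {X : Matrix.SpecialLinearGroup (Fin 3) (Fx φ 1)}
    (hX : Irreducible (X : Matrix (Fin 3) (Fin 3) (Fx φ 1)).charpoly) :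
    ∃ y : E, y * s' * y⁻¹ = s' ∧ y * g X * y⁻¹ = (g X)⁻¹ := by
  obtain ⟨z, Z⟩ := exists_z hφ hqq hZ
  obtain ⟨d, hd, hz⟩ := z_f hP hf Z
  obtain ⟨H, hH, hXH, hdet⟩ := exists_symm X.1 hX (∏ a, d a)
  obtain ⟨S, g1, g2⟩ := exists_S hd X hH hXH hdet
  have hzz : z * z = 1 := by
    apply inc_injective q
    rw [map_mul, map_one]
    exact Z.sq
  have hzs : z * s * z⁻¹ = s := by
    apply inc_injective q
    rw [map_mul, map_mul, map_inv, hs]
    exact z_s0 Z l
  obtain ⟨z', hz'⟩ := hsur z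
  have h4 := conj_g hc hg (y := z') (τ := tau d hd) (fun A => by rw [hz']; exact hz A)
  -- `z' s' z'⁻¹ = s'`
  have h5 : z' * s' * z'⁻¹ = s' := by
    obtain ⟨ζ, hζ⟩ : ∃ ζ, ζ = s'⁻¹ * (z' * s' * z'⁻¹) := ⟨_, rfl⟩
    have hζ1 : π ζ = 1 := by
      rw [hζ, map_mul, map_inv, map_mul, map_mul, map_inv, hz', hs', hzs, inv_mul_cancel]
    have hζc : ∀ x, x * ζ = ζ * x := Subgroup.mem_center_iff.1 (hc hζ1)
    have e1 : z' * s' * z'⁻¹ = s' * ζ := by rw [hζ]; group
    have hz2 : ∀ x, x * (z' * z') = z' * z' * x := Subgroup.mem_center_iff.1 (hc (by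
      rw [MonoidHom.mem_ker, map_mul, hz', hzz]))
    have e2 : s' = s' * (ζ * ζ) := by
      calc s' = (s' * (z' * z')) * (z' * z')⁻¹ := by group
        _ = z' * (z' * s' * z'⁻¹) * z'⁻¹ := by rw [hz2]; group
        _ = z' * s' * (ζ * z'⁻¹) := by rw [e1]; group
        _ = z' * s' * z'⁻¹ * ζ := by rw [← hζc]; group
        _ = s' * (ζ * ζ) := by rw [e1]; group
    have e3 : ζ * ζ = 1 := (left_eq_mul.1 e2)
    obtain ⟨k, hk⟩ := h3 ⟨ζ, hζ1⟩
    have hk' : ζ ^ 3 ^ k = 1 := by simpa only [_root_.SubmonoidClass.coe_pow, _root_.OneMemClass.coe_one] using congrArg Subtype.val hk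
    have e4 : ζ ^ 2 = 1 := by rw [pow_two]; exact e3
    have hcp : (2 : ℕ).Coprime (3 ^ k) := Nat.Coprime.pow_right k (by norm_num)
    have e5 : orderOf ζ ∣ 1 := by
      rw [← hcp]
      exact Nat.dvd_gcd (orderOf_dvd_of_pow_eq_one e4) (orderOf_dvd_of_pow_eq_one hk')
    have e6 : ζ = 1 := orderOf_eq_one_iff.1 (Nat.dvd_one.1 e5)
    rw [e1, e6, mul_one]
  have hsg := s_comm_g hP hf hs hc hg hs'
  refine ⟨z' * g S, ?_, ?_⟩
  · calc (z' * g S) * s' * (z' * g S)⁻¹ = z' * (g S * s') * (g S)⁻¹ * z'⁻¹ := by group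
      _ = z' * s' * z'⁻¹ := by rw [← hsg]; group
      _ = s' := h5
  · have h6 := h4 (S * X * S⁻¹)
    rw [g2, map_inv, map_mul, map_mul, map_inv] at h6
    rw [← h6]
    group

end

/-- **Elements outside the kernel.** -/
theorem noncentral {K : Type u} [Field K] [Fintype K] {q : ℕ} (hq : IsPrimePow q) (hK : Fintype.card K = q ^ 2)
    (h23 : q % 3 = 2) (hm3 : ∀ φ : K →+* K, (∀ t, φ t = t ^ q) → M3 (Fx φ 1))
    {E : Type*} [Group E] [Finite E] {π : E →* ↥(twistedE6 K q)} (hsur : Function.Surjective π)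
    (hc : π.ker ≤ Subgroup.center E) (h3 : IsPGroup 3 π.ker) (hE : commutator E = ⊤) {x : E} (hx : x ∉ π.ker) :
    ∃ a b : E, x = a * b * a⁻¹ * b⁻¹ := by
  obtain ⟨φ, hφ, hqq⟩ := TwE6Basic.exists_frob hq hK
  obtain ⟨p, hpc⟩ := CharP.exists K
  have : Fact p.Prime := ⟨(CharP.char_is_prime_or_zero K p).resolve_right (CharP.char_ne_zero_of_finite K p)⟩
  have : Fact (Nat.Prime 3) := ⟨Nat.prime_three⟩
  have h0 : (p : K) = 0 := CharP.cast_eq_zero K p
  have hp3 : p ≠ 3 := by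
    rintro rfl
    have h1 : 3 ∣ Fintype.card K := by
      rw [← CharP.cast_eq_zero_iff K 3]
      exact Nat.cast_card_eq_zero K
    rw [hK] at h1
    have h2 := Nat.prime_three.dvd_of_dvd_pow h1
    omega
  have hfin : Finite (GL chevE6.Idx K) := by
    have : Finite (Matrix chevE6.Idx chevE6.Idx K) := inferInstance
    infer_instance
  have : Finite ↥(twistedE6 K q) := inferInstance
  have hZ := Cfsg.Agent.Nodes.ChevChart.center_eq_bot (Cfsg.Agent.S1054.result (F := K) chevE6 (by simp))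
  have R := RGDTwE6.rgd CoxeterMatrix.F₄.toCoxeterSystem hφ hqq p
  have : Finite CoxeterMatrix.F₄.Group := Cfsg.Agent.Nodes.RGDFold.finite_W (hp := RGDTwE6.hp)
    CoxeterMatrix.F₄.toCoxeterSystem RGDTwE6.isCartan RGDTwE6.foldData
  have hS := Cfsg.Agent.S1070.result hq hK
  have := hS.1
  obtain ⟨P, hP⟩ := exists_hom_D RGDTwE6.hp (K := K) (ε := 1) (by norm_num) rt6.1 rt6.2.1 rt6.2.2.1 rt6.2.2.2
  obtain ⟨f, hf⟩ := exists_f hφ hqq hP
  obtain ⟨l, hl, h1, h2⟩ := exists_norm_one hφ hq.one_lt hK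
  obtain ⟨s, hs⟩ := exists_inc hφ hqq (sgY_s0 hl)
  have hs' : inc K q s⁻¹ = s0 l⁻¹ := by rw [map_inv, hs, s0_inv]
  have h1' : l⁻¹ ≠ 1 := by rwa [ne_eq, inv_eq_one]
  have h2' : l⁻¹ * l⁻¹ ≠ 1 := by
    rw [← mul_inv, ne_eq, inv_eq_one]
    exact h2
  -- the cover
  have hker : (Nat.card π.ker).Coprime p := by
    obtain ⟨k, hk⟩ := IsPGroup.iff_card.1 h3
    rw [hk]
    exact Nat.Coprime.pow_left k ((Nat.coprime_primes Fact.out Fact.out).2 (Ne.symm hp3))
  have hcardF : Nat.card (Fx φ 1) % 3 = 2 := by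
    rw [Cfsg.Agent.H928.Ore.TwFin.card_Fx hq.one_lt hK hφ]
    exact h23
  obtain ⟨g, hg0⟩ := Cfsg.Agent.H231.QS.Lift.exists_lift (p := p) (r := 3) hp3 hsur hc h3 f
    (closure_pow ((cast_zero h0 :))) (fun P => cyc_three ((cast_zero h0 :)) hp3 hcardF P)
  have hg : ∀ A, π (g A) = f A := fun A => DFunLike.congr_fun hg0 A
  have hn : ∃ n' : Fin 4 → E, ∀ i, π (n' i) = RGDTwE6.nn hφ i := by
    choose n' hn' using fun i => hsur (RGDTwE6.nn hφ i)
    exact ⟨n', hn'⟩
  obtain ⟨n', hn'⟩ := hn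
  have R' := rgd_lift hc hker hsur R hn'
  have hG := RGDTwE6.G1_eq_top CoxeterMatrix.F₄.toCoxeterSystem hφ hqq
  have hG' := Cfsg.Agent.OddHalf.NI.Mult.G1_lift R hG hsur hc hker hE
  have C := Cfsg.Agent.H958.TS.TwCommon.coordP hφ hqq
  have hch : ∀ i : Fin 4, ((p : ℕ) : Fx φ ((Cfsg.Agent.Nodes.RGDTwNode.E6.rest i).length + 1)) = 0 := fun i =>
    Subtype.ext (by
      rw [Subring.coe_natCast, ZeroMemClass.coe_zero]
      exact h0)
  have hlift : ∀ i, ∃ s' : Matrix.SpecialLinearGroup (Fin 2) (Fx φ ((Cfsg.Agent.Nodes.RGDTwNode.E6.rest i).length + 1))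
      →* E, π.comp s' = Cfsg.Agent.H958.TS.TwCommon.P hφ hqq i := fun i =>
    Cfsg.Agent.H231.QS.Lift.exists_lift (p := p) (r := 3) hp3 hsur hc h3 _ (closure_pow (hch i))
      (fun P => cyc_two (hch i) hp3 P)
  choose t ht using hlift
  have C' := Cfsg.Agent.OddHalf.NI.Mult.coord_lift R C hc hker ht
  have hM := Cfsg.Agent.Nodes.ChevChart.irr_of Cfsg.Agent.Nodes.ChevChart.irrF
  obtain ⟨u, hu⟩ := hsur s
  have hu' : π u⁻¹ = s⁻¹ := by rw [map_inv, hu]
  have hsg := s_comm_g hP hf hs hc hg hu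
  have hsg' := s_comm_g hP hf hs' hc hg hu'
  have hVJ : VJ CoxeterMatrix.F₄.toCoxeterSystem RGDTwE6.isCartan (fun x => lft p π (RGDTwE6.X φ q x)) JR ≤
      lft p π (VJ CoxeterMatrix.F₄.toCoxeterSystem RGDTwE6.isCartan (RGDTwE6.X φ q) JR) :=
    RGD.Sup_le fun z hz => lft_mono p π (RGD.le_Sup hz)
  have hVNJ : VNJ CoxeterMatrix.F₄.toCoxeterSystem RGDTwE6.isCartan (fun x => lft p π (RGDTwE6.X φ q x)) JR ≤
      lft p π (VNJ CoxeterMatrix.F₄.toCoxeterSystem RGDTwE6.isCartan (RGDTwE6.X φ q) JR) :=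
    RGD.Sup_le fun z hz => lft_mono p π (RGD.le_Sup hz)
  -- the pairs
  have hb : ∀ v ∈ UNJ CoxeterMatrix.F₄.toCoxeterSystem RGDTwE6.isCartan (fun x => lft p π (RGDTwE6.X φ q x)) JR,
      ∀ w ∈ UJ CoxeterMatrix.F₄.toCoxeterSystem RGDTwE6.isCartan (fun x => lft p π (RGDTwE6.X φ q x)) JR,
      ∃ c₁ c₂, v * w = c₁ * c₂ ∧
        LP CoxeterMatrix.F₄.toCoxeterSystem RGDTwE6.isCartan ((T K q).comap π)
          (fun x => lft p π (RGDTwE6.X φ q x)) JR c₁ c₂ ∧
        ∃ y, c₂ = y * c₁⁻¹ * y⁻¹ := by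
    intro v hv w hw
    obtain ⟨L, hL, rfl⟩ := lo_g hφ hqq hP hf h0 hc hker hg _ hv
    obtain ⟨U, hU, rfl⟩ := up_g hφ hqq hP hf h0 hc hker hg _ hw
    obtain ⟨X, Y, hXY, hX, hY, hcp⟩ := hm3 φ hφ L hL U hU
    have huT : u ∈ LJ CoxeterMatrix.F₄.toCoxeterSystem RGDTwE6.isCartan ((T K q).comap π)
        (fun x => lft p π (RGDTwE6.X φ q x)) JR := T_le_LJ (by
      rw [Subgroup.mem_comap, hu]
      exact s_T hs)
    obtain ⟨y, hy1, hy2⟩ := real hφ hqq hP hf hs hsur hc h3 hg hu hZ hX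
    refine ⟨u * g X, u⁻¹ * g Y, ?_, ⟨mul_mem huT (g_LJ hφ hqq hP hf h0 hg _ X),
      mul_mem (inv_mem huT) (g_LJ hφ hqq hP hf h0 hg _ Y),
      nf_lift hc hker (isPGroup_VNJ R JR) hVNJ ?_, nf_lift hc hker (isPGroup_VJ R JR) hVJ ?_⟩, ?_⟩
    · rw [← map_mul, hXY, map_mul, hsg]
      group
    · rw [map_mul, hu, hg]
      exact (s_nf hφ hqq hP hf h1 h2 hs _ hX).2
    · rw [map_mul, hu', hg]
      exact (s_nf hφ hqq hP hf h1' h2' hs' _ hY).1
    · rcases hcp with hcp | hcp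
      · obtain ⟨k, hk⟩ := Cfsg.Agent.H150.MF.exists_conj (Cfsg.Agent.H150.MF.cls_of_irreducible hX)
          (Cfsg.Agent.H150.MF.cls_of_irreducible hY) hcp.symm
        refine ⟨g k * y⁻¹, ?_⟩
        have e6 : y⁻¹ * u⁻¹ * y = u⁻¹ := by
          have : y⁻¹ * u * y = u := by
            calc y⁻¹ * u * y = y⁻¹ * (y * u * y⁻¹) * y := by rw [hy1]
              _ = u := by group
          calc y⁻¹ * u⁻¹ * y = (y⁻¹ * u * y)⁻¹ := by group
            _ = u⁻¹ := by rw [this]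
        have e7 : y⁻¹ * (g X)⁻¹ * y = g X := by
          rw [← hy2]; group
        calc u⁻¹ * g Y = u⁻¹ * g k * g X * (g k)⁻¹ := by rw [hk, map_mul, map_mul, map_inv]; group
          _ = g k * (u⁻¹ * g X) * (g k)⁻¹ := by rw [hsg' k]; group
          _ = g k * ((y⁻¹ * u⁻¹ * y) * (y⁻¹ * (g X)⁻¹ * y)) * (g k)⁻¹ := by rw [e6, e7]
          _ = (g k * y⁻¹) * (g X * u)⁻¹ * (g k * y⁻¹)⁻¹ := by
            have e8 : u⁻¹ * (g X)⁻¹ = (g X * u)⁻¹ := by group
            rw [← e8]; group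
          _ = _ := by rw [← hsg]
      · have hXi : Irreducible ((X⁻¹ : Matrix.SpecialLinearGroup (Fin 3) (Fx φ 1)) :
            Matrix (Fin 3) (Fin 3) (Fx φ 1)).charpoly := by
          rw [← hcp]
          exact hY
        obtain ⟨k, hk⟩ := Cfsg.Agent.H150.MF.exists_conj (Cfsg.Agent.H150.MF.cls_of_irreducible hXi)
          (Cfsg.Agent.H150.MF.cls_of_irreducible hY) hcp.symm
        refine ⟨g k, ?_⟩
        calc u⁻¹ * g Y = (u⁻¹ * g k) * (g X)⁻¹ * (g k)⁻¹ := by
              rw [hk, map_mul, map_mul, map_inv, map_inv]; group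
          _ = g k * (g X * u)⁻¹ * (g k)⁻¹ := by rw [hsg']; group
          _ = _ := by rw [← hsg]
  exact comm R' hG' C' hM (J := JR) hb fun h => hx (Cfsg.Agent.H162.GaussMain.core_le_ker R' π hsur hc h)

end Cfsg.Agent.H231.QS.Tw
end

-- part: H231/QS/TwCen
section
/-!
The centre of the cover of `²E₆(q)` (S2491, S2492, piece C4).

* `inc_P` : the homomorphisms `P i : SL₂ → ²E₆(q)` in `E₆(q²)`; `rel32`, `rel23` : the relations of the nodes `2`, `3`;
* `ker_tor` : the relation of the torus;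
* `scal` : `h₃(t) h₂(t)⁻¹` is the commutator of `w₂ w₃` and `h₂(t)`;
* `central` : the elements of the kernel are commutators (`|ker| ∣ 3`, `q ≥ 5`).
-/

set_option autoImplicit false
set_option linter.unusedSectionVars false

namespace Cfsg.Agent.H231.QS.TwCen

open CoxeterSystem Cfsg.Agent.ChevalleyStructure.CoxeterGeom Cfsg.Agent.Tits.Roots Cfsg.Agent.Tits.Core
  Cfsg.Agent.Nodes Cfsg.Agent.Nodes.Reps Cfsg.Agent.Nodes.BNOf Cfsg.Agent.Nodes.RGDLib Cfsg.Agent.Nodes.Bruhat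
  Cfsg.Agent.Nodes.OppDec Cfsg.Agent.Nodes.LeviDec Cfsg.Agent.Nodes.StabComb Cfsg.Agent.Nodes.KindChev
  Cfsg.Agent.Nodes.ChevCls Cfsg.Agent.Nodes.RGDLift
  Cfsg.Agent.OddHalf.NI.ModelChev
  Cfsg.Agent.H928.Ore.TwE Cfsg.Agent.H928.Ore.TwS
open Cfsg.Lie Cfsg.Agent.ChevalleyStructure Cfsg.Agent.ChevalleyStructure.Elts
  Cfsg.Agent.ChevalleyStructure.NPerm
  Cfsg.Agent.ChevalleyStructure.CoxeterGeomTypes Cfsg.Agent.Nodes.RGDChev Cfsg.Agent.KFacts.RgdChevCoord
open Cfsg.Agent.Nodes.RGDTwGen Cfsg.Agent.Nodes.RGDFold Cfsg.Agent.Nodes.RGDTwE6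
open Cfsg.Agent.Nodes.RGDFoldSL (Fx mem_Fx psi psi_up psi_lo hv)
open Cfsg.Agent.Nodes.RGDTwNode.E6 (rest)
open Cfsg.Agent.FixBN.FieldRGD (uu vv dd ww)
open Cfsg.Agent.OddHalf.NI.Mult (dg nn up lo dgHom Coord)
open Cfsg.Agent.H231.QS.Lift
open scoped MatrixGroups

universe u

/-! ### Conjugation by `diag(c, 1)` -/

section

variable {F : Type*} [Field F]

/-- conjugation by `diag(c, 1)` -/
def cj2 (c : Fˣ) : SL(2, F) →* SL(2, F) where
  toFun A := ⟨!![A.1 0 0, (c : F) * A.1 0 1; ((c⁻¹ : Fˣ) : F) * A.1 1 0, A.1 1 1], by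
    have := A.2
    rw [Matrix.det_fin_two] at this
    rw [Matrix.det_fin_two_of]
    have h : (c : F) * ((c⁻¹ : Fˣ) : F) = 1 := c.mul_inv
    linear_combination this - A.1 0 1 * A.1 1 0 * h⟩
  map_one' := by
    apply Subtype.ext
    change !![(1 : Matrix (Fin 2) (Fin 2) F) 0 0, (c : F) * (1 : Matrix (Fin 2) (Fin 2) F) 0 1;
      ((c⁻¹ : Fˣ) : F) * (1 : Matrix (Fin 2) (Fin 2) F) 1 0, (1 : Matrix (Fin 2) (Fin 2) F) 1 1] = 1
    ext i j
    (revert i j; simp only [_root_.Fin.forall_fin_succ, _root_.Matrix.one_apply_eq, Fin.isValue, _root_.ne_eq, _root_.zero_ne_one, _root_.not_false_eq_true, _root_.Matrix.one_apply_ne, _root_.MulZeroClass.mul_zero, _root_.Units.val_inv_eq_inv_val, _root_.one_ne_zero, _root_.Matrix.of_apply, _root_.Matrix.cons_val', _root_.Matrix.cons_val_fin_one, _root_.Matrix.cons_val_zero, _root_.Matrix.cons_val_succ, _root_.IsEmpty.forall_iff, _root_.and_true, Nat.reduceAdd, _root_.Fin.succ_zero_eq_one, _root_.and_self,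 _root_.Fin.succ_ne_zero, _root_.true_and])
  map_mul' A B := by
    apply Subtype.ext
    change !![(A.1 * B.1) 0 0, (c : F) * (A.1 * B.1) 0 1; ((c⁻¹ : Fˣ) : F) * (A.1 * B.1) 1 0, (A.1 * B.1) 1 1] =
      !![A.1 0 0, (c : F) * A.1 0 1; ((c⁻¹ : Fˣ) : F) * A.1 1 0, A.1 1 1] *
      !![B.1 0 0, (c : F) * B.1 0 1; ((c⁻¹ : Fˣ) : F) * B.1 1 0, B.1 1 1]
    have h : (c : F) * ((c⁻¹ : Fˣ) : F) = 1 := c.mul_inv
    rw [Matrix.mul_fin_two]
    simp only [Matrix.mul_apply, Fin.sum_univ_two]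
    ext i j
    fin_cases i <;> fin_cases j
    · change A.1 0 0 * B.1 0 0 + A.1 0 1 * B.1 1 0 =
        A.1 0 0 * B.1 0 0 + (c : F) * A.1 0 1 * (((c⁻¹ : Fˣ) : F) * B.1 1 0)
      linear_combination - A.1 0 1 * B.1 1 0 * h
    · change (c : F) * (A.1 0 0 * B.1 0 1 + A.1 0 1 * B.1 1 1) =
        A.1 0 0 * ((c : F) * B.1 0 1) + (c : F) * A.1 0 1 * B.1 1 1
      ring
    · change ((c⁻¹ : Fˣ) : F) * (A.1 1 0 * B.1 0 0 + A.1 1 1 * B.1 1 0) =
        ((c⁻¹ : Fˣ) : F) * A.1 1 0 * B.1 0 0 + A.1 1 1 * (((c⁻¹ : Fˣ) : F) * B.1 1 0)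
      ring
    · change A.1 1 0 * B.1 0 1 + A.1 1 1 * B.1 1 1 =
        ((c⁻¹ : Fˣ) : F) * A.1 1 0 * ((c : F) * B.1 0 1) + A.1 1 1 * B.1 1 1
      linear_combination - A.1 1 0 * B.1 0 1 * h

theorem cj2_uu (c : Fˣ) (a : F) : cj2 c (uu a) = uu ((c : F) * a) := by
  apply Subtype.ext
  change !![(1 : F), (c : F) * a; ((c⁻¹ : Fˣ) : F) * 0, 1] = !![1, (c : F) * a; 0, 1]
  rw [mul_zero]

theorem cj2_vv (c : Fˣ) (a : F) : cj2 c (vv a) = vv (((c⁻¹ : Fˣ) : F) * a) := by
  apply Subtype.ext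
  change !![(1 : F), (c : F) * 0; ((c⁻¹ : Fˣ) : F) * a, 1] = !![1, 0; ((c⁻¹ : Fˣ) : F) * a, 1]
  rw [mul_zero]

theorem cj2_nn (c : Fˣ) : cj2 c (nn 1) = dg c * nn 1 := by
  apply Subtype.ext
  change !![(0 : F), (c : F) * ((1 : Fˣ) : F); ((c⁻¹ : Fˣ) : F) * (-(((1 : Fˣ)⁻¹ : Fˣ) : F)), 0] =
    !![(c : F), 0; 0, ((c⁻¹ : Fˣ) : F)] * !![(0 : F), ((1 : Fˣ) : F); -(((1 : Fˣ)⁻¹ : Fˣ) : F), 0]
  rw [Matrix.mul_fin_two]
  simp

theorem cj2_one (A : SL(2, F)) : cj2 1 A = A := by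
  apply Subtype.ext
  change !![A.1 0 0, ((1 : Fˣ) : F) * A.1 0 1; (((1 : Fˣ)⁻¹ : Fˣ) : F) * A.1 1 0, A.1 1 1] = A.1
  ext i j
  (revert i j; simp only [_root_.Fin.forall_fin_succ, Fin.isValue, _root_.Units.val_one, _root_.one_mul, _root_.inv_one, _root_.Matrix.of_apply, _root_.Matrix.cons_val', _root_.Matrix.cons_val_fin_one, _root_.Matrix.cons_val_zero, _root_.Matrix.cons_val_succ, _root_.Fin.succ_zero_eq_one, _root_.IsEmpty.forall_iff, _root_.and_true, _root_.and_self])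

theorem map_cj2 {F' : Type*} [Field F'] (g : F →+* F') (c : Fˣ) (A : SL(2, F)) :
    Matrix.SpecialLinearGroup.map g (cj2 c A) = cj2 (Units.map g.toMonoidHom c) (Matrix.SpecialLinearGroup.map g A) := by
  apply Subtype.ext
  change (!![A.1 0 0, (c : F) * A.1 0 1; ((c⁻¹ : Fˣ) : F) * A.1 1 0, A.1 1 1]).map g =
    !![g (A.1 0 0), g (c : F) * g (A.1 0 1); g ((c⁻¹ : Fˣ) : F) * g (A.1 1 0), g (A.1 1 1)]
  ext i j
  (revert i j; simp only [_root_.Fin.forall_fin_succ, Fin.isValue, _root_.Units.val_inv_eq_inv_val, _root_.Matrix.map_apply, _root_.Matrix.of_apply, _root_.Matrix.cons_val', _root_.Matrix.cons_val_fin_one, _root_.map_inv₀, _root_.Matrix.cons_val_zero, _root_.Matrix.cons_val_succ, _root_.forall_const, _root_.map_mul, _root_.and_self, _root_.implies_true])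

theorem nn_dg (t : Fˣ) : nn 1 * dg t * (nn 1)⁻¹ = (dg t)⁻¹ := by
  rw [← Cfsg.Agent.OddHalf.NI.Mult.dg_inv, mul_inv_eq_iff_eq_mul]
  apply Subtype.ext
  change !![(0 : F), ((1 : Fˣ) : F); -(((1 : Fˣ)⁻¹ : Fˣ) : F), 0] * !![(t : F), 0; 0, ((t⁻¹ : Fˣ) : F)] =
    !![((t⁻¹ : Fˣ) : F), 0; 0, ((t⁻¹⁻¹ : Fˣ) : F)] * !![(0 : F), ((1 : Fˣ) : F); -(((1 : Fˣ)⁻¹ : Fˣ) : F), 0]
  rw [Matrix.mul_fin_two, Matrix.mul_fin_two]
  simp

end

/-! ### The scalar as a commutator -/

/-- `h₃(t) h₂(t)⁻¹` is a commutator -/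
theorem scal {E : Type*} [Group E] {F : Type*} [Field F] {s2 s3 : SL(2, F) →* E} (t : Fˣ)
    (h32 : ∀ A, s3 (dg t) * s2 A * (s3 (dg t))⁻¹ = s2 (cj2 t⁻¹ A))
    (h23 : ∀ A, s2 (dg t) * s3 A * (s2 (dg t))⁻¹ = s3 (cj2 t⁻¹ A))
    (hcom : s2 (dg t) * s3 (dg t) = s3 (dg t) * s2 (dg t)) :
    s3 (dg t) * (s2 (dg t))⁻¹ = (s2 (nn 1) * s3 (nn 1)) * s2 (dg t) * (s2 (nn 1) * s3 (nn 1))⁻¹ * (s2 (dg t))⁻¹ := by
  have e1 := h32 (nn 1)
  have e2 := h23 (nn 1)
  rw [cj2_nn, map_mul, Cfsg.Agent.OddHalf.NI.Mult.dg_inv, map_inv] at e1 e2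
  have e3 : s2 (nn 1) * s2 (dg t) * (s2 (nn 1))⁻¹ = (s2 (dg t))⁻¹ := by
    rw [← map_mul, ← map_inv, ← map_mul, nn_dg, map_inv]
  obtain ⟨a, ha⟩ : ∃ a, a = s2 (dg t) := ⟨_, rfl⟩
  obtain ⟨b, hb⟩ : ∃ b, b = s3 (dg t) := ⟨_, rfl⟩
  obtain ⟨v, hv⟩ : ∃ v, v = s2 (nn 1) := ⟨_, rfl⟩
  obtain ⟨w, hw⟩ : ∃ w, w = s3 (nn 1) := ⟨_, rfl⟩
  rw [← ha, ← hb] at hcom
  rw [← hb, ← ha, ← hv] at e1
  rw [← ha, ← hb, ← hw] at e2
  rw [← hv, ← ha] at e3
  rw [← ha, ← hb, ← hv, ← hw]
  -- `w a w⁻¹ = b a`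
  have f1 : w * a * w⁻¹ = b * a := by
    calc w * a * w⁻¹ = (a⁻¹ * (a * w * a⁻¹) * w⁻¹)⁻¹ := by group
      _ = (a⁻¹ * (b⁻¹ * w) * w⁻¹)⁻¹ := by rw [e2]
      _ = b * a := by group
  have f2 : v * b * v⁻¹ = a * b := by
    calc v * b * v⁻¹ = (b⁻¹ * (b * v * b⁻¹) * v⁻¹)⁻¹ := by group
      _ = (b⁻¹ * (a⁻¹ * v) * v⁻¹)⁻¹ := by rw [e1]
      _ = a * b := by group
  calc b * a⁻¹ = (b * a) * a⁻¹ * a⁻¹ := by group
    _ = (a * b) * a⁻¹ * a⁻¹ := by rw [hcom]
    _ = (v * b * v⁻¹) * (v * a * v⁻¹) * a⁻¹ := by rw [f2, e3]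
    _ = v * (b * a) * v⁻¹ * a⁻¹ := by group
    _ = v * (w * a * w⁻¹) * v⁻¹ * a⁻¹ := by rw [f1]
    _ = _ := by group

/-! ### The homomorphisms `P i` -/

section

variable {K : Type u} [Field K]

theorem tab_neg : ∀ i k : Fin 6, chevE6.cartan i (chevE6.neg (chevE6.simple k)) =
    -chevE6.cartan i (chevE6.simple k) := by decide +kernel

theorem sl_cj (j k : Fin 6) (t : Kˣ) (A : SL(2, K)) :
    sl RGDTwE6.hp j (dd (t : K) t.ne_zero) * sl RGDTwE6.hp k A * (sl RGDTwE6.hp j (dd (t : K) t.ne_zero))⁻¹ =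
      sl RGDTwE6.hp k (cj2 (t ^ (chevE6.cartan j (chevE6.simple k))) A) := by
  have h : (MulAut.conj (sl RGDTwE6.hp j (dd (t : K) t.ne_zero))).toMonoidHom.comp (sl RGDTwE6.hp k) =
      (sl RGDTwE6.hp k).comp (cj2 (t ^ (chevE6.cartan j (chevE6.simple k)))) := by
    have hk := simple_lt RGDTwE6.hp.inList (lt_rank RGDTwE6.hp k)
    have hk' := neg_lt RGDTwE6.hp.inList hk
    refine ext2 (fun a => ?_) (fun a => ?_)
    · change sl RGDTwE6.hp j _ * sl RGDTwE6.hp k (uu a) * (sl RGDTwE6.hp j _)⁻¹ = sl RGDTwE6.hp k (cj2 _ (uu a))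
      rw [cj2_uu, sl_uu, sl_uu, sl_dd, ← vec_simple RGDTwE6.hp k,
        (act RGDTwE6.hp hk (hc_mem RGDTwE6.hp j t.ne_zero)).2, ch_hc RGDTwE6.hp j t.ne_zero hk,
        Units.val_zpow_eq_zpow_val]
    · change sl RGDTwE6.hp j _ * sl RGDTwE6.hp k (vv a) * (sl RGDTwE6.hp j _)⁻¹ = sl RGDTwE6.hp k (cj2 _ (vv a))
      rw [cj2_vv, sl_vv, sl_vv, sl_dd, ← vec_simple RGDTwE6.hp k, ← vec_neg RGDTwE6.hp hk,
        (act RGDTwE6.hp hk' (hc_mem RGDTwE6.hp j t.ne_zero)).2, ch_hc RGDTwE6.hp j t.ne_zero hk', tab_neg,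
        ← zpow_neg, Units.val_zpow_eq_zpow_val]
  exact DFunLike.congr_fun h A

theorem coe_sl (k : Fin 6) (A : SL(2, K)) :
    ((sl RGDTwE6.hp k A : ↥(chevE6.group K)) : GL chevE6.Idx K) = psi RGDTwE6.hp.inList K (chevE6.simple k) A := by
  have h : (chevE6.group K).subtype.comp (sl RGDTwE6.hp k) = psi RGDTwE6.hp.inList K (chevE6.simple k) := by
    have hk := simple_lt RGDTwE6.hp.inList (lt_rank RGDTwE6.hp k)
    refine ext2 (fun a => ?_) (fun a => ?_)
    · change ((sl RGDTwE6.hp k (uu a) : ↥(chevE6.group K)) : GL chevE6.Idx K) = _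
      rw [sl_uu, ← vec_simple RGDTwE6.hp k, coe_xc RGDTwE6.hp hk]
      exact (psi_up RGDTwE6.hp.inList hk a).symm
    · change ((sl RGDTwE6.hp k (vv a) : ↥(chevE6.group K)) : GL chevE6.Idx K) = _
      rw [sl_vv, ← vec_simple RGDTwE6.hp k, coe_xc_neg RGDTwE6.hp hk]
      exact (psi_lo RGDTwE6.hp.inList hk a).symm
  exact DFunLike.congr_fun h A

end

section

variable {K : Type u} [Field K] [Fintype K] {φ : K →+* K} {q : ℕ} (hφ : ∀ t, φ t = t ^ q)
  (hqq : ∀ t : K, (t ^ q) ^ q = t)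

/-- the homomorphisms of the nodes -/
noncomputable def Q0 : SL(2, Fx φ 1) →* ↥(twistedE6 K q) := Cfsg.Agent.H958.TS.TwCommon.P hφ hqq 0

/-- the homomorphisms of the nodes -/
noncomputable def Q1 : SL(2, Fx φ 1) →* ↥(twistedE6 K q) := Cfsg.Agent.H958.TS.TwCommon.P hφ hqq 1

/-- the homomorphisms of the nodes -/
noncomputable def Q2 : SL(2, Fx φ 2) →* ↥(twistedE6 K q) := Cfsg.Agent.H958.TS.TwCommon.P hφ hqq 2

/-- the homomorphisms of the nodes -/
noncomputable def Q3 : SL(2, Fx φ 2) →* ↥(twistedE6 K q) := Cfsg.Agent.H958.TS.TwCommon.P hφ hqq 3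

theorem inc_Q0 (A : SL(2, Fx φ 1)) : inc K q (Q0 hφ hqq A) =
    sl RGDTwE6.hp (1 : Fin 6) (Matrix.SpecialLinearGroup.map (Fx φ 1).subtype A) := by
  apply Subtype.ext
  rw [coe_sl]
  change psi RGDTwE6.hp.inList K 46 (Matrix.SpecialLinearGroup.map (Fx φ 1).subtype A) * 1 = _
  rw [mul_one]
  rfl

theorem inc_Q1 (A : SL(2, Fx φ 1)) : inc K q (Q1 hφ hqq A) =
    sl RGDTwE6.hp (3 : Fin 6) (Matrix.SpecialLinearGroup.map (Fx φ 1).subtype A) := by
  apply Subtype.ext
  rw [coe_sl]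
  change psi RGDTwE6.hp.inList K 39 (Matrix.SpecialLinearGroup.map (Fx φ 1).subtype A) * 1 = _
  rw [mul_one]
  rfl

theorem inc_Q2 (A : SL(2, Fx φ 2)) : inc K q (Q2 hφ hqq A) =
    sl RGDTwE6.hp (2 : Fin 6) (Matrix.SpecialLinearGroup.map (Fx φ 2).subtype A) *
      sl RGDTwE6.hp (4 : Fin 6) (Matrix.SpecialLinearGroup.map φ (Matrix.SpecialLinearGroup.map (Fx φ 2).subtype A)) := by
  apply Subtype.ext
  rw [Subgroup.coe_mul, coe_sl, coe_sl]
  change psi RGDTwE6.hp.inList K 42 (Matrix.SpecialLinearGroup.map (Fx φ 2).subtype A) *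
    (psi RGDTwE6.hp.inList K 37 (Matrix.SpecialLinearGroup.map φ (Matrix.SpecialLinearGroup.map (Fx φ 2).subtype A)) * 1) = _
  rw [mul_one]
  rfl

theorem inc_Q3 (A : SL(2, Fx φ 2)) : inc K q (Q3 hφ hqq A) =
    sl RGDTwE6.hp (0 : Fin 6) (Matrix.SpecialLinearGroup.map (Fx φ 2).subtype A) *
      sl RGDTwE6.hp (5 : Fin 6) (Matrix.SpecialLinearGroup.map φ (Matrix.SpecialLinearGroup.map (Fx φ 2).subtype A)) := by
  apply Subtype.ext
  rw [Subgroup.coe_mul, coe_sl, coe_sl]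
  change psi RGDTwE6.hp.inList K 56 (Matrix.SpecialLinearGroup.map (Fx φ 2).subtype A) *
    (psi RGDTwE6.hp.inList K 36 (Matrix.SpecialLinearGroup.map φ (Matrix.SpecialLinearGroup.map (Fx φ 2).subtype A)) * 1) = _
  rw [mul_one]
  rfl

omit [Fintype K] in
theorem map_dg {F F' : Type*} [Field F] [Field F'] (g : F →+* F') (t : Fˣ) :
    Matrix.SpecialLinearGroup.map g (dg t) = dd (g (t : F)) ((map_ne_zero g).2 t.ne_zero) := by
  apply Subtype.ext
  change (!![(t : F), 0; 0, ((t⁻¹ : Fˣ) : F)]).map g = !![g (t : F), 0; 0, (g (t : F))⁻¹]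
  ext i j
  (revert i j; simp only [_root_.Fin.forall_fin_succ, _root_.Units.val_inv_eq_inv_val, _root_.Matrix.map_apply, _root_.Matrix.of_apply, _root_.Matrix.cons_val', _root_.Matrix.cons_val_fin_one, Fin.isValue, _root_.Matrix.cons_val_zero, _root_.Matrix.cons_val_succ, _root_.forall_const, _root_.map_zero, _root_.and_self, _root_.map_inv₀, _root_.implies_true])

omit [Fintype K] in
theorem map_dd {F F' : Type*} [Field F] [Field F'] (g : F →+* F') {c : F} (hc : c ≠ 0) :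
    Matrix.SpecialLinearGroup.map g (dd c hc) = dd (g c) ((map_ne_zero g).2 hc) := by
  apply Subtype.ext
  change (!![c, 0; 0, c⁻¹]).map g = !![g c, 0; 0, (g c)⁻¹]
  ext i j
  (revert i j; simp only [_root_.Fin.forall_fin_succ, _root_.Matrix.map_apply, _root_.Matrix.of_apply, _root_.Matrix.cons_val', _root_.Matrix.cons_val_fin_one, Fin.isValue, _root_.Matrix.cons_val_zero, _root_.Matrix.cons_val_succ, _root_.forall_const, _root_.map_zero, _root_.and_self, _root_.map_inv₀, _root_.implies_true])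

theorem rel32 (t : (Fx φ 2)ˣ) (A : SL(2, Fx φ 2)) : Q3 hφ hqq (dg t) * Q2 hφ hqq A * (Q3 hφ hqq (dg t))⁻¹ = Q2 hφ hqq (cj2 t⁻¹ A) := by
  apply inc_injective q
  rw [map_mul, map_mul, map_inv, inc_Q3, inc_Q2, inc_Q2, map_cj2, map_cj2, map_dg, map_dd]
  obtain ⟨u, hu⟩ : ∃ u : Kˣ, u = Units.map (Fx φ 2).subtype.toMonoidHom t := ⟨_, rfl⟩
  obtain ⟨v, hv⟩ : ∃ v : Kˣ, v = Units.map φ.toMonoidHom u := ⟨_, rfl⟩
  have hu' : Units.map (Fx φ 2).subtype.toMonoidHom t⁻¹ = u⁻¹ := by rw [hu, map_inv]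
  have hv' : Units.map φ.toMonoidHom u⁻¹ = v⁻¹ := by rw [hv, map_inv]
  obtain ⟨B, hB⟩ : ∃ B, B = Matrix.SpecialLinearGroup.map (Fx φ 2).subtype A := ⟨_, rfl⟩
  obtain ⟨B', hB'⟩ : ∃ B', B' = Matrix.SpecialLinearGroup.map φ B := ⟨_, rfl⟩
  rw [← hB, ← hB', hu', hv']
  have e1 := sl_cj (0 : Fin 6) (2 : Fin 6) u B
  have e2 := sl_cj (5 : Fin 6) (2 : Fin 6) v B
  have e3 := sl_cj (0 : Fin 6) (4 : Fin 6) u (cj2 v⁻¹ B')
  have e4 := sl_cj (5 : Fin 6) (4 : Fin 6) v B'
  have c1 : chevE6.cartan (0 : Fin 6) (chevE6.simple (2 : Fin 6)) = -1 := by decide +kernel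
  have c2 : chevE6.cartan (5 : Fin 6) (chevE6.simple (2 : Fin 6)) = 0 := by decide +kernel
  have c3 : chevE6.cartan (0 : Fin 6) (chevE6.simple (4 : Fin 6)) = 0 := by decide +kernel
  have c4 : chevE6.cartan (5 : Fin 6) (chevE6.simple (4 : Fin 6)) = -1 := by decide +kernel
  rw [c1, zpow_neg_one] at e1
  rw [c2, zpow_zero, cj2_one] at e2
  rw [c3, zpow_zero, cj2_one] at e3
  rw [c4, zpow_neg_one] at e4
  have d1 : (u : K) = (Fx φ 2).subtype (t : Fx φ 2) := by rw [hu]; rfl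
  have d2 : (v : K) = φ ((Fx φ 2).subtype (t : Fx φ 2)) := by rw [hv, hu]; rfl
  have g1 : ∀ h, (dd ((Fx φ 2).subtype (t : Fx φ 2)) h : SL(2, K)) = dd (u : K) u.ne_zero := fun h => by
    congr 1; exact d1.symm
  have g2 : ∀ h, (dd (φ ((Fx φ 2).subtype (t : Fx φ 2))) h : SL(2, K)) = dd (v : K) v.ne_zero := fun h => by
    congr 1; exact d2.symm
  rw [g1, g2]
  set a := sl RGDTwE6.hp (0 : Fin 6) (dd (u : K) u.ne_zero)
  set b := sl RGDTwE6.hp (5 : Fin 6) (dd (v : K) v.ne_zero)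
  calc a * b * (sl RGDTwE6.hp (2 : Fin 6) B * sl RGDTwE6.hp (4 : Fin 6) B') * (a * b)⁻¹
      = (a * (b * sl RGDTwE6.hp (2 : Fin 6) B * b⁻¹) * a⁻¹) * (a * (b * sl RGDTwE6.hp (4 : Fin 6) B' * b⁻¹) * a⁻¹) := by
        group
    _ = _ := by rw [e2, e4, e1, e3]

theorem rel23 (t : (Fx φ 2)ˣ) (A : SL(2, Fx φ 2)) : Q2 hφ hqq (dg t) * Q3 hφ hqq A * (Q2 hφ hqq (dg t))⁻¹ = Q3 hφ hqq (cj2 t⁻¹ A) := by
  apply inc_injective q
  rw [map_mul, map_mul, map_inv, inc_Q2, inc_Q3, inc_Q3, map_cj2, map_cj2, map_dg, map_dd]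
  obtain ⟨u, hu⟩ : ∃ u : Kˣ, u = Units.map (Fx φ 2).subtype.toMonoidHom t := ⟨_, rfl⟩
  obtain ⟨v, hv⟩ : ∃ v : Kˣ, v = Units.map φ.toMonoidHom u := ⟨_, rfl⟩
  have hu' : Units.map (Fx φ 2).subtype.toMonoidHom t⁻¹ = u⁻¹ := by rw [hu, map_inv]
  have hv' : Units.map φ.toMonoidHom u⁻¹ = v⁻¹ := by rw [hv, map_inv]
  obtain ⟨B, hB⟩ : ∃ B, B = Matrix.SpecialLinearGroup.map (Fx φ 2).subtype A := ⟨_, rfl⟩
  obtain ⟨B', hB'⟩ : ∃ B', B' = Matrix.SpecialLinearGroup.map φ B := ⟨_, rfl⟩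
  rw [← hB, ← hB', hu', hv']
  have e1 := sl_cj (2 : Fin 6) (0 : Fin 6) u B
  have e2 := sl_cj (4 : Fin 6) (0 : Fin 6) v B
  have e3 := sl_cj (2 : Fin 6) (5 : Fin 6) u (cj2 v⁻¹ B')
  have e4 := sl_cj (4 : Fin 6) (5 : Fin 6) v B'
  have c1 : chevE6.cartan (2 : Fin 6) (chevE6.simple (0 : Fin 6)) = -1 := by decide +kernel
  have c2 : chevE6.cartan (4 : Fin 6) (chevE6.simple (0 : Fin 6)) = 0 := by decide +kernel
  have c3 : chevE6.cartan (2 : Fin 6) (chevE6.simple (5 : Fin 6)) = 0 := by decide +kernel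
  have c4 : chevE6.cartan (4 : Fin 6) (chevE6.simple (5 : Fin 6)) = -1 := by decide +kernel
  rw [c1, zpow_neg_one] at e1
  rw [c2, zpow_zero, cj2_one] at e2
  rw [c3, zpow_zero, cj2_one] at e3
  rw [c4, zpow_neg_one] at e4
  have d1 : (u : K) = (Fx φ 2).subtype (t : Fx φ 2) := by rw [hu]; rfl
  have d2 : (v : K) = φ ((Fx φ 2).subtype (t : Fx φ 2)) := by rw [hv, hu]; rfl
  have g1 : ∀ h, (dd ((Fx φ 2).subtype (t : Fx φ 2)) h : SL(2, K)) = dd (u : K) u.ne_zero := fun h => by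
    congr 1; exact d1.symm
  have g2 : ∀ h, (dd (φ ((Fx φ 2).subtype (t : Fx φ 2))) h : SL(2, K)) = dd (v : K) v.ne_zero := fun h => by
    congr 1; exact d2.symm
  rw [g1, g2]
  set a := sl RGDTwE6.hp (2 : Fin 6) (dd (u : K) u.ne_zero)
  set b := sl RGDTwE6.hp (4 : Fin 6) (dd (v : K) v.ne_zero)
  calc a * b * (sl RGDTwE6.hp (0 : Fin 6) B * sl RGDTwE6.hp (5 : Fin 6) B') * (a * b)⁻¹
      = (a * (b * sl RGDTwE6.hp (0 : Fin 6) B * b⁻¹) * a⁻¹) * (a * (b * sl RGDTwE6.hp (5 : Fin 6) B' * b⁻¹) * a⁻¹) := by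
        group
    _ = _ := by rw [e2, e4, e1, e3]

/-- the relation of the torus -/
theorem ker_tor {t0 t1 : (Fx φ 1)ˣ} {t2 t3 : (Fx φ 2)ˣ}
    (h : Q0 hφ hqq (dg t0) * Q1 hφ hqq (dg t1) * Q2 hφ hqq (dg t2) * Q3 hφ hqq (dg t3) = 1) :
    t0 = 1 ∧ t1 = 1 ∧ t2 = t3⁻¹ := by
  have h1 := congrArg (inc K q) h
  rw [map_one, map_mul, map_mul, map_mul, inc_Q0, inc_Q1, inc_Q2, inc_Q3, map_dg, map_dg, map_dg, map_dg, map_dd,
    map_dd] at h1
  obtain ⟨a, ha⟩ : ∃ a : Kˣ, a = Units.map (Fx φ 1).subtype.toMonoidHom t0 := ⟨_, rfl⟩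
  obtain ⟨b, hb⟩ : ∃ b : Kˣ, b = Units.map (Fx φ 1).subtype.toMonoidHom t1 := ⟨_, rfl⟩
  obtain ⟨c, hc⟩ : ∃ c : Kˣ, c = Units.map (Fx φ 2).subtype.toMonoidHom t2 := ⟨_, rfl⟩
  obtain ⟨e, he⟩ : ∃ e : Kˣ, e = Units.map (Fx φ 2).subtype.toMonoidHom t3 := ⟨_, rfl⟩
  obtain ⟨d, hd⟩ : ∃ d : Kˣ, d = Units.map φ.toMonoidHom c := ⟨_, rfl⟩
  obtain ⟨f, hf⟩ : ∃ f : Kˣ, f = Units.map φ.toMonoidHom e := ⟨_, rfl⟩
  have hT : (Pi.mulSingle 1 a * Pi.mulSingle 3 b * (Pi.mulSingle 2 c * Pi.mulSingle 4 d) *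
      (Pi.mulSingle 0 e * Pi.mulSingle 5 f) : Fin 6 → Kˣ) = ![e, a, c, b, d, f] := by
    funext i
    (revert i; simp only [_root_.Fin.forall_fin_succ, Fin.isValue, _root_.Pi.mul_apply, _root_.Nat.succ_eq_add_one, Nat.reduceAdd, _root_.ne_eq, _root_.zero_ne_one, _root_.not_false_eq_true, _root_.Pi.mulSingle_eq_of_ne, Fin.reduceEq, _root_.mul_one, _root_.Pi.mulSingle_eq_same, _root_.one_mul, _root_.Matrix.cons_val_zero, _root_.Fin.succ_ne_zero, _root_.Matrix.cons_val_succ, _root_.Fin.succ_zero_eq_one, _root_.Fin.succ_one_eq_two, Fin.reduceSucc, _root_.Matrix.cons_val_fin_one, _root_.IsEmpty.forall_iff, _root_.and_self])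
  have h2 : th RGDTwE6.hp ![e, a, c, b, d, f] = 1 := by
    rw [← hT, map_mul, map_mul, map_mul, map_mul, map_mul, th_mulSingle, th_mulSingle, th_mulSingle, th_mulSingle,
      th_mulSingle, th_mulSingle]
    rw [← h1]
    have g0 : ∀ h, (dd ((Fx φ 1).subtype (t0 : Fx φ 1)) h : SL(2, K)) = dd (a : K) a.ne_zero := fun h => by
      congr 1; rw [ha]; rfl
    have g1 : ∀ h, (dd ((Fx φ 1).subtype (t1 : Fx φ 1)) h : SL(2, K)) = dd (b : K) b.ne_zero := fun h => by
      congr 1; rw [hb]; rfl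
    have g2 : ∀ h, (dd ((Fx φ 2).subtype (t2 : Fx φ 2)) h : SL(2, K)) = dd (c : K) c.ne_zero := fun h => by
      congr 1; rw [hc]; rfl
    have g3 : ∀ h, (dd ((Fx φ 2).subtype (t3 : Fx φ 2)) h : SL(2, K)) = dd (e : K) e.ne_zero := fun h => by
      congr 1; rw [he]; rfl
    have g4 : ∀ h, (dd (φ ((Fx φ 2).subtype (t2 : Fx φ 2))) h : SL(2, K)) = dd (d : K) d.ne_zero := fun h => by
      congr 1; rw [hd, hc]; rfl
    have g5 : ∀ h, (dd (φ ((Fx φ 2).subtype (t3 : Fx φ 2))) h : SL(2, K)) = dd (f : K) f.ne_zero := fun h => by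
      congr 1; rw [hf, he]; rfl
    rw [g0, g1, g2, g3, g4, g5]
  have k3 : ∀ i, (![e, a, c, b, d, f] : Fin 6 → Kˣ) i ^ 3 = 1 := fun i => th_ker_E6 h2 i
  have c0 := th_cartan RGDTwE6.hp h2 0
  have c1 := th_cartan RGDTwE6.hp h2 1
  have c2 := th_cartan RGDTwE6.hp h2 2
  have v0 : ∀ i : Fin 6, cartanOf chevE6 6 i 0 = ![2, 0, -1, 0, 0, 0] i := by decide +kernel
  have v1 : ∀ i : Fin 6, cartanOf chevE6 6 i 1 = ![0, 2, 0, -1, 0, 0] i := by decide +kernel
  have v2 : ∀ i : Fin 6, cartanOf chevE6 6 i 2 = ![-1, 0, 2, -1, 0, 0] i := by decide +kernel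
  simp only [v0, v1, v2, Fin.prod_univ_six] at c0 c1 c2
  have e0 : e ^ 3 = 1 := k3 0
  have ea : a ^ 3 = 1 := k3 1
  have ec : c ^ 3 = 1 := k3 2
  have eb : b ^ 3 = 1 := k3 3
  have r0 : e ^ 2 * c⁻¹ = 1 := by
    apply Units.ext
    rw [Units.val_mul, Units.val_pow_eq_pow_val, Units.val_inv_eq_inv_val, Units.val_one]
    simpa only [_root_.Fin.isValue, _root_.Matrix.cons_val_zero, _root_.Nat.succ_eq_add_one, _root_.Nat.reduceAdd, _root_.Int.reduceNeg, _root_.zpow_ofNat, _root_.Matrix.cons_val_one, _root_.pow_zero, _root_.mul_one, _root_.Matrix.cons_val, _root_.zpow_neg, _root_.pow_one] using c0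
  have r1 : a ^ 2 * b⁻¹ = 1 := by
    apply Units.ext
    rw [Units.val_mul, Units.val_pow_eq_pow_val, Units.val_inv_eq_inv_val, Units.val_one]
    simpa only [_root_.Fin.isValue, _root_.Matrix.cons_val_zero, _root_.Nat.succ_eq_add_one, _root_.Nat.reduceAdd, _root_.Int.reduceNeg, _root_.zpow_ofNat, _root_.pow_zero, _root_.Matrix.cons_val_one, _root_.one_mul, _root_.Matrix.cons_val, _root_.mul_one, _root_.zpow_neg, _root_.pow_one] using c1
  have r2 : e⁻¹ * c ^ 2 * b⁻¹ = 1 := by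
    apply Units.ext
    rw [Units.val_mul, Units.val_mul, Units.val_pow_eq_pow_val, Units.val_inv_eq_inv_val, Units.val_inv_eq_inv_val,
      Units.val_one]
    simpa only [_root_.Fin.isValue, _root_.Matrix.cons_val_zero, _root_.Nat.succ_eq_add_one, _root_.Nat.reduceAdd, _root_.Int.reduceNeg, _root_.zpow_neg, _root_.zpow_ofNat, _root_.pow_one, _root_.Matrix.cons_val_one, _root_.pow_zero, _root_.mul_one, _root_.Matrix.cons_val] using c2
  have hc1 : c = e⁻¹ := by
    have h4 : c = e ^ 2 := (mul_inv_eq_one.1 r0).symm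
    rw [h4]
    apply eq_inv_of_mul_eq_one_left
    rw [← pow_succ]
    exact e0
  have hb1 : b = 1 := by
    have h4 : b = e⁻¹ * c ^ 2 := (mul_inv_eq_one.1 r2).symm
    rw [h4, hc1, inv_pow, ← _root_.mul_inv_rev, ← pow_succ, e0, inv_one]
  have ha1 : a = 1 := by
    have h4 : a ^ 2 = 1 := by
      have h5 := mul_inv_eq_one.1 r1
      rw [h5, hb1]
    calc a = a ^ 3 * (a ^ 2)⁻¹ := by rw [pow_succ, pow_succ]; group
      _ = 1 := by rw [ea, h4]; group
  have inj1 : Function.Injective (Units.map (Fx φ 1).subtype.toMonoidHom) :=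
    Units.map_injective (Fx φ 1).subtype.injective
  have inj2 : Function.Injective (Units.map (Fx φ 2).subtype.toMonoidHom) :=
    Units.map_injective (Fx φ 2).subtype.injective
  refine ⟨inj1 ?_, inj1 ?_, inj2 ?_⟩
  · rw [← ha, ha1, map_one]
  · rw [← hb, hb1, map_one]
  · rw [← hc, hc1, he, map_inv]

end

/-- `SL₂(F)` is perfect, `|F| ≥ 4` -/
theorem perf2 {F : Type*} [Field F] [Finite F] (h : 4 ≤ Nat.card F) : commutator SL(2, F) = ⊤ := by
  classical
  have := Fintype.ofFinite F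
  rw [Nat.card_eq_fintype_card] at h
  have h1 : ∃ a : F, a ∉ ({0, 1, -1} : Finset F) := by
    by_contra hcon
    push Not at hcon
    have h2 : Fintype.card F ≤ ({0, 1, -1} : Finset F).card := by
      rw [← Finset.card_univ]
      exact Finset.card_le_card fun x _ => hcon x
    have h3 : ({0, 1, -1} : Finset F).card ≤ 3 := Finset.card_le_three
    omega
  obtain ⟨a, ha⟩ := h1
  simp only [Finset.mem_insert, Finset.mem_singleton, not_or] at ha
  refine Matrix.SL2.commutator_eq_top ha.1 ?_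
  rw [Ne, sq_eq_one_iff]
  tauto

/-- powers of central commutators -/
theorem zpow_comm {E : Type*} [Group E] {A B ζ : E} (h : A * B * A⁻¹ * B⁻¹ = ζ) (hz : ζ ∈ Subgroup.center E) (n : ℤ) :
    ζ ^ n = A ^ n * B * (A ^ n)⁻¹ * B⁻¹ := by
  have hz' : ∀ x, x * ζ = ζ * x := Subgroup.mem_center_iff.1 hz
  have e1 : B * A * B⁻¹ = ζ⁻¹ * A := by
    have h2 : ζ * (B * A * B⁻¹) = A := by
      rw [← h]
      group
    calc B * A * B⁻¹ = ζ⁻¹ * (ζ * (B * A * B⁻¹)) := by group
      _ = _ := by rw [h2]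
  have hc : Commute ζ⁻¹ A := by
    have : Commute ζ A := (hz' A).symm
    exact this.inv_left
  have e2 : B * A ^ n * B⁻¹ = ζ⁻¹ ^ n * A ^ n := by
    rw [← hc.mul_zpow, ← e1]
    have := map_zpow (MulAut.conj B) A n
    simpa only [MulAut.conj_apply] using this
  calc ζ ^ n = A ^ n * (A ^ n)⁻¹ * ζ ^ n := by group
    _ = A ^ n * (ζ⁻¹ ^ n * A ^ n)⁻¹ := by rw [inv_zpow]; group
    _ = A ^ n * (B * A ^ n * B⁻¹)⁻¹ := by rw [e2]
    _ = _ := by group

/-- **The kernel.** -/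
theorem central {K : Type u} [Field K] [Fintype K] {q : ℕ} (hq : IsPrimePow q) (hK : Fintype.card K = q ^ 2)
    (h23 : q % 3 = 2)
    {E : Type*} [Group E] [Finite E] {π : E →* ↥(twistedE6 K q)} (hsur : Function.Surjective π)
    (hc : π.ker ≤ Subgroup.center E) (h3 : Nat.card π.ker ∣ 3) (hE : commutator E = ⊤) {x : E} (hx : x ∈ π.ker) :
    ∃ a b : E, x = a * b * a⁻¹ * b⁻¹ := by
  obtain ⟨φ, hφ, hqq⟩ := TwE6Basic.exists_frob hq hK
  obtain ⟨p, hpc⟩ := CharP.exists K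
  have : Fact p.Prime := ⟨(CharP.char_is_prime_or_zero K p).resolve_right (CharP.char_ne_zero_of_finite K p)⟩
  have : Fact (Nat.Prime 3) := ⟨Nat.prime_three⟩
  have h0 : (p : K) = 0 := CharP.cast_eq_zero K p
  have hp3 : p ≠ 3 := by
    rintro rfl
    have h1 : 3 ∣ Fintype.card K := by
      rw [← CharP.cast_eq_zero_iff K 3]
      exact Nat.cast_card_eq_zero K
    rw [hK] at h1
    have h2 := Nat.prime_three.dvd_of_dvd_pow h1
    omega
  have h3' : IsPGroup 3 π.ker := by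
    rcases (Nat.dvd_prime Nat.prime_three).1 h3 with h4 | h4
    · exact IsPGroup.of_card (n := 0) (by rw [h4, pow_zero])
    · exact IsPGroup.of_card (n := 1) (by rw [h4, pow_one])
  have hfin : Finite (GL chevE6.Idx K) := by
    have : Finite (Matrix chevE6.Idx chevE6.Idx K) := inferInstance
    infer_instance
  have : Finite ↥(twistedE6 K q) := inferInstance
  have R := RGDTwE6.rgd CoxeterMatrix.F₄.toCoxeterSystem hφ hqq p
  have : Finite CoxeterMatrix.F₄.Group := Cfsg.Agent.Nodes.RGDFold.finite_W (hp := RGDTwE6.hp)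
    CoxeterMatrix.F₄.toCoxeterSystem RGDTwE6.isCartan RGDTwE6.foldData
  have hker : (Nat.card π.ker).Coprime p := by
    obtain ⟨k, hk⟩ := IsPGroup.iff_card.1 h3'
    rw [hk]
    exact Nat.Coprime.pow_left k ((Nat.coprime_primes Fact.out Fact.out).2 (Ne.symm hp3))
  have hn : ∃ n' : Fin 4 → E, ∀ i, π (n' i) = RGDTwE6.nn hφ i := by
    choose n' hn' using fun i => hsur (RGDTwE6.nn hφ i)
    exact ⟨n', hn'⟩
  obtain ⟨n', hn'⟩ := hn
  have R' := rgd_lift hc hker hsur R hn'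
  have hG := RGDTwE6.G1_eq_top CoxeterMatrix.F₄.toCoxeterSystem hφ hqq
  have hG' := Cfsg.Agent.OddHalf.NI.Mult.G1_lift R hG hsur hc hker hE
  have C := Cfsg.Agent.H958.TS.TwCommon.coordP hφ hqq
  have hch : ∀ i : Fin 4, ((p : ℕ) : Fx φ ((rest i).length + 1)) = 0 := fun i =>
    Subtype.ext (by
      rw [Subring.coe_natCast, ZeroMemClass.coe_zero]
      exact h0)
  have hlift : ∀ i, ∃ s' : Matrix.SpecialLinearGroup (Fin 2) (Fx φ ((rest i).length + 1))
      →* E, π.comp s' = Cfsg.Agent.H958.TS.TwCommon.P hφ hqq i := fun i =>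
    Cfsg.Agent.H231.QS.Lift.exists_lift (p := p) (r := 3) hp3 hsur hc h3' _ (closure_pow (hch i))
      (fun P => cyc_two (hch i) hp3 P)
  choose t ht using hlift
  have ht' : ∀ i A, π (t i A) = Cfsg.Agent.H958.TS.TwCommon.P hφ hqq i A := fun i A => DFunLike.congr_fun (ht i) A
  have C' := Cfsg.Agent.OddHalf.NI.Mult.coord_lift R C hc hker ht
  have hT := Cfsg.Agent.OddHalf.NI.Mult.torus R' C' hG'
  by_cases hcom : ∀ i j, i ≠ j → ∀ a b, Commute (t i (dg a)) (t j (dg b))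
  · have hcomm : Pairwise fun i j => ∀ (a : (Fx φ ((rest i).length + 1))ˣ) (b : (Fx φ ((rest j).length + 1))ˣ),
        Commute (((t i).comp dgHom) a) (((t j).comp dgHom) b) := fun i j hij a b => hcom i j hij a b
    have hx1 : x ∈ (MonoidHom.noncommPiCoprod (fun i => (t i).comp dgHom) hcomm).range := by
      rw [MonoidHom.noncommPiCoprod_range, ← hT, Subgroup.mem_comap]
      rw [MonoidHom.mem_ker] at hx
      rw [hx]
      exact one_mem _
    obtain ⟨u, hu⟩ := hx1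
    have hsingle : ∀ i (a : (Fx φ ((rest i).length + 1))ˣ), MonoidHom.noncommPiCoprod (fun i => (t i).comp dgHom) hcomm
        (Pi.mulSingle i a) = t i (dg a) := by
      intro i a
      rw [MonoidHom.noncommPiCoprod_mulSingle]
      rfl
    have hu1 : u = Pi.mulSingle 0 (u 0) * Pi.mulSingle 1 (u 1) * Pi.mulSingle 2 (u 2) * Pi.mulSingle 3 (u 3) := by
      rw [← Fin.prod_univ_four (fun i => Pi.mulSingle i (u i)), Finset.univ_prod_mulSingle]
    rw [hu1, map_mul, map_mul, map_mul, hsingle, hsingle, hsingle, hsingle] at hu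
    have hx2 : π x = 1 := hx
    rw [← hu, map_mul, map_mul, map_mul, ht', ht', ht', ht'] at hx2
    obtain ⟨e0, e1, e2⟩ := ker_tor hφ hqq (t0 := u 0) (t1 := u 1) (t2 := u 2) (t3 := u 3) hx2
    have hcard : 4 ≤ Nat.card (Fx φ 2) := by
      have h5 : (Fx φ 2) = ⊤ := by
        rw [eq_top_iff]
        intro y _
        rw [mem_Fx]
        change φ (φ y) = y
        rw [hφ, hφ, hqq]
      have h6 : Nat.card (Fx φ 2) = Nat.card K := by
        rw [h5]
        exact Nat.card_congr Subfield.topEquiv.toEquiv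
      rw [h6, Nat.card_eq_fintype_card, hK]
      have := hq.one_lt
      nlinarith only [this]
    have hperf : commutator SL(2, Fx φ 2) = ⊤ := perf2 hcard
    obtain ⟨s2, hs2⟩ : ∃ s2 : SL(2, Fx φ 2) →* E, s2 = t 2 := ⟨_, rfl⟩
    obtain ⟨s3, hs3⟩ : ∃ s3 : SL(2, Fx φ 2) →* E, s3 = t 3 := ⟨_, rfl⟩
    have hq2 : ∀ A, π (s2 A) = Q2 hφ hqq A := by
      rw [hs2]
      exact fun A => ht' 2 A
    have hq3 : ∀ A, π (s3 A) = Q3 hφ hqq A := by
      rw [hs3]
      exact fun A => ht' 3 A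
    obtain ⟨v, hv⟩ : ∃ v : (Fx φ 2)ˣ, v = u 3 := ⟨_, rfl⟩
    have h32 : ∀ A, s3 (dg v) * s2 A * (s3 (dg v))⁻¹ = s2 (cj2 v⁻¹ A) := by
      have h5 : (MulAut.conj (s3 (dg v))).toMonoidHom.comp s2 = s2.comp (cj2 v⁻¹) := by
        refine hom_eq hperf hc fun A => ?_
        change π (s3 (dg v) * s2 A * (s3 (dg v))⁻¹) = π (s2 (cj2 v⁻¹ A))
        rw [map_mul, map_mul, map_inv, hq3, hq2, hq2]
        exact rel32 hφ hqq v A
      exact fun A => DFunLike.congr_fun h5 A
    have h23' : ∀ A, s2 (dg v) * s3 A * (s2 (dg v))⁻¹ = s3 (cj2 v⁻¹ A) := by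
      have h5 : (MulAut.conj (s2 (dg v))).toMonoidHom.comp s3 = s3.comp (cj2 v⁻¹) := by
        refine hom_eq hperf hc fun A => ?_
        change π (s2 (dg v) * s3 A * (s2 (dg v))⁻¹) = π (s3 (cj2 v⁻¹ A))
        rw [map_mul, map_mul, map_inv, hq2, hq3, hq3]
        exact rel23 hφ hqq v A
      exact fun A => DFunLike.congr_fun h5 A
    have hc23 : s2 (dg v) * s3 (dg v) = s3 (dg v) * s2 (dg v) := by
      rw [hs2, hs3]
      exact hcom 2 3 (by decide) v v
    have h6 := scal v h32 h23' hc23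
    have h9 : x = s3 (dg v) * (s2 (dg v))⁻¹ := by
      rw [← hu]
      have k0 : t 0 (dg (u 0)) = 1 := by
        have : u 0 = 1 := e0
        rw [this, Cfsg.Agent.OddHalf.NI.Mult.dg_one, map_one]
      have k1 : t 1 (dg (u 1)) = 1 := by
        have : u 1 = 1 := e1
        rw [this, Cfsg.Agent.OddHalf.NI.Mult.dg_one, map_one]
      have k2 : t 2 (dg (u 2)) = (s2 (dg v))⁻¹ := by
        have h7 : (u 2 : (Fx φ 2)ˣ) = v⁻¹ := by rw [hv]; exact e2
        have h8 : s2 (dg (u 2 : (Fx φ 2)ˣ)) = (s2 (dg v))⁻¹ := by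
          rw [h7, ← map_inv, ← Cfsg.Agent.OddHalf.NI.Mult.dg_inv]
        rw [← h8, hs2]
        rfl
      have k3 : t 3 (dg (u 3)) = s3 (dg v) := by
        rw [hs3, hv]
        rfl
      rw [k0, k1, k2, k3, one_mul, one_mul]
      have h8 : Commute (s2 (dg v)) (s3 (dg v)) := hc23
      exact h8.inv_left.eq
    exact ⟨_, _, h9.trans h6⟩
  · push Not at hcom
    obtain ⟨i, j, hij, a, b, hab⟩ := hcom
    obtain ⟨ζ, hζ⟩ : ∃ ζ, t i (dg a) * t j (dg b) * (t i (dg a))⁻¹ * (t j (dg b))⁻¹ = ζ := ⟨_, rfl⟩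
    have hζ1 : π ζ = 1 := by
      have h5 := Cfsg.Agent.H958.TS.TwCommon.T_comm (π (t i (dg a)))
        (Cfsg.Agent.OddHalf.NI.Mult.dg_mem_T R' C' i a) (π (t j (dg b)))
        (Cfsg.Agent.OddHalf.NI.Mult.dg_mem_T R' C' j b)
      rw [← hζ, map_mul, map_mul, map_mul, map_inv, map_inv, h5]
      group
    have hζ2 : ζ ≠ 1 := by
      intro h5
      apply hab
      rw [h5] at hζ
      have h6 := mul_inv_eq_one.1 hζ
      exact mul_inv_eq_iff_eq_mul.1 h6
    have h5 : Nat.card π.ker = 3 := by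
      rcases (Nat.dvd_prime Nat.prime_three).1 h3 with h4 | h4
      · exfalso
        have h6 := Subgroup.card_eq_one.1 h4
        have h7 : ζ ∈ π.ker := hζ1
        rw [h6, Subgroup.mem_bot] at h7
        exact hζ2 h7
      · exact h4
    have h6 : (⟨x, hx⟩ : π.ker) ∈ Subgroup.zpowers (⟨ζ, hζ1⟩ : π.ker) :=
      mem_zpowers_of_prime_card h5 (fun h => hζ2 (congrArg Subtype.val h))
    obtain ⟨n, hn⟩ := h6
    have h7 : ζ ^ n = x := congrArg Subtype.val hn
    exact ⟨t i (dg a) ^ n, t j (dg b), by rw [← h7]; exact zpow_comm hζ (hc hζ1) n⟩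

end Cfsg.Agent.H231.QS.TwCen
end
end

-- part: H231/QS/Row2E6
section
set_option linter.all false
open scoped Cfsg.Agent.FastGrp

/-!
**The row `²E₆(q)`, `q ≡ 2 mod 3`** of Ore's theorem for quasisimple groups (S2491, S2492, piece C4).

* `allC_three` : every element of a perfect central extension of `²E₆(q)`, `q ≡ 2 mod 3`, with kernel of order 1 or 3 is a
  commutator (`q = 2` included);
* `rowA_twistedE6` : the row, `q ≠ 2`.
-/

set_option autoImplicit false

namespace Cfsg.Agent.H231.QS.Row2E6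

open Cfsg.Lie
open Cfsg.Agent.H51.Mult (PCE)
open Cfsg.Agent.H777.Ore (AllC IsC)
open Cfsg.Agent.H6.QO (RowA)
open Cfsg.Agent.Nodes.RGDFoldSL (Fx)
open Cfsg.Agent.H194.Ore (M3)

universe u v

theorem m3_all {K : Type u} [Field K] [Fintype K] {q : ℕ} (hq : IsPrimePow q) (hK : Fintype.card K = q ^ 2)
    (h23 : q % 3 = 2) (φ : K →+* K) (hφ : ∀ t, φ t = t ^ q) : M3 (Fx φ 1) := by
  have hc := Cfsg.Agent.H928.Ore.TwFin.card_Fx hq.one_lt hK hφ
  by_cases h2 : q = 2
  · exact Cfsg.Agent.H928.Ore.TwFin.m3_small (Or.inl (by rw [hc, h2]))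
  · refine Cfsg.Agent.H928.Ore.TwAll.m3 _ ?_
    rw [hc]
    have := hq.one_lt
    omega

/-- **Kernels of order 1 and 3.** -/
theorem allC_three {K : Type u} [Field K] [Fintype K] {q : ℕ} (hq : IsPrimePow q) (hK : Fintype.card K = q ^ 2)
    (h23 : q % 3 = 2) {E : Type v} [Group E] [Finite E] {π : E →* ↥(twistedE6 K q)} (hπ : PCE π)
    (h3 : Nat.card π.ker ∣ 3) : AllC E := by
  intro x
  by_cases hx : x ∈ π.ker
  · exact Cfsg.Agent.H231.QS.TwCen.central hq hK h23 hπ.surj hπ.cen h3 hπ.perf hx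
  · have : Fact (Nat.Prime 3) := ⟨Nat.prime_three⟩
    have h3' : IsPGroup 3 π.ker := by
      rcases (Nat.dvd_prime Nat.prime_three).1 h3 with h4 | h4
      · exact IsPGroup.of_card (n := 0) (by rw [h4, pow_zero])
      · exact IsPGroup.of_card (n := 1) (by rw [h4, pow_one])
    exact Cfsg.Agent.H231.QS.Tw.noncentral hq hK h23 (m3_all hq hK h23) hπ.surj hπ.cen h3' hπ.perf hx

/-- **The row `²E₆(q)`, `q ≡ 2 mod 3`, `q ≠ 2`.** -/
theorem rowA_twistedE6 {K : Type u} [Field K] [Fintype K] {q : ℕ} (hq : IsPrimePow q) (hK : Fintype.card K = q ^ 2)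
    (h23 : q % 3 = 2) (h2 : q ≠ 2) : RowA ↥(twistedE6 K q) := by
  intro L _ _ π hπ
  have e : ULift.{u} L ≃* L := MulEquiv.ulift
  have hπ' := hπ.comp_equiv e
  refine Cfsg.Agent.H777.Ore.AllC.of_surjective e.toMonoidHom e.surjective (allC_three hq hK h23 hπ' ?_)
  have hm := Cfsg.Agent.S2108.result hq hK h2
  have hg : Nat.gcd 3 (q + 1) = 3 := Nat.gcd_eq_left (by omega)
  rw [hg] at hm
  obtain ⟨f, hf⟩ := hm.2 (ULift.{u} L) (π.comp e.toMonoidHom) ⟨hπ'.surj, hπ'.cen, by rw [hπ'.perf]; exact le_top⟩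
  have h4 := Subgroup.card_dvd_of_surjective f hf
  have h5 : Nat.card (Multiplicative (ZMod 3)) = 3 := by
    rw [Nat.card_congr Multiplicative.toAdd, Nat.card_zmod]
  rwa [h5] at h4

end Cfsg.Agent.H231.QS.Row2E6
end
end
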